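import Groth.Agent.KFlatLib.AffinePull
import Groth.Agent.RpushLib.Compare
import Groth.Agent.QCohLib.Coherent
import Groth.Agent.S0036
import Groth.Agent.ConsLib.ModLoci

/-!
# The counit of a proper map which is an isomorphism off a closed subscheme
-/

set_option autoImplicit false

noncomputable section

universe u

open CategoryTheory CategoryTheory.Limits AlgebraicGeometry TopologicalSpace Opposite

namespace FormalCohLib

variable {X Y : Scheme.{u}} (f : X ⟶ Y) [IsProper f] [IsLocallyNoetherian Y]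

/-- Direct images of coherent modules along proper maps are coherent. -/
theorem isCoh_push_proper {F : X.Modules} (hF : Coh.IsCoh F) :
    Coh.IsCoh ((Scheme.Modules.pushforward f).obj F) :=
  QCohLib.isCoh_of_iso ((Scheme.Modules.pushforward f).rightDerivedZeroIsoSelf.app F)
    (Groth.Agent.S0036.result f F hF 0)

/-- Pullback to an affine open mapped isomorphically is surjective on sections. -/
lemma puSecLE_surjective (M : Y.Modules) [Coh.IsQCoh M] {U : Y.Opens} (hU : IsAffineOpen U) {U' : X.Opens}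
    (hU' : IsAffineOpen U') (h : U' ≤ f ⁻¹ᵁ U) (hs : Function.Surjective (f.appLE U U' h).hom) :
    Function.Surjective (KFlatLib.puSecLE f M h) := by
  let _ : Algebra Γ(Y, U) Γ(X, U') := (f.appLE U U' h).hom.toAlgebra
  let G := KFlatLib.pb f M
  let _ : Module Γ(Y, U) Γ(G, U') := Module.compHom Γ(G, U') (f.appLE U U' h).hom
  have : IsScalarTower Γ(Y, U) Γ(X, U') Γ(G, U') := IsScalarTower.of_algebraMap_smul fun _ _ => rfl
  let pu : Γ(M, U) →ₗ[Γ(Y, U)] Γ(G, U') :=
    { toFun := KFlatLib.puSecLE f M h, map_add' := map_add _,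
      map_smul' := fun r m => KFlatLib.puSecLE_smul f _ h r m }
  have hbc : IsBaseChange Γ(X, U') pu :=
    KFlatLib.isBaseChange_puSec f M hU hU' h (fun _ => rfl) pu (fun _ => rfl)
  intro y
  have hy : y ∈ LinearMap.range pu := by
    induction y using hbc.inductionOn with
    | zero => exact zero_mem _
    | tmul m => exact ⟨m, rfl⟩
    | smul s n hn =>
      obtain ⟨r, rfl⟩ := hs s
      exact Submodule.smul_mem _ r hn
    | add a b ha hb => exact add_mem ha hb
  exact hy

/-- A uniform exponent for a finite module. -/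
lemma exists_pow_smul_mem {R M : Type*} [CommRing R] [AddCommGroup M] [Module R M] [Module.Finite R M]
    (b : R) (S : Submodule R M) (h : ∀ x : M, ∃ e : ℕ, b ^ e • x ∈ S) : ∃ E : ℕ, ∀ x : M, b ^ E • x ∈ S := by
  classical
  obtain ⟨T, hT⟩ := Module.Finite.fg_top (R := R) (M := M)
  choose e he using h
  refine ⟨T.sup e, fun x => ?_⟩
  have hx : x ∈ Submodule.span R (T : Set M) := hT.ge trivial
  induction hx using Submodule.span_induction with
  | mem y hy =>
    obtain ⟨k, hk⟩ := Nat.le.dest (Finset.le_sup (f := e) hy)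
    rw [← hk, pow_add, mul_comm, mul_smul]
    exact S.smul_mem _ (he y)
  | zero => rw [smul_zero]; exact S.zero_mem
  | add p q _ _ hp hq => rw [smul_add]; exact S.add_mem hp hq
  | smul r p _ hp => rw [smul_comm]; exact S.smul_mem _ hp

variable (F : X.Modules) (hF : Coh.IsCoh F)

/-- The counit. -/
abbrev cou : (Scheme.Modules.pullback f).obj ((Scheme.Modules.pushforward f).obj F) ⟶ F :=
  (Scheme.Modules.pullbackPushforwardAdjunction f).counit.app F

lemma cou_puSec {U : Y.Opens} (n : Γ((Scheme.Modules.pushforward f).obj F, U)) :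
    (cou f F).app (f ⁻¹ᵁ U) (KFlatLib.puSec f n) = n :=
  congr($((Scheme.Modules.pullbackPushforwardAdjunction f).right_triangle_components F).app U n)

include hF in
/-- **The kernel and cokernel of the counit are killed by powers of functions vanishing off the bad locus.** -/
theorem exists_cou_bound (K : Y.IdealSheafData) (hiso : IsIso (f ∣_ K.support.compl)) {V : Y.Opens}
    (hV : IsAffineOpen V) {b : Γ(Y, V)} (hb : b ∈ K.ideal ⟨V, hV⟩) {W : X.Opens} (hW : IsAffineOpen W)
    (hWV : W ≤ f ⁻¹ᵁ V) :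
    ∃ E : ℕ, (∀ y : Γ(F, W), ∃ t, (cou f F).app W t = (f.appLE V W hWV).hom b ^ E • y) ∧
      ∀ t, (cou f F).app W t = 0 → (f.appLE V W hWV).hom b ^ E • t = 0 := by
  classical
  have : IsLocallyNoetherian X := LocallyOfFiniteType.isLocallyNoetherian f
  let N := (Scheme.Modules.pushforward f).obj F
  have hN : Coh.IsCoh N := isCoh_push_proper f hF
  let P := (Scheme.Modules.pullback f).obj N
  have := hN.1
  have := hF.1
  have hP : Coh.IsQCoh P := KFlatLib.isQCoh_pullback f N
  let b' : Γ(X, W) := (f.appLE V W hWV).hom b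
  let Wb := X.basicOpen b'
  -- the corresponding open downstairs
  let U₀ : Y.Opens := K.support.compl
  have hiso' : IsIso (f ∣_ U₀) := hiso
  have hWbU : Wb ≤ f ⁻¹ᵁ U₀ := by
    intro x hx
    have hx' : f x ∈ Y.basicOpen b := by
      have := (Scheme.basicOpen_appLE f W V hWV b).le hx
      exact this.2
    show f x ∈ U₀
    intro hs
    exact (Y.mem_zeroLocus_iff _ _).1 ((K.coe_support_inter ⟨V, hV⟩).le ⟨hs, Y.basicOpen_le b hx'⟩).1 b hb hx'
  let j := (f ⁻¹ᵁ U₀).ι
  have hWba : IsAffineOpen (j ⁻¹ᵁ Wb) :=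
    (hW.basicOpen b').preimage_of_isOpenImmersion j (by rw [Scheme.Opens.opensRange_ι]; exact hWbU)
  let U : Y.Opens := U₀.ι ''ᵁ ((inv (f ∣_ U₀)) ⁻¹ᵁ (j ⁻¹ᵁ Wb))
  have hUa : IsAffineOpen U := (hWba.preimage_of_isIso (inv (f ∣_ U₀))).image_of_isOpenImmersion _
  have hfU : f ⁻¹ᵁ U = Wb := by
    ext x
    constructor
    · rintro ⟨y, hy, hyx⟩
      have hx0 : x ∈ f ⁻¹ᵁ U₀ := by show f x ∈ U₀; rw [← hyx]; exact y.2
      have e : y = (f ∣_ U₀) ⟨x, hx0⟩ := by
        refine Subtype.ext ?_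
        refine hyx.trans ?_
        exact congr($(morphismRestrict_ι f U₀) (⟨x, hx0⟩ : (f ⁻¹ᵁ U₀ : X.Opens))).symm
      subst e
      have := hy
      change inv (f ∣_ U₀) ((f ∣_ U₀) ⟨x, hx0⟩) ∈ j ⁻¹ᵁ Wb at this
      rw [← Scheme.Hom.comp_apply, IsIso.hom_inv_id] at this
      exact this
    · intro hx
      refine ⟨(f ∣_ U₀) ⟨x, hWbU hx⟩, ?_, congr($(morphismRestrict_ι f U₀) (⟨x, hWbU hx⟩ : (f ⁻¹ᵁ U₀ : X.Opens)))⟩
      show inv (f ∣_ U₀) ((f ∣_ U₀) ⟨x, hWbU hx⟩) ∈ j ⁻¹ᵁ Wb
      rw [← Scheme.Hom.comp_apply, IsIso.hom_inv_id]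
      exact hx
  have hfUa : IsAffineOpen (f ⁻¹ᵁ U) := hfU ▸ hW.basicOpen b'
  have hUle : U ≤ U₀ := by rintro _ ⟨y, -, rfl⟩; exact y.2
  have happ : Function.Surjective (f.appLE U (f ⁻¹ᵁ U) le_rfl).hom := by
    have : IsIso (f.app U) := by
      have : IsIso ((f ∣_ U₀).app (U₀.ι ⁻¹ᵁ U)) := inferInstance
      have he : U₀.ι ''ᵁ (U₀.ι ⁻¹ᵁ U) = U := by
        rw [Scheme.Hom.image_preimage_eq_opensRange_inf, Scheme.Opens.opensRange_ι, inf_eq_right]
        exact hUle
      rw [morphismRestrict_app] at this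
      have h2 : IsIso (f.app (U₀.ι ''ᵁ (U₀.ι ⁻¹ᵁ U))) :=
        @IsIso.of_isIso_comp_right _ _ _ _ _ (f.app (U₀.ι ''ᵁ (U₀.ι ⁻¹ᵁ U)))
          (X.presheaf.map (eqToHom (image_morphismRestrict_preimage f U₀ (U₀.ι ⁻¹ᵁ U))).op) inferInstance this
      rwa [he] at h2
    rw [← Scheme.Hom.app_eq_appLE]
    exact (ConcreteCategory.bijective_of_isIso (f.app U)).2
  have hbij : Function.Bijective ((cou f F).app Wb) := by
    rw [← hfU]
    refine ⟨(injective_iff_map_eq_zero _).2 fun t ht => ?_, fun y => ⟨KFlatLib.puSec f (show Γ(N, U) from y), cou_puSec f F _⟩⟩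
    obtain ⟨n, hn⟩ := puSecLE_surjective f N hUa hfUa le_rfl happ t
    have hn' : KFlatLib.puSec f n = t := by
      rw [← hn, KFlatLib.puSecLE_apply]
      exact (congr($(P.presheaf.map_id (op (f ⁻¹ᵁ U))) (KFlatLib.puSec f n))).symm
    rw [← hn', cou_puSec] at ht
    rw [← hn', show n = 0 from ht]
    exact map_zero (((Scheme.Modules.pullbackPushforwardAdjunction f).unit.app N).app U).hom
  -- localisation
  have := QCohLib.finite_of_isFT hF.2 hW
  let Kr : Submodule Γ(X, W) Γ(P, W) := LinearMap.ker (QCohLib.appLin (cou f F) W)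
  have hPft : Coh.IsCoh P := ConsLib.isCoh_pullback f hN
  have := QCohLib.finite_of_isFT hPft.2 hW
  have : IsNoetherianRing Γ(X, W) := IsLocallyNoetherian.component_noetherian ⟨W, hW⟩
  have : Module.Finite Γ(X, W) Kr := Module.Finite.iff_fg.2 (IsNoetherian.noetherian Kr)
  have hres : ∀ (M : X.Modules) (e : ℕ) (m : Γ(M, W)),
      M.presheaf.map (homOfLE (X.basicOpen_le b')).op (b' ^ e • m) =
        X.presheaf.map (homOfLE (X.basicOpen_le b')).op b' ^ e • M.presheaf.map (homOfLE (X.basicOpen_le b')).op m :=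
    fun M e m => by rw [Scheme.Modules.map_smul, map_pow]
  obtain ⟨E₁, hE₁⟩ := exists_pow_smul_mem b' (LinearMap.range (QCohLib.appLin (cou f F) W)) fun y => by
    obtain ⟨s, hs⟩ := hbij.2 (F.presheaf.map (homOfLE (X.basicOpen_le b')).op y)
    obtain ⟨k, t, ht⟩ := (QCohLib.localizingAt_of_isQCoh hW P b').exists_extend s
    have h0 : F.presheaf.map (homOfLE (X.basicOpen_le b')).op ((cou f F).app W t - b' ^ k • y) = 0 := by
      rw [map_sub, hres, ← QCohLib.app_map, ht, QCohLib.app_smul, hs]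
      exact sub_self _
    obtain ⟨l, hl⟩ := (QCohLib.localizingAt_of_isQCoh hW F b').eq_zero _ h0
    have hl' : b' ^ l • ((cou f F).app W t - b' ^ k • y) = 0 := by simpa using hl
    refine ⟨l + k, b' ^ l • t, ?_⟩
    show (cou f F).app W (b' ^ l • t) = _
    rw [QCohLib.app_smul, pow_add, mul_smul]
    rwa [smul_sub, sub_eq_zero] at hl'
  obtain ⟨E₂, hE₂⟩ := exists_pow_smul_mem b' (⊥ : Submodule Γ(X, W) Kr) fun t => by
    have h0 : P.presheaf.map (homOfLE (X.basicOpen_le b')).op t.1 = 0 := by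
      refine hbij.1 ?_
      rw [map_zero, QCohLib.app_map, show (cou f F).app W t.1 = 0 from t.2, map_zero]
    obtain ⟨l, hl⟩ := (QCohLib.localizingAt_of_isQCoh hW P b').eq_zero _ h0
    exact ⟨l, (Submodule.mem_bot _).2 (Subtype.ext (by simpa using hl))⟩
  refine ⟨E₁ + E₂, fun y => ?_, fun t ht => ?_⟩
  · obtain ⟨t, ht⟩ := hE₁ (b' ^ E₂ • y)
    refine ⟨t, ht.trans ?_⟩
    rw [smul_smul, ← pow_add]
  · have := congrArg Subtype.val ((Submodule.mem_bot _).1 (hE₂ ⟨t, ht⟩))
    rw [pow_add, mul_smul]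
    show b' ^ E₁ • (b' ^ E₂ • t) = 0
    rw [show b' ^ E₂ • t = 0 from this, smul_zero]

end FormalCohLib

end
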