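import Groth.Agent.FormalCohLib.Ample
import Groth.Agent.AmpleDevLib.Pull
import Groth.Agent.TwistLib.Ample
import Mathlib.AlgebraicGeometry.Morphisms.Proper

/-!
# Closed subschemes of projective space
-/

set_option autoImplicit false

noncomputable section

universe u

open CategoryTheory CategoryTheory.Limits AlgebraicGeometry

namespace FormalCohLib

variable (n : ℕ) (R : Type u) [CommRing R]

theorem isProper_projToSpec : IsProper (CohB1.ProjSpace.toSpec n R) := by
  let 𝒜 := CohB1.polyGrading n R
  haveI : IsScalarTower R (𝒜 0) (MvPolynomial (Fin (n + 1)) R) :=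
    IsScalarTower.of_algebraMap_eq (R := R) (S := 𝒜 0) fun _ => rfl
  haveI : Algebra.FiniteType (𝒜 0) (MvPolynomial (Fin (n + 1)) R) :=
    Algebra.FiniteType.of_restrictScalars_finiteType R _ _
  have hb : Function.Bijective (algebraMap R (𝒜 0)) := by
    refine ⟨fun a b h => MvPolynomial.C_injective _ _ (congrArg Subtype.val h), fun p => ?_⟩
    obtain ⟨r, hr⟩ : ∃ r : R, MvPolynomial.C r = (p : MvPolynomial (Fin (n + 1)) R) :=
      ⟨_, ((MvPolynomial.totalDegree_eq_zero_iff_eq_C).mp (Nat.le_zero.mp
        (MvPolynomial.IsHomogeneous.totalDegree_le p.2))).symm⟩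
    exact ⟨r, Subtype.ext hr⟩
  haveI : IsIso (CommRingCat.ofHom (algebraMap R (𝒜 0))) :=
    (ConcreteCategory.isIso_iff_bijective _).mpr hb
  haveI : IsProper (Proj.toSpecZero 𝒜) := inferInstance
  exact inferInstanceAs (IsProper (Proj.toSpecZero 𝒜 ≫ Spec.map (CommRingCat.ofHom _)))

theorem isAmple_twistProjSpace : CohB1.IsAmple (Twist.twistProjSpace n R 1) := by
  classical
  refine TwistLib.twist_one_isAmple (CohB1.polyGrading n R)
    (Finset.univ.image (MvPolynomial.X : Fin (n + 1) → MvPolynomial (Fin (n + 1)) R)) (fun f hf => ?_) (fun x hx => ?_)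
  · obtain ⟨i, -, rfl⟩ := Finset.mem_image.mp hf
    exact MvPolynomial.isHomogeneous_X R i
  · rw [Finset.coe_image, Finset.coe_univ, MvPolynomial.mem_ideal_span_X_image]
    intro m hm
    by_contra! hcon
    have hm0 : m = 0 := Finsupp.ext fun i => hcon i trivial
    have hx0 : MvPolynomial.homogeneousComponent 0 x = 0 :=
      (MvPolynomial.decomposition.decompose'_apply x 0).symm.trans ((HomogeneousIdeal.mem_irrelevant_iff _ x).mp hx)
    rw [MvPolynomial.homogeneousComponent_zero, MvPolynomial.C_eq_zero] at hx0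
    exact MvPolynomial.mem_support_iff.mp hm (hm0 ▸ hx0)

/-- **Grothendieck existence for closed subschemes of projective space.** -/
theorem exists_algebraisation_projective [IsNoetherianRing R] (I : Ideal R) [IsAdicComplete I R] (X : Scheme.{u})
    [X.Over (Spec (CommRingCat.of R))] (i : X ⟶ CohB1.ProjSpace n R) [IsClosedImmersion i]
    (hi : i ≫ CohB1.ProjSpace.toSpec n R = X ↘ Spec (CommRingCat.of R))
    {G : ℕᵒᵖ ⥤ X.Modules} (hG : Formal.IsCohFormal I G) :
    ∃ M : X.Modules, Coh.IsCoh M ∧ Nonempty (Formal.completion I M ≅ G) := by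
  have := isProper_projToSpec n R
  have : IsProper (X ↘ Spec (CommRingCat.of R)) := hi ▸ inferInstance
  exact exists_algebraisation_ample
    (AmpleDevLib.isAmple_pb (f := i) (isAmple_twistProjSpace n R).1 (isAmple_twistProjSpace n R)) hG

end FormalCohLib

end
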