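import Groth.Agent.FormalCohLib.QuotK

/-!
# Tools for exact sequences of coherent formal modules
-/

set_option autoImplicit false

noncomputable section

universe u

open CategoryTheory CategoryTheory.Limits AlgebraicGeometry TopologicalSpace Opposite
open GrSysLib (trMap)

namespace FormalCohLib

/-- Submodules over the completion are closed. -/
theorem AdSys.mem_of_proj {B : Type u} [CommRing B] [IsNoetherianRing B] {J : Ideal B} (T : AdSys J)
    (N : Submodule (AdicCompletion J B) T.L) (y : T.L) (h : ∀ n, ∃ v ∈ N, T.proj n v = T.proj n y) : y ∈ N := by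
  have := Groth.Agent.S0543.result B J
  have := T.main.1
  let P := AdicCompletion J B
  let JP := J.map (algebraMap B P)
  have : IsAdicComplete JP P :=
    (IsAdicComplete.map_algebraMap_iff _ _).mpr (AdicCompletion.isAdicComplete (IsNoetherian.noetherian J))
  have hq : Submodule.Quotient.mk (p := N) y ∈ ⨅ n : ℕ, JP ^ n • (⊤ : Submodule P (T.L ⧸ N)) := by
    refine (Submodule.mem_iInf _).2 fun n => ?_
    refine Submodule.smul_mono_left (Ideal.pow_le_pow_right (Nat.le_succ n)) ?_
    obtain ⟨v, hv, hvy⟩ := h n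
    have h1 : y - v ∈ J ^ (n + 1) • (⊤ : Submodule B T.L) := by
      rw [← T.ker_proj, LinearMap.mem_ker, map_sub, hvy, sub_self]
    have h2 : y - v ∈ JP ^ (n + 1) • (⊤ : Submodule P T.L) := by
      rw [← Submodule.restrictScalars_mem B, ← Ideal.map_pow, Ideal.smul_restrictScalars,
        Submodule.restrictScalars_top]
      exact h1
    have h3 := Submodule.mem_map_of_mem (f := N.mkQ) h2
    rw [Submodule.map_smul''] at h3
    have e : N.mkQ (y - v) = Submodule.Quotient.mk y :=
      (Submodule.Quotient.eq _).2 (by rw [sub_sub_cancel_left]; exact neg_mem hv)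
    rw [e] at h3
    exact Submodule.smul_mono le_rfl (le_top (a := (⊤ : Submodule P T.L).map N.mkQ)) h3
  rw [Ideal.iInf_pow_smul_eq_bot_of_le_jacobson JP (IsAdicComplete.le_jacobson_bot JP), Submodule.mem_bot,
    Submodule.Quotient.mk_eq_zero] at hq
  exact hq

/-- Multiples by an ideal are closed. -/
theorem AdSys.mem_smul_of_proj {B : Type u} [CommRing B] [IsNoetherianRing B] {J : Ideal B} (T : AdSys J)
    (K : Ideal B) (y : T.L) (h : ∀ n, T.proj n y ∈ K • (⊤ : Submodule B (T.M n))) :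
    y ∈ K • (⊤ : Submodule B T.L) := by
  have e : ((K.map (algebraMap B (AdicCompletion J B))) • (⊤ : Submodule (AdicCompletion J B) T.L)).restrictScalars B =
      K • (⊤ : Submodule B T.L) := by
    rw [Ideal.smul_restrictScalars, Submodule.restrictScalars_top]
  rw [← e]
  refine T.mem_of_proj _ y fun n => ?_
  have h1 := h n
  rw [← LinearMap.range_eq_top.2 (T.proj_surjective n), LinearMap.range_eq_map, ← Submodule.map_smul''] at h1
  obtain ⟨v, hv, hvy⟩ := h1
  refine ⟨v, ?_, hvy⟩
  rw [← Submodule.restrictScalars_mem B, e]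
  exact hv

variable {A : Type u} [CommRing A] {I : Ideal A} {X : Scheme.{u}} [X.Over (Spec (CommRingCat.of A))]
  [AlgebraicGeometry.IsNoetherian X] {G H K E : ℕᵒᵖ ⥤ X.Modules}

/-- `j` is a kernel of `α` on all limits. -/
def IsLimKer (hK : Formal.IsCohFormal I K) (hG : Formal.IsCohFormal I G) (hH : Formal.IsCohFormal I H)
    (j : K ⟶ G) (α : G ⟶ H) : Prop :=
  ∀ (U : X.Opens) (hU : IsAffineOpen U), Function.Injective (secHom hK hG hU j).lim ∧
    LinearMap.range (secHom hK hG hU j).lim = limKer hG hH hU α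

lemma lim_comp (hE : Formal.IsCohFormal I E) (hG : Formal.IsCohFormal I G) (hH : Formal.IsCohFormal I H)
    {U : X.Opens} (hU : IsAffineOpen U) (β : E ⟶ G) (α : G ⟶ H) (x : (secSys hE hU).L) :
    (secHom hG hH hU α).lim ((secHom hE hG hU β).lim x) = (secHom hE hH hU (β ≫ α)).lim x :=
  rfl

lemma lim_zero (hG : Formal.IsCohFormal I G) (hH : Formal.IsCohFormal I H) {U : X.Opens} (hU : IsAffineOpen U)
    (x : (secSys hG hU).L) : (secHom hG hH hU (0 : G ⟶ H)).lim x = 0 :=
  rfl

lemma comp_eq_zero_of_isLimKer {hK : Formal.IsCohFormal I K} {hG : Formal.IsCohFormal I G}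
    {hH : Formal.IsCohFormal I H} {j : K ⟶ G} {α : G ⟶ H} (h : IsLimKer hK hG hH j α) : j ≫ α = 0 := by
  obtain ⟨C, hC⟩ := exists_cover (X := X)
  refine eq_zero_of_lim hK hH _ (fun V : C => V.1.1) (fun V => V.1.2)
    (fun x => by obtain ⟨V, hV, hx⟩ := hC x; exact ⟨⟨V, hV⟩, hx⟩) fun V x => ?_
  exact LinearMap.mem_ker.1 ((h V.1.1 V.1.2).2.le ⟨x, rfl⟩)

/-- **A kernel on the limits is a kernel.** -/
theorem IsLimKer.exists_lift {hK : Formal.IsCohFormal I K} {hG : Formal.IsCohFormal I G}
    {hH : Formal.IsCohFormal I H} {j : K ⟶ G} {α : G ⟶ H} (h : IsLimKer hK hG hH j α)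
    (hE : Formal.IsCohFormal I E) (β : E ⟶ G) (hβ : β ≫ α = 0) : ∃ γ : E ⟶ K, γ ≫ j = β := by
  obtain ⟨K₀, hK₀, j₀, hj₀, huniv, hex⟩ := exists_kernel hG hH α
  obtain ⟨v, hv, -⟩ := huniv K hK j (comp_eq_zero_of_isLimKer h)
  obtain ⟨γ, hγ, -⟩ := huniv E hE β hβ
  obtain ⟨C, hC⟩ := exists_cover (X := X)
  have : IsIso v := by
    refine isIso_of_lim hK hK₀ v (fun V : C => V.1.1) (fun V => V.1.2)
      (fun x => by obtain ⟨V, hV, hx⟩ := hC x; exact ⟨⟨V, hV⟩, hx⟩) fun V => ?_
    obtain ⟨hi, hr⟩ := h V.1.1 V.1.2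
    obtain ⟨hi₀, hr₀⟩ := hex V.1.1 V.1.2
    have e : ∀ x, (secHom hK₀ hG V.1.2 j₀).lim ((secHom hK hK₀ V.1.2 v).lim x) = (secHom hK hG V.1.2 j).lim x :=
      fun x => by rw [lim_comp, hv]
    refine ⟨fun x y hxy => hi (by rw [← e, ← e, hxy]), fun y => ?_⟩
    obtain ⟨x, hx⟩ := hr.ge (hr₀.le ⟨y, rfl⟩)
    exact ⟨x, hi₀ ((e x).trans hx)⟩
  refine ⟨γ ≫ inv v, ?_⟩
  rw [Category.assoc, (IsIso.inv_comp_eq v).2 hv.symm, hγ]

section Killed

variable (K' : X.IdealSheafData)

lemma killedByIdeal_of_mono {M N : X.Modules} (f : M ⟶ N) [Mono f] (h : ClSub.KilledByIdeal K' N) :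
    ClSub.KilledByIdeal K' M := fun U a ha m =>
  QCohLib.app_injective_of_mono f U.1
    ((QCohLib.app_smul f U.1 a m).trans ((h U a ha _).trans (map_zero (f.app U.1).hom).symm))

lemma killedByIdeal_of_surjective {M N : X.Modules} (f : M ⟶ N)
    (hs : ∀ U : X.affineOpens, Function.Surjective (f.app U.1)) (h : ClSub.KilledByIdeal K' M) :
    ClSub.KilledByIdeal K' N := fun U a ha n => by
  obtain ⟨m, rfl⟩ := hs U n
  exact (QCohLib.app_smul f U.1 a m).symm.trans ((congrArg _ (h U a ha m)).trans (map_zero (f.app U.1).hom))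

lemma killedByIdeal_modPow {M : X.Modules} [Coh.IsQCoh M] (n : ℕ) (h : ClSub.KilledByIdeal K' M) :
    ClSub.KilledByIdeal K' (Formal.modPow I n M) :=
  killedByIdeal_of_surjective K' (Formal.modPowπ I n M) (fun U => app_modPowπ_surjective I M n U.2) h

lemma lim_quotFπ_surjective (hG : Formal.IsCohFormal I G) {U : X.Opens} (hU : IsAffineOpen U) :
    Function.Surjective (secHom hG (isCohFormal_quotF K' hG) hU (quotFπ K' G)).lim :=
  have := noethRing hU
  AdHom.lim_surjective _ fun n => have := (hG.1 n).1; app_quotKπ_surjective K' (G.obj (op n)) hU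

lemma lim_quotFπ_eq_zero (hG : Formal.IsCohFormal I G) {U : X.Opens} (hU : IsAffineOpen U) (x : (secSys hG hU).L) :
    (secHom hG (isCohFormal_quotF K' hG) hU (quotFπ K' G)).lim x = 0 ↔
      x ∈ K'.ideal ⟨U, hU⟩ • (⊤ : Submodule Γ(X, U) (secSys hG hU).L) := by
  have := noethRing hU
  refine ⟨fun h => AdSys.mem_smul_of_proj _ _ x fun n => ?_, fun h => AdSys.ext fun n => ?_⟩
  · have := (hG.1 n).1
    refine (app_quotKπ_eq_zero K' (G.obj (op n)) hU _).1 ?_
    have h1 := congrArg ((secSys (isCohFormal_quotF K' hG) hU).proj n) h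
    rwa [map_zero] at h1
  · have := (hG.1 n).1
    rw [map_zero]
    refine (app_quotKπ_eq_zero K' (G.obj (op n)) hU _).2 ?_
    have h1 := Submodule.mem_map_of_mem (f := (secSys hG hU).proj n) h
    rw [Submodule.map_smul''] at h1
    exact Submodule.smul_mono le_rfl le_top h1

/-- The kernel of the completion of the projection to the quotient. -/
lemma lim_complMap_quotKπ_eq_zero {M : X.Modules} (hM : Coh.IsCoh M) {U : X.Opens} (hU : IsAffineOpen U)
    (x : (secSys (isCohFormal_completion (I := I) hM) hU).L) :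
    (secHom (isCohFormal_completion (I := I) hM) (isCohFormal_completion (isCoh_quotK K' hM)) hU
        (complMap I (quotKπ K' M))).lim x = 0 ↔
      x ∈ K'.ideal ⟨U, hU⟩ • (⊤ : Submodule Γ(X, U) (secSys (isCohFormal_completion (I := I) hM) hU).L) := by
  have := noethRing hU
  have := hM.1
  have := (isCoh_quotK K' hM).1
  refine ⟨fun h => AdSys.mem_smul_of_proj _ _ x fun n => ?_, fun h => AdSys.ext fun n => ?_⟩
  · obtain ⟨m, hm⟩ := exists_proj_completion hU hM n x
    have h1 : (Formal.modPowπ I (n + 1) ((quotK K').obj M)).app U ((quotKπ K' M).app U m) = 0 := by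
      rw [← complMap_app, hm]
      have := congrArg ((secSys (isCohFormal_completion (I := I) (isCoh_quotK K' hM)) hU).proj n) h
      rwa [map_zero] at this
    have h2 := (app_modPowπ_eq_zero I _ _ hU _).1 h1
    have hs : Function.Surjective (QCohLib.appLin (quotKπ K' M) U) := app_quotKπ_surjective K' M hU
    rw [← LinearMap.range_eq_top.2 hs, LinearMap.range_eq_map, ← Submodule.map_smul''] at h2
    obtain ⟨j, hj, hjm⟩ := h2
    have h3 : m - j ∈ K'.ideal ⟨U, hU⟩ • (⊤ : Submodule Γ(X, U) Γ(M, U)) :=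
      (app_quotKπ_eq_zero K' M hU _).1 (by rw [map_sub, sub_eq_zero]; exact hjm.symm)
    have h4 := Submodule.mem_map_of_mem (f := QCohLib.appLin (Formal.modPowπ I (n + 1) M) U) h3
    rw [Submodule.map_smul''] at h4
    have h5 : (Formal.modPowπ I (n + 1) M).app U (m - j) = (Formal.modPowπ I (n + 1) M).app U m := by
      rw [map_sub, (app_modPowπ_eq_zero I M _ hU j).2 hj, sub_zero]
    rw [← hm, ← h5]
    exact Submodule.smul_mono le_rfl le_top h4
  · rw [map_zero]
    have h1 := Submodule.mem_map_of_mem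
      (f := (secSys (isCohFormal_completion (I := I) (isCoh_quotK K' hM)) hU).proj n ∘ₗ
        (secHom (isCohFormal_completion (I := I) hM) (isCohFormal_completion (isCoh_quotK K' hM)) hU
          (complMap I (quotKπ K' M))).lim) h
    rw [Submodule.map_smul''] at h1
    refine Submodule.smul_induction_on (p := fun z => z = 0) h1 (fun a ha z _ => ?_) fun z w hz hw => by
      rw [hz, hw, add_zero]
    exact killedByIdeal_modPow K' (n + 1) (killed_quotK K' M) ⟨U, hU⟩ a ha z

end Killed

end FormalCohLib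

end
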