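import Groth.Agent.FormalCohLib.PointAlg
import Groth.Agent.FormalCohLib.Tools
import Groth.Agent.KFlatLib.AffinePull
import Mathlib.AlgebraicGeometry.Morphisms.Proper

/-!
# Elements of the limit which die on the total space of a proper map are torsion
-/

set_option autoImplicit false

noncomputable section

universe u

open CategoryTheory CategoryTheory.Limits AlgebraicGeometry TopologicalSpace Opposite TensorProduct

namespace FormalCohLib

variable {A : Type u} [CommRing A] {I : Ideal A} {X Y : Scheme.{u}} [Y.Over (Spec (CommRingCat.of A))]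
  [AlgebraicGeometry.IsNoetherian Y] (f : X ⟶ Y) [IsProper f]

/-- **Elements killed on the total space of a proper map which is an isomorphism off `K` are `K`-torsion.** -/
theorem exists_pow_smul_eq_zero {C : ℕᵒᵖ ⥤ Y.Modules} (hC : Formal.IsCohFormal I C) {V : Y.Opens}
    (hV : IsAffineOpen V) (K : Y.IdealSheafData) (hiso : IsIso (f ∣_ K.support.compl)) {b : Γ(Y, V)}
    (hb : b ∈ K.ideal ⟨V, hV⟩) {ι : Type*} (W : ι → X.Opens) (hW : ∀ i, IsAffineOpen (W i))
    (hle : ∀ i, W i ≤ f ⁻¹ᵁ V) (hcov : ∀ x : X, f x ∈ V → ∃ i, x ∈ W i) (E : ℕ) (z : (secSys hC hV).L)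
    (hz : ∀ i n, (f.appLE V (W i) (hle i)).hom b ^ E •
      KFlatLib.puSecLE f (C.obj (op n)) (hle i) ((secSys hC hV).proj n z) = 0) :
    ∃ e, b ^ e • z = 0 := by
  classical
  let B : Type u := Γ(Y, V)
  let J : Ideal B := idU I V
  let Bh : Type u := AdicCompletion J B
  have hBnoeth : IsNoetherianRing B := noethRing hV
  have : IsNoetherianRing Bh := Groth.Agent.S0543.result B J
  let L := (secSys hC hV).L
  have hLfin : Module.Finite Bh L := (secSys hC hV).main.1
  let an : Ideal Bh := LinearMap.ker (LinearMap.toSpanSingleton Bh L z)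
  suffices h : algebraMap B Bh b ∈ an.radical by
    obtain ⟨e, he⟩ := h
    refine ⟨e, ?_⟩
    rw [← map_pow] at he
    rw [← algebraMap_smul Bh (b ^ e) z]
    exact he
  rw [Ideal.radical_eq_sInf]
  refine Ideal.mem_sInf.2 ?_
  rintro P ⟨haP, hP⟩
  by_contra hbP
  -- the formal neighbourhood as a scheme
  let qa : Spec (CommRingCat.of Bh) ⟶ Spec Γ(Y, V) := Spec.map (CommRingCat.ofHom (algebraMap B Bh))
  let q : Spec (CommRingCat.of Bh) ⟶ Y := qa ≫ hV.fromSpec
  let Xh := pullback f q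
  let p : Xh ⟶ X := pullback.fst f q
  let g : Xh ⟶ Spec (CommRingCat.of Bh) := pullback.snd f q
  have hg : IsProper g := MorphismProperty.pullback_snd f q inferInstance
  have hXh : IsLocallyNoetherian Xh := LocallyOfFiniteType.isLocallyNoetherian g
  have hXc : CompactSpace Xh := QuasiCompact.compactSpace_of_compactSpace g
  -- the local scheme at `P` lifts
  let Loc : Type u := Localization.AtPrime P
  let la : Spec (CommRingCat.of Loc) ⟶ Spec (CommRingCat.of Bh) := Spec.map (CommRingCat.ofHom (algebraMap Bh Loc))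
  let U₀ : Y.Opens := K.support.compl
  have hrange : Set.range (la ≫ q) ⊆ Set.range U₀.ι := by
    rw [Scheme.Opens.range_ι]
    rintro _ ⟨t, rfl⟩
    have h1 : algebraMap Bh Loc (algebraMap B Bh b) ∉ t.asIdeal := fun h =>
      t.isPrime.ne_top (Ideal.eq_top_of_isUnit_mem _ h
        (IsLocalization.map_units Loc (⟨_, hbP⟩ : P.primeCompl)))
    have h2 : (la ≫ q) t ∈ Y.basicOpen b := by
      show qa (la t) ∈ hV.fromSpec ⁻¹ᵁ Y.basicOpen b
      rw [hV.fromSpec_preimage_basicOpen]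
      exact h1
    intro hs
    have h3 := ((K.coe_support_inter ⟨V, hV⟩).le ⟨hs, Y.basicOpen_le b h2⟩).1
    exact (Y.mem_zeroLocus_iff _ _).1 h3 b hb h2
  let l : Spec (CommRingCat.of Loc) ⟶ U₀ := IsOpenImmersion.lift U₀.ι (la ≫ q) hrange
  have hiso' : IsIso (f ∣_ U₀) := hiso
  let t₀ : Spec (CommRingCat.of Loc) ⟶ X := l ≫ inv (f ∣_ U₀) ≫ (f ⁻¹ᵁ U₀).ι
  have ht₀ : t₀ ≫ f = la ≫ q := by
    simp only [t₀, Category.assoc, ← morphismRestrict_ι, IsIso.inv_hom_id_assoc]
    exact IsOpenImmersion.lift_fac _ _ _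
  let sP : Spec (CommRingCat.of Loc) ⟶ Xh := pullback.lift t₀ la ht₀
  -- a closed specialisation of the lifted point
  let η : Xh := sP (IsLocalRing.closedPoint Loc)
  obtain ⟨x, hxη, hxc⟩ := IsClosed.exists_closed_singleton (isClosed_closure (s := ({η} : Set Xh)))
    ⟨η, subset_closure rfl⟩
  have hsp : η ⤳ x := specializes_iff_mem_closure.2 hxη
  have hgx : IsClosed ({g x} : Set (Spec (CommRingCat.of Bh))) := by
    rw [← Set.image_singleton]
    exact g.isClosedMap _ hxc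
  have hmax : (g x).asIdeal.IsMaximal := (PrimeSpectrum.isClosed_singleton_iff_isMaximal _).1 hgx
  have hJmax : J.map (algebraMap B Bh) ≤ (g x).asIdeal := by
    have : IsAdicComplete (J.map (algebraMap B Bh)) Bh :=
      (IsAdicComplete.map_algebraMap_iff _ _).mpr (AdicCompletion.isAdicComplete (IsNoetherian.noetherian J))
    refine (IsAdicComplete.le_jacobson_bot (J.map (algebraMap B Bh))).trans ?_
    exact sInf_le ⟨bot_le, hmax⟩
  have hpxV : f (p x) ∈ V := by
    show (p ≫ f) x ∈ V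
    rw [pullback.condition]
    show hV.fromSpec (qa (g x)) ∈ V
    rw [← SetLike.mem_coe, ← hV.range_fromSpec]
    exact ⟨_, rfl⟩
  obtain ⟨i, hi⟩ := hcov (p x) hpxV
  obtain ⟨_, ⟨W', hW', rfl⟩, hxW', hW'le⟩ :=
    Xh.isBasis_affineOpens.exists_subset_of_mem_open (show x ∈ (p ⁻¹ᵁ W i : Set Xh) from hi) (p ⁻¹ᵁ W i).isOpen
  -- the rings
  let S : Type u := Γ(Xh, W')
  have hSn : IsNoetherianRing S := IsLocallyNoetherian.component_noetherian ⟨W', hW'⟩
  let ψh : Bh →+* S := ((Scheme.ΓSpecIso (CommRingCat.of Bh)).inv ≫ g.appLE ⊤ W' le_top).hom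
  let algS : Algebra Bh S := ψh.toAlgebra
  let S₀ : Type u := Γ(X, W i)
  let ψ₀ : B →+* S₀ := (f.appLE V (W i) (hle i)).hom
  let ψ₁ : S₀ →+* S := (p.appLE (W i) W' hW'le).hom
  have hcomp : ∀ c : B, ψ₁ (ψ₀ c) = ψh (algebraMap B Bh c) := fun c => by
    have e1 : f.appLE V (W i) (hle i) ≫ p.appLE (W i) W' hW'le =
        CommRingCat.ofHom (algebraMap B Bh) ≫ (Scheme.ΓSpecIso (CommRingCat.of Bh)).inv ≫ g.appLE ⊤ W' le_top := by
      rw [Scheme.Hom.appLE_comp_appLE]
      have e2 : ∀ (r : Xh ⟶ Y) (hr : p ≫ f = r) (h : W' ≤ r ⁻¹ᵁ V),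
          (p ≫ f).appLE V W' (hr ▸ h) = r.appLE V W' h := by
        rintro r rfl h; rfl
      have hgle : W' ≤ (g ≫ q) ⁻¹ᵁ V := by
        intro y hy
        have := hle i (hW'le hy)
        show (g ≫ q) y ∈ V
        rw [← pullback.condition]
        exact this
      rw [e2 (g ≫ q) pullback.condition hgle]
      have hqV : ⊤ ≤ q ⁻¹ᵁ V := fun y _ => by
        show hV.fromSpec (qa y) ∈ V
        rw [← SetLike.mem_coe, ← hV.range_fromSpec]
        exact ⟨_, rfl⟩
      rw [← Scheme.Hom.appLE_comp_appLE g q V ⊤ W' hqV le_top, ← Category.assoc]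
      congr 1
      show (qa ≫ hV.fromSpec).appLE V ⊤ hqV = _
      rw [Scheme.Hom.comp_appLE, hV.fromSpec_app_self, Category.assoc, Scheme.Hom.map_appLE]
      exact (Scheme.ΓSpecIso_inv_naturality (CommRingCat.ofHom (algebraMap B Bh))).symm
    exact congr($(e1) c)
  have hW'a : IsAffineOpen W' := hW'
  have hmem : ∀ u : S, u ∉ (hW'a.primeIdealOf ⟨x, hxW'⟩).asIdeal ↔ x ∈ Xh.basicOpen u := fun u => by
    conv_rhs => rw [← show hW'a.fromSpec (hW'a.primeIdealOf ⟨x, hxW'⟩) = x from hW'a.fromSpec_primeIdealOf ⟨x, hxW'⟩]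
    show _ ↔ hW'a.primeIdealOf ⟨x, hxW'⟩ ∈ hW'a.fromSpec ⁻¹ᵁ Xh.basicOpen u
    rw [hW'a.fromSpec_preimage_basicOpen]
    rfl
  let qI : Ideal S := (hW'a.primeIdealOf ⟨x, hxW'⟩).asIdeal
  have hηW' : η ∈ W' := hsp.mem_open W'.isOpen hxW'
  have hsPW : (⊤ : (Spec (CommRingCat.of Loc)).Opens) ≤ sP ⁻¹ᵁ W' := fun t _ =>
    ((IsLocalRing.specializes_closedPoint t).map sP.continuous).mem_open W'.isOpen hηW'
  let φ₀ : S →+* Loc := (sP.appLE W' ⊤ hsPW ≫ (Scheme.ΓSpecIso (CommRingCat.of Loc)).hom).hom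
  have hφ₀ : ∀ c : Bh, φ₀ (ψh c) = algebraMap Bh Loc c := fun c => by
    have e1 : (Scheme.ΓSpecIso (CommRingCat.of Bh)).inv ≫ g.appLE ⊤ W' le_top ≫ sP.appLE W' ⊤ hsPW ≫
        (Scheme.ΓSpecIso (CommRingCat.of Loc)).hom = CommRingCat.ofHom (algebraMap Bh Loc) := by
      rw [← Category.assoc (g.appLE ⊤ W' le_top), Scheme.Hom.appLE_comp_appLE]
      have e2 : ∀ (r : Spec (CommRingCat.of Loc) ⟶ Spec (CommRingCat.of Bh)) (hr : sP ≫ g = r) (h : ⊤ ≤ r ⁻¹ᵁ ⊤),
          (sP ≫ g).appLE ⊤ ⊤ (hr ▸ h) = r.appLE ⊤ ⊤ h := by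
        rintro r rfl h; rfl
      rw [e2 la (pullback.lift_snd _ _ _) le_top]
      have e3 : la.appLE ⊤ ⊤ le_top = la.appTop := by rw [Scheme.Hom.appTop, Scheme.Hom.app_eq_appLE]; rfl
      rw [e3, Scheme.ΓSpecIso_naturality, Iso.inv_hom_id_assoc]
    exact congr($(e1) c)
  let φ : S →ₐ[Bh] Loc := { φ₀ with commutes' := hφ₀ }
  have hunit : ∀ u : S, u ∉ qI → IsUnit (φ u) := fun u hu => by
    have hxu : x ∈ Xh.basicOpen u := (hmem u).1 hu
    have hηu : η ∈ Xh.basicOpen u := hsp.mem_open (Xh.basicOpen u).isOpen hxu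
    have h1 : (Spec (CommRingCat.of Loc)).basicOpen (sP.appLE W' ⊤ hsPW u) = ⊤ := by
      rw [Scheme.basicOpen_appLE, top_inf_eq, eq_top_iff]
      exact fun t _ =>
        ((IsLocalRing.specializes_closedPoint t).map sP.continuous).mem_open (Xh.basicOpen u).isOpen hηu
    have h3 : IsUnit (sP.appLE W' ⊤ hsPW u) :=
      RingedSpace.isUnit_of_isUnit_germ _ _ _ fun t ht =>
        ((Spec (CommRingCat.of Loc)).mem_basicOpen (sP.appLE W' ⊤ hsPW u) t ht).1 (h1.ge trivial)
    exact h3.map (Scheme.ΓSpecIso (CommRingCat.of Loc)).hom.hom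
  have hJq : (J.map (algebraMap B Bh)).map ψh ≤ qI := by
    rw [Ideal.map_le_iff_le_comap]
    intro c hc
    by_contra h
    have hxc' : x ∈ Xh.basicOpen (ψh c) := (hmem _).1 h
    have e : Xh.basicOpen (ψh c) ≤ g ⁻¹ᵁ (Spec (CommRingCat.of Bh)).basicOpen ((Scheme.ΓSpecIso _).inv c) := by
      show Xh.basicOpen (g.appLE ⊤ W' le_top ((Scheme.ΓSpecIso (CommRingCat.of Bh)).inv c)) ≤ _
      rw [Scheme.basicOpen_appLE]
      exact inf_le_right
    have h' := e hxc'
    have h'' : g x ∈ (Spec (CommRingCat.of Bh)).basicOpen ((Scheme.ΓSpecIso (CommRingCat.of Bh)).inv c) := h'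
    rw [basicOpen_eq_of_affine] at h''
    exact h'' (hJmax hc)
  -- the pulled back element is infinitely divisible
  have hdiv : ∀ n : ℕ, (1 : S) ⊗ₜ[Bh] ((algebraMap B Bh b) ^ E • z) ∈
      (J.map (algebraMap B Bh)).map ψh ^ n • (⊤ : Submodule S (S ⊗[Bh] L)) := by
    intro n
    suffices h : (1 : S) ⊗ₜ[Bh] ((algebraMap B Bh b) ^ E • z) ∈
        (J.map (algebraMap B Bh)).map ψh ^ (n + 1) • (⊤ : Submodule S (S ⊗[Bh] L)) from
      Submodule.smul_mono_left (Ideal.pow_le_pow_right (Nat.le_succ n)) h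
    let N : Submodule S (S ⊗[Bh] L) := (J.map (algebraMap B Bh)).map ψh ^ (n + 1) • ⊤
    let algB : Algebra B S₀ := ψ₀.toAlgebra
    let G := KFlatLib.pb f (C.obj (op n))
    let modG : Module B Γ(G, W i) := Module.compHom Γ(G, W i) ψ₀
    have : IsScalarTower B S₀ Γ(G, W i) := IsScalarTower.of_algebraMap_smul fun _ _ => rfl
    let pu : Γ(C.obj (op n), V) →ₗ[B] Γ(G, W i) :=
      { toFun := KFlatLib.puSecLE f (C.obj (op n)) (hle i)
        map_add' := map_add _
        map_smul' := fun r m => KFlatLib.puSecLE_smul f _ (hle i) r m }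
    have := (hC.1 n).1
    have hbc : IsBaseChange S₀ pu :=
      KFlatLib.isBaseChange_puSec f _ hV (hW i) (hle i) (fun _ => rfl) pu (fun _ => rfl)
    let QS := (S ⊗[Bh] L) ⧸ N
    let modQ : Module S₀ QS := Module.compHom QS ψ₁
    let modQB : Module B QS := Module.compHom QS (ψ₁.comp ψ₀)
    have : IsScalarTower B S₀ QS := IsScalarTower.of_algebraMap_smul fun _ _ => rfl
    let δ : (secSys hC hV).L →+ QS :=
      { toFun := fun w => Submodule.Quotient.mk ((1 : S) ⊗ₜ[Bh] w)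
        map_zero' := by rw [TensorProduct.tmul_zero, Submodule.Quotient.mk_zero]
        map_add' := fun v w => by rw [TensorProduct.tmul_add, Submodule.Quotient.mk_add] }
    have hδsmul : ∀ (c : B) (w : L), δ (c • w) = c • δ w := fun c w => by
      show Submodule.Quotient.mk ((1 : S) ⊗ₜ[Bh] (c • w)) = ψ₁ (ψ₀ c) • (Submodule.Quotient.mk _ : QS)
      rw [← Submodule.Quotient.mk_smul, hcomp]
      congr 1
      rw [← algebraMap_smul Bh c w, TensorProduct.tmul_smul, ← algebraMap_smul S (algebraMap B Bh c)]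
      rfl
    let δl : L →ₗ[B] QS := { δ with map_smul' := hδsmul }
    have hδker : LinearMap.ker ((secSys hC hV).proj n) ≤ LinearMap.ker δl := by
      rw [AdSys.ker_proj]
      refine Submodule.smul_le.2 fun r hr w _ => ?_
      show δ (r • w) = 0
      rw [hδsmul]
      show ψ₁ (ψ₀ r) • (Submodule.Quotient.mk ((1 : S) ⊗ₜ[Bh] w) : QS) = 0
      rw [← Submodule.Quotient.mk_smul, Submodule.Quotient.mk_eq_zero, hcomp]
      refine Submodule.smul_mem_smul ?_ trivial
      rw [← Ideal.map_pow, ← Ideal.map_pow]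
      exact Ideal.mem_map_of_mem _ (Ideal.mem_map_of_mem _ hr)
    let δn : Γ(C.obj (op n), V) →ₗ[B] QS :=
      ((LinearMap.ker ((secSys hC hV).proj n)).liftQ δl hδker).comp
        (((secSys hC hV).proj n).quotKerEquivOfSurjective ((secSys hC hV).proj_surjective n)).symm.toLinearMap
    have hδn : δn ((secSys hC hV).proj n z) = δ z := by
      show (LinearMap.ker ((secSys hC hV).proj n)).liftQ δl hδker
        ((((secSys hC hV).proj n).quotKerEquivOfSurjective ((secSys hC hV).proj_surjective n)).symm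
          ((secSys hC hV).proj n z)) = _
      rw [LinearMap.quotKerEquivOfSurjective_symm_apply]
      rfl
    have h1 : (hbc.lift δn) (ψ₀ b ^ E • pu ((secSys hC hV).proj n z)) = 0 := by
      rw [show ψ₀ b ^ E • pu ((secSys hC hV).proj n z) = 0 from hz i n, map_zero]
    rw [map_smul, IsBaseChange.lift_eq, hδn] at h1
    have h2 : (Submodule.Quotient.mk ((1 : S) ⊗ₜ[Bh] ((algebraMap B Bh b) ^ E • z)) : QS) = 0 := by
      rw [← map_pow, ← h1]
      rw [algebraMap_smul Bh (b ^ E) z, ← map_pow ψ₀]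
      exact hδsmul (b ^ E) z
    exact (Submodule.Quotient.mk_eq_zero N).1 h2
  obtain ⟨t, ht, htz⟩ := exists_notMem_smul_eq_zero (R := Bh) P φ _ qI hJq hunit _ hdiv
  rw [smul_smul] at htz
  rcases hP.mem_or_mem (haP (show t * (algebraMap B Bh b) ^ E ∈ an from htz)) with h | h
  · exact ht h
  · exact hbP (hP.mem_of_pow_mem _ h)

end FormalCohLib

end
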