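import Groth.Agent.FormalCohLib.Push
import Groth.Agent.FormalCohLib.PointTest

/-!
# A formal module and the completion of the direct image of its algebraisation upstairs
-/

set_option autoImplicit false

noncomputable section

universe u

open CategoryTheory CategoryTheory.Limits AlgebraicGeometry TopologicalSpace Opposite
open GrSysLib (trMap)

namespace FormalCohLib

/-- Pullback of sections is natural. -/
lemma puLE_natural {X Y : Scheme.{u}} (g : X ⟶ Y) {M N : Y.Modules} (φ : M ⟶ N) {U : Y.Opens} {W : X.Opens}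
    (h : W ≤ g ⁻¹ᵁ U) (m : Γ(M, U)) :
    ((Scheme.Modules.pullback g).map φ).app W (KFlatLib.puSecLE g M h m) = KFlatLib.puSecLE g N h (φ.app U m) :=
  (QCohLib.app_map ((Scheme.Modules.pullback g).map φ) (homOfLE h) (KFlatLib.puSec g m)).trans
    (congrArg (((Scheme.Modules.pullback g).obj N).presheaf.map (homOfLE h).op)
      (KFlatLib.puSec_natural g φ m))

/-- An ideal kills a quasi-coherent module if it does on an affine cover. -/
lemma killedByIdeal_of_cover {X : Scheme.{u}} [AlgebraicGeometry.IsNoetherian X] (K : X.IdealSheafData) {M : X.Modules} [Coh.IsQCoh M] {ι : Type*}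
    (U : ι → X.affineOpens) (hcov : ∀ x : X, ∃ i, x ∈ (U i).1)
    (h : ∀ i, ∀ a ∈ K.ideal (U i), ∀ m : Γ(M, (U i).1), a • m = 0) : ClSub.KilledByIdeal K M := by
  have := isQCoh_quotK K M
  have : IsIso (quotKπ K M) := by
    refine isIso_of_bijective_cover (fun i => (U i).1) (fun i => (U i).2) hcov _ fun i =>
      ⟨(injective_iff_map_eq_zero _).2 fun m hm => ?_, app_quotKπ_surjective K M (U i).2⟩
    exact Submodule.smul_induction_on (p := fun z => z = 0) ((app_quotKπ_eq_zero K M (U i).2 m).1 hm)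
      (fun a ha z _ => h i a ha z) fun a b ha hb => by rw [ha, hb, add_zero]
  exact killedByIdeal_of_mono K (quotKπ K M) (killed_quotK K M)

/-- A uniform exponent for a finite module over a bigger ring. -/
lemma exists_pow_smul_eq_zero_uniform {B C L : Type*} [CommRing B] [CommRing C] [Algebra B C] [AddCommGroup L]
    [Module B L] [Module C L] [IsScalarTower B C L] [IsNoetherian C L] (S : Submodule C L) (b : B)
    (h : ∀ z ∈ S, ∃ e : ℕ, b ^ e • z = 0) : ∃ e : ℕ, ∀ z ∈ S, b ^ e • z = 0 := by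
  classical
  obtain ⟨T, hT⟩ := IsNoetherian.noetherian S
  choose e he using h
  have hTS : ∀ z ∈ T, z ∈ S := fun z hz => hT ▸ Submodule.subset_span hz
  refine ⟨T.sup fun z => if hz : z ∈ S then e z hz else 0, fun z hz => ?_⟩
  rw [← hT] at hz
  induction hz using Submodule.span_induction with
  | mem y hy =>
    obtain ⟨k, hk⟩ := Nat.le.dest (Finset.le_sup (f := fun z => if hz : z ∈ S then e z hz else 0) hy)
    rw [← hk, dif_pos (hTS y hy), pow_add, mul_comm, mul_smul, he y (hTS y hy), smul_zero]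
  | zero => rw [smul_zero]
  | add p q _ _ hp hq => rw [smul_add, hp, hq, add_zero]
  | smul r p _ hp => rw [smul_comm, hp, smul_zero]

section Main

variable {A : Type u} [CommRing A] {J : Ideal A} {X Y : Scheme.{u}} [X.Over (Spec (CommRingCat.of A))]
  [Y.Over (Spec (CommRingCat.of A))] (f : X ⟶ Y)
  (hf : f ≫ (Y ↘ Spec (CommRingCat.of A)) = X ↘ Spec (CommRingCat.of A))


/-- The comparison upstairs. -/
def eps (F : X.Modules) (n : ℕ) :
    (Scheme.Modules.pullback f).obj ((Formal.completion J ((Scheme.Modules.pushforward f).obj F)).obj (op n)) ⟶ (Formal.completion J F).obj (op n) :=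
  ((Scheme.Modules.pullbackPushforwardAdjunction f).homEquiv _ _).symm ((cmp f hf F).app (op n))

lemma map_π_eps (F : X.Modules) (n : ℕ) :
    (Scheme.Modules.pullback f).map (Formal.modPowπ J (n + 1) ((Scheme.Modules.pushforward f).obj F)) ≫ eps f hf F n =
      (Scheme.Modules.pullbackPushforwardAdjunction f).counit.app F ≫ Formal.modPowπ J (n + 1) F := by
  refine ((Scheme.Modules.pullbackPushforwardAdjunction f).homEquiv_naturality_left_symm (Formal.modPowπ J (n + 1) ((Scheme.Modules.pushforward f).obj F))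
    ((cmp f hf F).app (op n))).symm.trans ?_
  refine (congrArg _ (π_cmp f hf F n)).trans ?_
  refine (Adjunction.homEquiv_counit (Scheme.Modules.pullbackPushforwardAdjunction f) _ _ _).trans ?_
  exact (Scheme.Modules.pullbackPushforwardAdjunction f).counit.naturality (Formal.modPowπ J (n + 1) F)

lemma map_eps {G : ℕᵒᵖ ⥤ Y.Modules} {F : X.Modules} (β : (G ⋙ Scheme.Modules.pullback f) ≅ Formal.completion J F)
    (α : G ⟶ Formal.completion J ((Scheme.Modules.pushforward f).obj F)) (hα : α ≫ cmp f hf F = gam f β) (n : ℕ) :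
    (Scheme.Modules.pullback f).map (α.app (op n)) ≫ eps f hf F n = β.hom.app (op n) := by
  refine ((Scheme.Modules.pullbackPushforwardAdjunction f).homEquiv_naturality_left_symm (α.app (op n)) ((cmp f hf F).app (op n))).symm.trans ?_
  refine (congrArg _ (congrArg (fun t : G ⟶ PF J f F => t.app (op n)) hα)).trans ?_
  exact (Equiv.symm_apply_eq _).2 (Adjunction.homEquiv_unit (Scheme.Modules.pullbackPushforwardAdjunction f) _ _ _).symm

variable [AlgebraicGeometry.IsNoetherian X] [AlgebraicGeometry.IsNoetherian Y] [IsProper f]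
  (K : Y.IdealSheafData) (hiso : IsIso (f ∣_ K.support.compl))
  {F : X.Modules} (hF : Coh.IsCoh F) {G : ℕᵒᵖ ⥤ Y.Modules} (hG : Formal.IsCohFormal J G)
  (β : (G ⋙ Scheme.Modules.pullback f) ≅ Formal.completion J F) (α : G ⟶ Formal.completion J ((Scheme.Modules.pushforward f).obj F))
  (hα : α ≫ cmp f hf F = gam f β) {V : Y.Opens} (hV : IsAffineOpen V)

include hα hiso in
/-- The kernel on the limits is torsion. -/
lemma exists_ker_torsion (hH : Formal.IsCohFormal J (Formal.completion J ((Scheme.Modules.pushforward f).obj F))) {b : Γ(Y, V)}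
    (hb : b ∈ K.ideal ⟨V, hV⟩) (z : (secSys hG hV).L) (hz : (secHom hG hH hV α).lim z = 0) :
    ∃ e : ℕ, b ^ e • z = 0 := by
  refine exists_pow_smul_eq_zero f hG hV K hiso hb (fun W : {W : X.affineOpens // W.1 ≤ f ⁻¹ᵁ V} => W.1.1)
    (fun W => W.1.2) (fun W => W.2) (fun x hx => ?_) 0 z fun W n => ?_
  · obtain ⟨_, ⟨U, hU, rfl⟩, hxU, hUle⟩ :=
      X.isBasis_affineOpens.exists_subset_of_mem_open (show x ∈ (f ⁻¹ᵁ V : Set X) from hx) (f ⁻¹ᵁ V).isOpen
    exact ⟨⟨⟨U, hU⟩, hUle⟩, hxU⟩
  rw [pow_zero, one_smul]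
  have h0 : (α.app (op n)).app V ((secSys hG hV).proj n z) = 0 := by
    have := congrArg ((secSys hH hV).proj n) hz
    rwa [map_zero] at this
  have h1 : (β.hom.app (op n)).app W.1.1 (KFlatLib.puSecLE f (G.obj (op n)) W.2 ((secSys hG hV).proj n z)) = 0 := by
    rw [← map_eps f hf β α hα n]
    show (eps f hf F n).app W.1.1 (((Scheme.Modules.pullback f).map (α.app (op n))).app W.1.1 _) = 0
    rw [puLE_natural, h0, map_zero]
    exact map_zero ((eps f hf F n).app W.1.1).hom
  refine QCohLib.app_injective_of_mono (β.hom.app (op n)) W.1.1 ?_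
  exact h1.trans (map_zero ((β.hom.app (op n)).app W.1.1).hom).symm

include hα hiso hF hG in
/-- The cokernel on the limits is torsion. -/
lemma exists_coker_torsion (hH : Formal.IsCohFormal J (Formal.completion J ((Scheme.Modules.pushforward f).obj F)))
    (hC : Formal.IsCohFormal J (cokF α)) {b : Γ(Y, V)}
    (hb : b ∈ K.ideal ⟨V, hV⟩) (w : (secSys hC hV).L) : ∃ e : ℕ, b ^ e • w = 0 := by
  classical
  obtain ⟨y, rfl⟩ := (cokπ_lim hG hH α hC V hV).1 w
  obtain ⟨s, hs⟩ := (NoetherianSpace.isCompact (f ⁻¹ᵁ V : Set X)).elim_finite_subcover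
    (fun W : {W : X.affineOpens // W.1 ≤ f ⁻¹ᵁ V} => (W.1.1 : Set X)) (fun W => W.1.1.isOpen) fun x hx => by
      obtain ⟨_, ⟨U, hU, rfl⟩, hxU, hUle⟩ :=
        X.isBasis_affineOpens.exists_subset_of_mem_open hx (f ⁻¹ᵁ V).isOpen
      exact Set.mem_iUnion.2 ⟨⟨⟨U, hU⟩, hUle⟩, hxU⟩
  choose E hE using fun W : s => exists_cou_bound f F hF K hiso hV hb W.1.1.2 W.1.2
  refine exists_pow_smul_eq_zero f hC hV K hiso hb (fun W : s => W.1.1.1) (fun W => W.1.1.2) (fun W => W.1.2)
    (fun x hx => ?_) (Finset.univ.sup fun W : s => E W + E W) _ fun W n => ?_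
  · obtain ⟨W, hW, hxW⟩ := Set.mem_iUnion₂.1 (hs hx)
    exact ⟨⟨W, hW⟩, hxW⟩
  let U := W.1.1.1
  let hUV : U ≤ f ⁻¹ᵁ V := W.1.2
  have hU : IsAffineOpen U := W.1.1.2
  have hN : Coh.IsCoh ((Scheme.Modules.pushforward f).obj F) := isCoh_push_proper f hF
  have := hN.1
  have := hF.1
  have := (hG.1 n).1
  have := (hH.1 n).1
  obtain ⟨k, hk⟩ := Nat.le.dest (Finset.le_sup (f := fun W : s => E W + E W) (Finset.mem_univ W))
  let b' : Γ(X, U) := (f.appLE V U hUV).hom b
  let q : (Formal.completion J ((Scheme.Modules.pushforward f).obj F)).obj (op n) ⟶ (cokF α).obj (op n) := (cokernel.π α).app (op n)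
  let t := KFlatLib.puSecLE f ((Formal.completion J ((Scheme.Modules.pushforward f).obj F)).obj (op n)) hUV ((secSys hH hV).proj n y)
  -- correct by an element coming from `G`
  obtain ⟨u, hu⟩ := (ConcreteCategory.bijective_of_isIso ((β.hom.app (op n)).app U)).2 ((eps f hf F n).app U t)
  let t' := t - ((Scheme.Modules.pullback f).map (α.app (op n))).app U u
  have ht' : (eps f hf F n).app U t' = 0 := by
    refine (map_sub ((eps f hf F n).app U).hom _ _).trans ?_
    rw [sub_eq_zero, ← hu]
    exact (congrArg (fun v : (Scheme.Modules.pullback f).obj (G.obj (op n)) ⟶ _ => v.app U u) (map_eps f hf β α hα n)).symm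
  have hqt : ((Scheme.Modules.pullback f).map q).app U t' = ((Scheme.Modules.pullback f).map q).app U t := by
    have e : (Scheme.Modules.pullback f).map (α.app (op n)) ≫ (Scheme.Modules.pullback f).map q = 0 := by
      rw [← Functor.map_comp, show α.app (op n) ≫ q = 0 from
        congrArg (fun v : G ⟶ cokF α => v.app (op n)) (cokernel.condition α), (Scheme.Modules.pullback f).map_zero]
    refine (map_sub (((Scheme.Modules.pullback f).map q).app U).hom _ _).trans ?_
    refine (congrArg (_ - ·) (congrArg (fun v : (Scheme.Modules.pullback f).obj (G.obj (op n)) ⟶ _ => v.app U u) e)).trans ?_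
    exact sub_zero _
  -- lift to the pullback of the direct image
  have := KFlatLib.isQCoh_pullback f ((Scheme.Modules.pushforward f).obj F)
  have := KFlatLib.isQCoh_pullback f ((Formal.completion J ((Scheme.Modules.pushforward f).obj F)).obj (op n))
  have := isQCoh_modPow J ((Scheme.Modules.pushforward f).obj F) (n + 1)
  have := KFlatLib.isQCoh_pullback f (Formal.modPow J (n + 1) ((Scheme.Modules.pushforward f).obj F))
  have : Epi ((Scheme.Modules.pullback f).map (Formal.modPowπ J (n + 1) ((Scheme.Modules.pushforward f).obj F))) :=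
    have : (Scheme.Modules.pullback f).IsLeftAdjoint :=
      (Scheme.Modules.pullbackPushforwardAdjunction f).isLeftAdjoint
    inferInstance
  obtain ⟨r, hr⟩ := app_surjective_of_epi ((Scheme.Modules.pullback f).map (Formal.modPowπ J (n + 1) ((Scheme.Modules.pushforward f).obj F))) hU t'
  have hδ : (cou f F).app U r ∈ idU J U ^ (n + 1) • (⊤ : Submodule Γ(X, U) Γ(F, U)) := by
    refine (app_modPowπ_eq_zero J F (n + 1) hU _).1 ?_
    refine Eq.trans ?_ ((congrArg ((eps f hf F n).app U) hr).trans ht')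
    exact (congrArg (fun v : (Scheme.Modules.pullback f).obj ((Scheme.Modules.pushforward f).obj F) ⟶ _ => v.app U r) (map_π_eps f hf F n)).symm
  obtain ⟨r', hr', hr'e⟩ : ∃ r' ∈ idU J U ^ (n + 1) • (⊤ : Submodule Γ(X, U) Γ((Scheme.Modules.pullback f).obj ((Scheme.Modules.pushforward f).obj F), U)),
      (cou f F).app U r' = b' ^ E W • (cou f F).app U r := by
    refine Submodule.smul_induction_on (p := fun v => ∃ r' ∈ idU J U ^ (n + 1) •
      (⊤ : Submodule Γ(X, U) Γ((Scheme.Modules.pullback f).obj ((Scheme.Modules.pushforward f).obj F), U)), (cou f F).app U r' = b' ^ E W • v) hδ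
      (fun a ha v _ => ?_) ?_
    · obtain ⟨v', hv'⟩ := (hE W).1 v
      refine ⟨a • v', Submodule.smul_mem_smul ha trivial, ?_⟩
      exact (QCohLib.app_smul _ U a v').trans ((congrArg _ hv').trans (smul_comm _ _ _))
    · rintro v₁ v₂ ⟨r₁, h₁, e₁⟩ ⟨r₂, h₂, e₂⟩
      exact ⟨r₁ + r₂, add_mem h₁ h₂,
        (map_add ((cou f F).app U).hom _ _).trans ((congrArg₂ (· + ·) e₁ e₂).trans (smul_add _ _ _).symm)⟩
  have hker : b' ^ E W • (b' ^ E W • r - r') = 0 := (hE W).2 _ (by
    refine (map_sub ((cou f F).app U).hom _ _).trans ?_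
    rw [sub_eq_zero]
    exact (QCohLib.app_smul _ U _ r).trans hr'e.symm)
  have hkill : b' ^ (E W + E W) • t' = 0 := by
    have h2 : b' ^ (E W + E W) • r = b' ^ E W • r' := by
      rw [pow_add, mul_smul]
      rwa [smul_sub, sub_eq_zero] at hker
    refine (congrArg (b' ^ (E W + E W) • ·) hr).symm.trans ?_
    refine (QCohLib.app_smul _ U _ r).symm.trans ?_
    refine (congrArg _ h2).trans ?_
    exact app_smulFamily_zero J _
      (smulFamily_comp_eq_zero _ (killedBy_pullback f hf (killedBy_modPow (n + 1) _)))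
      (Submodule.smul_mem _ _ hr')
  show b' ^ _ • KFlatLib.puSecLE f ((cokF α).obj (op n)) hUV (q.app V ((secSys hH hV).proj n y)) = 0
  rw [← puLE_natural f q hUV, ← hqt, ← QCohLib.app_smul, ← hk, pow_add, mul_comm, mul_smul, hkill, smul_zero]
  exact map_zero (((Scheme.Modules.pullback f).map q).app U).hom

include hα hiso hF hG in
/-- A power of `K` kills kernels and cokernels of the components over an affine open. -/
lemma exists_pow_killed :
    ∃ T : ℕ, ∀ a ∈ K.ideal ⟨V, hV⟩ ^ T, ∀ n : ℕ,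
      (∀ m : Γ(G.obj (op n), V), (α.app (op n)).app V m = 0 → a • m = 0) ∧
      ∀ c : Γ((cokF α).obj (op n), V), a • c = 0 := by
  classical
  have hH := isCohFormal_completion (I := J) (isCoh_push_proper f hF)
  have hC := isCohFormal_cokF hG hH α
  have := noethRing hV
  have := Groth.Agent.S0543.result Γ(Y, V) (idU J V)
  have := (secSys hG hV).main.1
  have := (secSys hC hV).main.1
  let ℓ := (secHom hG hH hV α).lim
  let RK : Ideal Γ(Y, V) := (LinearMap.ker ℓ).annihilator
  let RC : Ideal Γ(Y, V) := (⊤ : Submodule Γ(Y, V) (secSys hC hV).L).annihilator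
  have hRK : K.ideal ⟨V, hV⟩ ≤ RK.radical := fun b hb => by
    obtain ⟨e, he⟩ := exists_pow_smul_eq_zero_uniform
      (LinearMap.ker (secHom hG hH hV α).limHat) b fun z hz => exists_ker_torsion f hf K hiso hG β α hα hV hH hb z hz
    exact ⟨e, Submodule.mem_annihilator.2 fun z hz => he z hz⟩
  have hRC : K.ideal ⟨V, hV⟩ ≤ RC.radical := fun b hb => by
    obtain ⟨e, he⟩ := exists_pow_smul_eq_zero_uniform
      (⊤ : Submodule (AdicCompletion (idU J V) Γ(Y, V)) (secSys hC hV).L) b
      fun z _ => exists_coker_torsion f hf K hiso hF hG β α hα hV hH hC hb z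
    exact ⟨e, Submodule.mem_annihilator.2 fun z _ => he z trivial⟩
  obtain ⟨T₁, hT₁⟩ := Ideal.exists_pow_le_of_le_radical_of_fg hRK (IsNoetherian.noetherian _)
  obtain ⟨T₂, hT₂⟩ := Ideal.exists_pow_le_of_le_radical_of_fg hRC (IsNoetherian.noetherian _)
  have hC0 : ∀ r ∈ RC, ∀ (n : ℕ) (c : Γ((cokF α).obj (op n), V)), r • c = 0 := fun r hr n c => by
    obtain ⟨w, rfl⟩ := (secSys hC hV).proj_surjective n c
    exact ((map_smul ((secSys hC hV).proj n) r w).symm).trans
      ((congrArg _ (Submodule.mem_annihilator.1 hr w trivial)).trans (map_zero _))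
  refine ⟨T₁ + T₂, fun a ha n => ⟨fun m hm => ?_, fun c => ?_⟩⟩
  · have hT : K.ideal ⟨V, hV⟩ ^ (T₁ + T₂) ≤ RK * RC := by
      rw [pow_add]
      exact Ideal.mul_mono hT₁ hT₂
    refine Submodule.mul_induction_on (C := fun a => a • m = 0) (hT ha) (fun r hr r' hr' => ?_)
      fun x y hx hy => by rw [add_smul, hx, hy, add_zero]
    obtain ⟨v, rfl⟩ := (secSys hG hV).proj_surjective n m
    have hv : ℓ v ∈ idU J V ^ (n + 1) • (⊤ : Submodule Γ(Y, V) (secSys hH hV).L) := by
      rw [← AdSys.ker_proj, LinearMap.mem_ker]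
      exact hm
    obtain ⟨w, hw, hwv⟩ : ∃ w ∈ idU J V ^ (n + 1) • (⊤ : Submodule Γ(Y, V) (secSys hG hV).L), ℓ w = r' • ℓ v := by
      refine Submodule.smul_induction_on (p := fun v' => ∃ w ∈ idU J V ^ (n + 1) •
        (⊤ : Submodule Γ(Y, V) (secSys hG hV).L), ℓ w = r' • v') hv (fun c hc y _ => ?_) ?_
      · have h0 : r' • y ∈ LinearMap.range ℓ := by
          rw [← (cokπ_lim hG hH α hC V hV).2, LinearMap.mem_ker, map_smul]
          exact Submodule.mem_annihilator.1 hr' _ trivial
        obtain ⟨x, hx⟩ := h0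
        exact ⟨c • x, Submodule.smul_mem_smul hc trivial, by rw [map_smul, hx, smul_comm]⟩
      · rintro v₁ v₂ ⟨w₁, h₁, e₁⟩ ⟨w₂, h₂, e₂⟩
        exact ⟨w₁ + w₂, add_mem h₁ h₂, by rw [map_add, e₁, e₂, smul_add]⟩
    have h1 : r • (r' • v - w) = 0 :=
      Submodule.mem_annihilator.1 hr _ (by rw [LinearMap.mem_ker, map_sub, map_smul, hwv, sub_self])
    rw [smul_sub, sub_eq_zero, smul_smul] at h1
    refine ((map_smul ((secSys hG hV).proj n) (r * r') v).symm.trans (congrArg _ h1)).trans ?_
    refine LinearMap.mem_ker.1 ((AdSys.ker_proj _ n).ge (Submodule.smul_mem _ _ hw))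
  · refine hC0 a (hT₂ ?_) n c
    exact Ideal.pow_le_pow_right (Nat.le_add_left _ _) ha

end Main

/-- **Comparison with the completion of the direct image, up to a power of the bad ideal.** -/
theorem exists_push_kerCoker {A : Type u} [CommRing A] {J : Ideal A} {X Y : Scheme.{u}}
    [X.Over (Spec (CommRingCat.of A))] [Y.Over (Spec (CommRingCat.of A))] [AlgebraicGeometry.IsNoetherian Y]
    (f : X ⟶ Y) [IsProper f] (hf : f ≫ (Y ↘ Spec (CommRingCat.of A)) = X ↘ Spec (CommRingCat.of A))
    (K : Y.IdealSheafData) (hiso : IsIso (f ∣_ K.support.compl))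
    {G : ℕᵒᵖ ⥤ Y.Modules} (hG : Formal.IsCohFormal J G) {F : X.Modules} (hF : Coh.IsCoh F)
    (β : (G ⋙ Scheme.Modules.pullback f) ≅ Formal.completion J F) :
    ∃ α : G ⟶ Formal.completion J ((Scheme.Modules.pushforward f).obj F),
      Formal2.KerCokerKilledByPow K α := by
  classical
  have : IsLocallyNoetherian X := LocallyOfFiniteType.isLocallyNoetherian f
  have : CompactSpace X := QuasiCompact.compactSpace_of_compactSpace f
  have : AlgebraicGeometry.IsNoetherian X := {}
  obtain ⟨α, hα⟩ := exists_push_hom f hf hF hG β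
  have hH := isCohFormal_completion (I := J) (isCoh_push_proper f hF)
  have hC := isCohFormal_cokF hG hH α
  obtain ⟨C, hC'⟩ := exists_cover (X := Y)
  have hcov : ∀ y : Y, ∃ V : C, y ∈ V.1.1 := fun y => by obtain ⟨V, hV, hy⟩ := hC' y; exact ⟨⟨V, hV⟩, hy⟩
  choose T hT using fun V : C => exists_pow_killed f hf K hiso hF hG β α hα V.1.2
  refine ⟨α, Finset.univ.sup T, fun n => ?_⟩
  have hle : ∀ V : C, (K ^ (Finset.univ.sup T + 1)).ideal V.1 ≤ K.ideal ⟨V.1.1, V.1.2⟩ ^ T V := fun V =>
    Ideal.pow_le_pow_right ((Finset.le_sup (f := T) (Finset.mem_univ V)).trans (Nat.le_succ _))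
  have := (hG.1 n).1
  have := (hH.1 n).1
  have := (hC.1 n).1
  refine ⟨?_, ?_⟩
  · have : Coh.IsQCoh (kernel (α.app (op n))) := QCohLib.isQCoh_kernel _
    refine killedByIdeal_of_cover _ (fun V : C => V.1) hcov fun V a ha z => ?_
    refine QCohLib.app_injective_of_mono (kernel.ι (α.app (op n))) V.1.1 ?_
    refine (QCohLib.app_smul _ V.1.1 a z).trans (Eq.trans ?_ (map_zero ((kernel.ι (α.app (op n))).app V.1.1).hom).symm)
    refine ((hT V a (hle V ha) n).1 _ ?_)
    exact congrArg (fun t : kernel (α.app (op n)) ⟶ _ => t.app V.1.1 z) (kernel.condition (α.app (op n)))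
  · have hk : ClSub.KilledByIdeal (K ^ (Finset.univ.sup T + 1)) ((cokF α).obj (op n)) :=
      killedByIdeal_of_cover _ (fun V : C => V.1) hcov fun V a ha z => (hT V a (hle V ha) n).2 z
    exact killedByIdeal_of_mono _ (cokAppIso α n).inv hk

end FormalCohLib

end
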