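import Groth.Agent.FormalCohLib.Tools

/-!
# Algebraisation from a map with killed kernel and cokernel
-/

set_option autoImplicit false

noncomputable section

universe u

open CategoryTheory CategoryTheory.Limits AlgebraicGeometry TopologicalSpace Opposite
open GrSysLib (trMap)

namespace FormalCohLib

variable {A : Type u} [CommRing A] {I : Ideal A} {X : Scheme.{u}} [X.Over (Spec (CommRingCat.of A))]
  [AlgebraicGeometry.IsNoetherian X] {G H : ℕᵒᵖ ⥤ X.Modules}

lemma complMap_add {M N : X.Modules} (φ ψ : M ⟶ N) :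
    complMap I (φ + ψ) = complMap I φ + complMap I ψ := completion_hom_ext fun n => by
  rw [π_complMap, NatTrans.app_add]
  refine Eq.trans ?_ (Preadditive.comp_add _ _ _ _ _ _).symm
  erw [π_complMap, π_complMap]
  exact Preadditive.add_comp _ _ _ _ _ _

lemma complMap_neg {M N : X.Modules} (φ : M ⟶ N) : complMap I (-φ) = -complMap I φ := completion_hom_ext fun n => by
  rw [π_complMap, NatTrans.app_neg]
  refine Eq.trans ?_ (Preadditive.comp_neg _ _).symm
  erw [π_complMap]
  exact Preadditive.neg_comp _ _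

lemma lim_add (hG : Formal.IsCohFormal I G) (hH : Formal.IsCohFormal I H) {U : X.Opens} (hU : IsAffineOpen U)
    (f g : G ⟶ H) (x : (secSys hG hU).L) :
    (secHom hG hH hU (f + g)).lim x = (secHom hG hH hU f).lim x + (secHom hG hH hU g).lim x :=
  rfl

lemma lim_neg (hG : Formal.IsCohFormal I G) (hH : Formal.IsCohFormal I H) {U : X.Opens} (hU : IsAffineOpen U)
    (f : G ⟶ H) (x : (secSys hG hU).L) :
    (secHom hG hH hU (-f)).lim x = -(secHom hG hH hU f).lim x :=
  rfl

lemma lim_id (hG : Formal.IsCohFormal I G) {U : X.Opens} (hU : IsAffineOpen U) (x : (secSys hG hU).L) :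
    (secHom hG hG hU (𝟙 G)).lim x = x :=
  rfl

lemma lim_bijective_of_iso (hG : Formal.IsCohFormal I G) (hH : Formal.IsCohFormal I H) (f : G ⟶ H) [IsIso f]
    {U : X.Opens} (hU : IsAffineOpen U) : Function.Bijective (secHom hG hH hU f).lim := by
  refine Function.bijective_iff_has_inverse.2 ⟨(secHom hH hG hU (inv f)).lim, fun x => ?_, fun x => ?_⟩
  · rw [lim_comp, IsIso.hom_inv_id, lim_id]
  · rw [lim_comp, IsIso.inv_hom_id, lim_id]

/-- Compatibility of the limit map with a commutative square. -/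
lemma lim_congr (hG : Formal.IsCohFormal I G) (hH : Formal.IsCohFormal I H) {U : X.Opens} (hU : IsAffineOpen U)
    {f g : G ⟶ H} (h : f = g) (x : (secSys hG hU).L) :
    (secHom hG hH hU f).lim x = (secHom hG hH hU g).lim x := by rw [h]

/-- Full faithfulness of the completion on coherent modules killed by `K`. -/
abbrev FFKilled (I : Ideal A) (K : X.IdealSheafData) : Prop :=
  ∀ (M N : X.Modules), Coh.IsCoh M → Coh.IsCoh N → ClSub.KilledByIdeal K M →
    ClSub.KilledByIdeal K N → ∀ ψ : Formal.completion I M ⟶ Formal.completion I N,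
      ∃! φ : M ⟶ N, ∀ n : ℕ, Formal.modPowπ I (n + 1) M ≫ ψ.app (op n) = φ ≫ Formal.modPowπ I (n + 1) N

variable {K : X.IdealSheafData}

omit [AlgebraicGeometry.IsNoetherian X] in
lemma exists_complMap_eq (hFF : FFKilled I K) {M N : X.Modules} (hM : Coh.IsCoh M) (hN : Coh.IsCoh N)
    (hkM : ClSub.KilledByIdeal K M) (hkN : ClSub.KilledByIdeal K N)
    (ψ : Formal.completion I M ⟶ Formal.completion I N) : ∃ φ : M ⟶ N, complMap I φ = ψ := by
  obtain ⟨φ, hφ, -⟩ := hFF M N hM hN hkM hkN ψ
  exact ⟨φ, completion_hom_ext fun n => (π_complMap φ n).trans (hφ n).symm⟩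

/-- A map from a completion to the completion of a killed module is algebraic. -/
lemma exists_complMap_eq_of_killed (hFF : FFKilled I K) {M N : X.Modules} (hM : Coh.IsCoh M) (hN : Coh.IsCoh N)
    (hkN : ClSub.KilledByIdeal K N) (γ : Formal.completion I M ⟶ Formal.completion I N) :
    ∃ φ : M ⟶ N, complMap I φ = γ := by
  have := hN.1
  have hk : ∀ n, ClSub.KilledByIdeal K ((Formal.completion I N).obj (op n)) := fun n =>
    killedByIdeal_modPow K (n + 1) hkN
  choose r hr hru using fun n => existsUnique_quotK K (hk n) (Formal.modPowπ I (n + 1) M ≫ γ.app (op n))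
  have hr' : ∀ n, r (n + 1) ≫ trMap (Formal.completion I N) n = r n := fun n =>
    hru n _ (by
      show quotKπ K M ≫ r (n + 1) ≫ trMap (Formal.completion I N) n = _
      refine (Category.assoc _ _ _).symm.trans ((congrArg (· ≫ trMap (Formal.completion I N) n) (hr (n + 1))).trans ?_)
      refine (Category.assoc _ _ _).trans ?_
      refine (congrArg (Formal.modPowπ I (n + 1 + 1) M ≫ ·) (γ.naturality _).symm).trans ?_
      refine (Category.assoc _ _ _).symm.trans ?_
      exact congrArg (· ≫ γ.app (op n)) (π_completion_trLE M (Nat.le_succ n)))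
  let δ : Formal.completion I ((quotK K).obj M) ⟶ Formal.completion I N :=
    complDesc (isCohFormal_completion hN) r hr'
  obtain ⟨φ, hφ⟩ := exists_complMap_eq hFF (isCoh_quotK K hM) hN (killed_quotK K M) hkN δ
  refine ⟨quotKπ K M ≫ φ, completion_hom_ext fun n => ?_⟩
  rw [π_complMap, Category.assoc, ← π_complMap, hφ]
  show quotKπ K M ≫ Formal.modPowπ I (n + 1) _ ≫ δ.app (op n) = _
  rw [π_complDesc, hr]

/-- A map into a system killed by `K` factors through `quotF K`. -/
lemma exists_quotF_desc (β : G ⟶ H) (hk : ∀ n : ℕ, ClSub.KilledByIdeal K (H.obj (op n))) :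
    ∃ s : quotF K G ⟶ H, quotFπ K G ≫ s = β := by
  choose r hr hru using fun n : ℕᵒᵖ => existsUnique_quotK K (hk n.unop) (β.app n)
  refine ⟨{ app := r, naturality := fun a b f => ?_ }, ?_⟩
  · obtain ⟨y, hy, hy'⟩ := existsUnique_quotK K (hk b.unop) (G.map f ≫ β.app b)
    refine (hy' _ ?_).trans (hy' _ ?_).symm
    · show quotKπ K (G.obj a) ≫ (quotK K).map (G.map f) ≫ r b = _
      rw [← Category.assoc, quotKπ_natural, Category.assoc]
      exact congrArg (G.map f ≫ ·) (hr b)
    · show quotKπ K (G.obj a) ≫ r a ≫ H.map f = _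
      rw [← Category.assoc]
      exact (congrArg (· ≫ H.map f) (hr a)).trans (β.naturality f).symm
  · ext n : 2
    exact hr n

/-- The kernel of a map with killed kernels is killed on the limits. -/
lemma smul_eq_zero_of_killed (hG : Formal.IsCohFormal I G) (hH : Formal.IsCohFormal I H) (α : G ⟶ H)
    (hk : ∀ n : ℕ, ClSub.KilledByIdeal K (kernel (α.app (op n)))) {U : X.Opens} (hU : IsAffineOpen U)
    {a : Γ(X, U)} (ha : a ∈ K.ideal ⟨U, hU⟩) (x : (secSys hG hU).L) (hx : (secHom hG hH hU α).lim x = 0) :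
    a • x = 0 := by
  refine AdSys.ext fun n => ?_
  rw [map_zero, map_smul]
  have h0 : (α.app (op n)).app U ((secSys hG hU).proj n x) = 0 := by
    have h1 := congrArg ((secSys hH hU).proj n) hx
    rwa [map_zero] at h1
  obtain ⟨m, hm⟩ := QCohLib.exists_of_app_eq_zero
    (ShortComplex.exact_of_f_is_kernel (ShortComplex.mk _ _ (kernel.condition (α.app (op n))))
      (kernelIsKernel _)) (inferInstanceAs (Mono (kernel.ι _))) _ h0
  rw [← hm]
  exact (QCohLib.app_smul (kernel.ι (α.app (op n))) U a m).symm.trans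
    ((congrArg _ (hk n ⟨U, hU⟩ a ha m)).trans (map_zero ((kernel.ι (α.app (op n))).app U).hom))

/-- The kernel meets a high multiple in zero. -/
lemma exists_ker_inf_pow (hG : Formal.IsCohFormal I G) (hH : Formal.IsCohFormal I H) (α : G ⟶ H) (e0 : ℕ)
    (hk : ∀ n : ℕ, ClSub.KilledByIdeal (K ^ e0) (kernel (α.app (op n)))) {U : X.Opens} (hU : IsAffineOpen U) :
    ∃ e1, ∀ e, e1 ≤ e → ∀ x : (secSys hG hU).L, (secHom hG hH hU α).lim x = 0 →
      x ∈ (K ^ e).ideal ⟨U, hU⟩ • (⊤ : Submodule Γ(X, U) (secSys hG hU).L) → x = 0 := by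
  have := noethRing hU
  obtain ⟨c, hc⟩ := (secHom hG hH hU α).exists_ker_bound (K.ideal ⟨U, hU⟩)
  refine ⟨e0 + c, fun e he x hx hxe => ?_⟩
  have h1 : x ∈ K.ideal ⟨U, hU⟩ ^ e0 • LinearMap.ker (secHom hG hH hU α).lim := by
    refine hc (e - e0) (by omega) e0 x hx ?_
    rw [show e0 + (e - e0) = e by omega]
    exact hxe
  refine Submodule.smul_induction_on h1 (fun a ha z hz => ?_) fun z w hz hw => by rw [hz, hw, add_zero]
  exact smul_eq_zero_of_killed hG hH α hk hU ha z hz

/-- **Algebraisation from a map with killed kernel and cokernel, with the algebraic map.** -/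
theorem exists_algebraisation_hom {F : ℕᵒᵖ ⥤ X.Modules} (hF : Formal.IsCohFormal I F)
    (hFF : ∀ e : ℕ, FFKilled I (K ^ e))
    (hES : ∀ e : ℕ, ∀ G : ℕᵒᵖ ⥤ X.Modules, Formal.IsCohFormal I G →
      (∀ n : ℕ, ClSub.KilledByIdeal (K ^ e) (G.obj (op n))) →
        ∃ M : X.Modules, Coh.IsCoh M ∧ ClSub.KilledByIdeal (K ^ e) M ∧ Nonempty (Formal.completion I M ≅ G))
    {H : X.Modules} (hH : Coh.IsCoh H) (α : F ⟶ Formal.completion I H) (e0 : ℕ)
    (hk : ∀ n : ℕ, ClSub.KilledByIdeal (K ^ e0) (kernel (α.app (op n))) ∧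
      ClSub.KilledByIdeal (K ^ e0) (cokernel (α.app (op n)))) :
    ∃ (M : X.Modules) (a : M ⟶ H) (i : F ≅ Formal.completion I M), Coh.IsCoh M ∧ i.hom ≫ complMap I a = α ∧
      ∃ t : ℕ, ClSub.KilledByIdeal (K ^ t) (kernel a) ∧ ClSub.KilledByIdeal (K ^ t) (cokernel a) := by
  classical
  have hHc := isCohFormal_completion (I := I) hH
  -- the cokernel is algebraic, and so is the projection to it
  have hC := isCohFormal_cokF hF hHc α
  have hCk : ∀ n : ℕ, ClSub.KilledByIdeal (K ^ e0) ((cokF α).obj (op n)) := fun n =>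
    killedByIdeal_of_mono _ (cokAppIso α n).hom (hk n).2
  obtain ⟨Cc, hCc, hkCc, ⟨iC⟩⟩ := hES e0 _ hC hCk
  have hCcc := isCohFormal_completion (I := I) hCc
  obtain ⟨g, hg⟩ := exists_complMap_eq_of_killed (hFF e0) hH hCc hkCc (cokernel.π α ≫ iC.inv)
  have hH' : Coh.IsCoh (kernel g) := QCohLib.isCoh_kernel g hH hCc.1
  have hH'c := isCohFormal_completion (I := I) hH'
  have hker : IsLimKer hH'c hHc hCcc (complMap I (kernel.ι g)) (complMap I g) := fun U hU =>
    complMap_kernel_lim hH hCc g hU hH'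
  obtain ⟨β, hβ⟩ := hker.exists_lift hF α
    (by rw [hg, cokernel.condition_assoc, zero_comp])
  have hιinj : ∀ (U : X.Opens) (hU : IsAffineOpen U),
      Function.Injective (secHom hH'c hHc hU (complMap I (kernel.ι g))).lim := fun U hU => (hker U hU).1
  have hβs : ∀ (U : X.Opens) (hU : IsAffineOpen U), Function.Surjective (secHom hF hH'c hU β).lim := by
    intro U hU y
    have h1 : (secHom hH'c hHc hU (complMap I (kernel.ι g))).lim y ∈ LinearMap.range (secHom hF hHc hU α).lim := by
      rw [← (cokπ_lim hF hHc α hC U hU).2, LinearMap.mem_ker]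
      have h2 := LinearMap.mem_ker.1 ((hker U hU).2.le ⟨y, rfl⟩)
      rw [lim_congr hHc hCcc hU hg, ← lim_comp hHc hC hCcc hU] at h2
      exact (lim_bijective_of_iso hC hCcc iC.inv hU).1 (h2.trans (map_zero _).symm)
    obtain ⟨x, hx⟩ := h1
    exact ⟨x, hιinj U hU ((lim_comp hF hH'c hHc hU β _ x).trans ((lim_congr hF hHc hU hβ x).trans hx))⟩
  have hβ0 : ∀ (U : X.Opens) (hU : IsAffineOpen U) (x : (secSys hF hU).L),
      (secHom hF hH'c hU β).lim x = 0 → (secHom hF hHc hU α).lim x = 0 := fun U hU x hx => by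
    rw [← lim_congr hF hHc hU hβ, ← lim_comp hF hH'c hHc hU, hx, map_zero]
  -- the uniform exponent
  obtain ⟨C, hCcov⟩ := exists_cover (X := X)
  choose e1 he1 using fun V : C => exists_ker_inf_pow hF hHc α e0 (fun n => (hk n).1) V.1.2
  let e := Finset.univ.sup e1
  -- the quotient is algebraic
  have hP := isCohFormal_quotF (I := I) (K ^ e) hF
  obtain ⟨Pc, hPc, hkPc, ⟨iP⟩⟩ := hES e _ hP fun n => killed_quotK (K ^ e) _
  have hPcc := isCohFormal_completion (I := I) hPc
  let q : F ⟶ Formal.completion I Pc := quotFπ (K ^ e) F ≫ iP.inv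
  have hT : Coh.IsCoh ((quotK (K ^ e)).obj (kernel g)) := isCoh_quotK _ hH'
  have hTc := isCohFormal_completion (I := I) hT
  have := hT.1
  obtain ⟨s, hs⟩ := exists_quotF_desc (K := K ^ e) (β ≫ complMap I (quotKπ (K ^ e) (kernel g)))
    (fun n => killedByIdeal_modPow _ (n + 1) (killed_quotK _ _))
  obtain ⟨v, hv⟩ := exists_complMap_eq (hFF e) hPc hT hkPc (killed_quotK _ _) (iP.hom ≫ s)
  have hqv : q ≫ complMap I v = β ≫ complMap I (quotKπ (K ^ e) (kernel g)) := by
    rw [hv, Category.assoc, iP.inv_hom_id_assoc, hs]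
  -- the fibre product
  let w : Pc ⊞ kernel g ⟶ (quotK (K ^ e)).obj (kernel g) := biprod.desc v (-quotKπ (K ^ e) (kernel g))
  have hB : Coh.IsCoh (Pc ⊞ kernel g) := DevissLib.isCoh_biprod hPc hH'
  have hBc := isCohFormal_completion (I := I) hB
  have hM : Coh.IsCoh (kernel w) := QCohLib.isCoh_kernel w hB hT.1
  have hMc := isCohFormal_completion (I := I) hM
  have hMker : IsLimKer hMc hBc hTc (complMap I (kernel.ι w)) (complMap I w) := fun U hU =>
    complMap_kernel_lim hB hT w hU hM
  let Φ0 : F ⟶ Formal.completion I (Pc ⊞ kernel g) := q ≫ complMap I biprod.inl + β ≫ complMap I biprod.inr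
  have hΦ0 : Φ0 ≫ complMap I w = 0 := by
    rw [Preadditive.add_comp, Category.assoc q, Category.assoc β, ← complMap_comp, ← complMap_comp,
      biprod.inl_desc, biprod.inr_desc, complMap_neg, Preadditive.comp_neg, hqv, add_neg_cancel]
  obtain ⟨Φ, hΦ⟩ := hMker.exists_lift hF Φ0 hΦ0
  have : IsIso Φ := by
    refine isIso_of_lim hF hMc Φ (fun V : C => V.1.1) (fun V => V.1.2)
      (fun x => by obtain ⟨V, hV, hx⟩ := hCcov x; exact ⟨⟨V, hV⟩, hx⟩) fun V => ?_
    obtain ⟨⟨U, hU⟩, hV⟩ := V
    let fq := (secHom hF hPcc hU q).lim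
    let fβ := (secHom hF hH'c hU β).lim
    let fl := (secHom hPcc hBc hU (complMap I biprod.inl)).lim
    let fr := (secHom hH'c hBc hU (complMap I biprod.inr)).lim
    let f1 := (secHom hBc hPcc hU (complMap I biprod.fst)).lim
    let f2 := (secHom hBc hH'c hU (complMap I biprod.snd)).lim
    let fw := (secHom hBc hTc hU (complMap I w)).lim
    let fm := (secHom hMc hBc hU (complMap I (kernel.ι w))).lim
    let fu := (secHom hPcc hTc hU (complMap I v)).lim
    let ft := (secHom hH'c hTc hU (complMap I (quotKπ (K ^ e) (kernel g)))).lim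
    have e11 : ∀ p, f1 (fl p) = p := fun p => by
      rw [lim_comp, ← complMap_comp, biprod.inl_fst, complMap_id, lim_id]
    have e12 : ∀ h, f1 (fr h) = 0 := fun h => by
      rw [lim_comp, ← complMap_comp, biprod.inr_fst, complMap_zero, lim_zero]
    have e21 : ∀ p, f2 (fl p) = 0 := fun p => by
      rw [lim_comp, ← complMap_comp, biprod.inl_snd, complMap_zero, lim_zero]
    have e22 : ∀ h, f2 (fr h) = h := fun h => by
      rw [lim_comp, ← complMap_comp, biprod.inr_snd, complMap_id, lim_id]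
    have etot : ∀ z, fl (f1 z) + fr (f2 z) = z := fun z => by
      rw [lim_comp, lim_comp, ← lim_add, ← complMap_comp, ← complMap_comp, ← complMap_add, biprod.total,
        complMap_id, lim_id]
    have ew : ∀ p h, fw (fl p + fr h) = fu p - ft h := fun p h => by
      rw [map_add, lim_comp, lim_comp, ← complMap_comp, ← complMap_comp, biprod.inl_desc, biprod.inr_desc,
        complMap_neg, lim_neg, sub_eq_add_neg]
    have eΦ : ∀ x, fm ((secHom hF hMc hU Φ).lim x) = fl (fq x) + fr (fβ x) := fun x => by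
      rw [lim_comp, lim_congr hF hBc hU hΦ, lim_comp, lim_comp, ← lim_add]
    have eqv : ∀ x, fu (fq x) = ft (fβ x) := fun x => by
      rw [lim_comp, lim_comp, lim_congr hF hTc hU hqv]
    have hqs : Function.Surjective fq := fun y => by
      obtain ⟨x, hx⟩ := lim_quotFπ_surjective (K ^ e) hF hU ((secHom hPcc hP hU iP.hom).lim y)
      refine ⟨x, ?_⟩
      show (secHom hF hPcc hU q).lim x = y
      rw [← lim_comp hF hP hPcc hU, hx, lim_comp, iP.hom_inv_id, lim_id]
    have hq0 : ∀ x, fq x = 0 ↔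
        x ∈ (K ^ e).ideal ⟨U, hU⟩ • (⊤ : Submodule Γ(X, U) (secSys hF hU).L) := fun x => by
      rw [← lim_quotFπ_eq_zero (K ^ e) hF hU x]
      show (secHom hF hPcc hU q).lim x = 0 ↔ _
      rw [← lim_comp hF hP hPcc hU]
      exact (map_eq_zero_iff _ (lim_bijective_of_iso hP hPcc iP.inv hU).1)
    refine ⟨(injective_iff_map_eq_zero _).2 fun x hx => ?_, fun y => ?_⟩
    · have h0 : fl (fq x) + fr (fβ x) = 0 := by rw [← eΦ, hx, map_zero]
      have hq : fq x = 0 := by
        have := congrArg f1 h0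
        rwa [map_add, e11, e12, add_zero, map_zero] at this
      have hb : fβ x = 0 := by
        have := congrArg f2 h0
        rwa [map_add, e21, e22, zero_add, map_zero] at this
      exact he1 ⟨⟨U, hU⟩, hV⟩ e (Finset.le_sup (f := e1) (Finset.mem_univ _)) x (hβ0 U hU x hb) ((hq0 x).1 hq)
    · let p := f1 (fm y)
      let h := f2 (fm y)
      have hph : fu p = ft h := sub_eq_zero.1 (by
        rw [← ew, etot]
        exact LinearMap.mem_ker.1 ((hMker U hU).2.le ⟨y, rfl⟩))
      obtain ⟨x, hx⟩ : ∃ x, fβ x = h := hβs U hU h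
      obtain ⟨x1, hx1⟩ := hqs p
      have hd : fβ (x1 - x) ∈ (K ^ e).ideal ⟨U, hU⟩ • (⊤ : Submodule Γ(X, U) (secSys hH'c hU).L) := by
        refine (lim_complMap_quotKπ_eq_zero (K ^ e) hH' hU _).1 ?_
        show ft (fβ (x1 - x)) = 0
        rw [map_sub, map_sub, ← eqv, hx1, hx, hph, sub_self]
      rw [← LinearMap.range_eq_top.2 (show Function.Surjective fβ from hβs U hU), LinearMap.range_eq_map,
        ← Submodule.map_smul''] at hd
      obtain ⟨k, hk1, hk2⟩ := hd
      refine ⟨x + (x1 - x - k), (hMker U hU).1 ?_⟩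
      show fm ((secHom hF hMc hU Φ).lim (x + (x1 - x - k))) = fm y
      rw [eΦ, map_add fq, map_sub fq, map_sub fq, (hq0 k).2 hk1, map_add fβ, map_sub fβ, hk2, sub_zero, sub_self,
        add_zero, add_sub_cancel, hx1, hx, etot]
  let a : kernel w ⟶ H := kernel.ι w ≫ biprod.snd ≫ kernel.ι g
  refine ⟨kernel w, a, asIso Φ, hM, ?_, e + e0, ?_, ?_⟩
  · show Φ ≫ complMap I (kernel.ι w ≫ biprod.snd ≫ kernel.ι g) = α
    rw [complMap_comp, complMap_comp, ← Category.assoc, hΦ, ← Category.assoc, Preadditive.add_comp,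
      Category.assoc q, Category.assoc β, ← complMap_comp, ← complMap_comp, biprod.inl_snd, biprod.inr_snd,
      complMap_zero, comp_zero, zero_add, complMap_id, Category.comp_id, hβ]
  · -- the kernel sits inside the killed part
    let ρ : kernel a ⟶ Pc := kernel.ι a ≫ kernel.ι w ≫ biprod.fst
    have : Mono ρ := Preadditive.mono_of_cancel_zero _ fun {Z} z hz => by
      apply (cancel_mono (kernel.ι a)).1
      rw [zero_comp]
      apply (cancel_mono (kernel.ι w)).1
      rw [zero_comp]
      apply biprod.hom_ext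
      · rw [zero_comp]
        simpa [ρ] using hz
      · rw [zero_comp]
        apply (cancel_mono (kernel.ι g)).1
        rw [zero_comp]
        have := congrArg (fun t => z ≫ t) (kernel.condition a)
        simpa [a] using this
    exact killedByIdeal_of_mono _ ρ fun V r hr m =>
      hkPc V r (Ideal.pow_le_pow_right (Nat.le_add_right e e0) hr) m
  · -- the cokernel is killed
    intro V r hr y
    obtain ⟨U, hU⟩ := V
    have := hM.1
    have := hH.1
    have : Coh.IsQCoh (cokernel a) := QCohLib.isQCoh_cokernel _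
    have := hH'.1
    obtain ⟨y, rfl⟩ := app_surjective_of_epi (cokernel.π a) hU y
    refine (QCohLib.app_smul (cokernel.π a) U r y).symm.trans ?_
    suffices ∃ m, a.app U m = r • y from by
      obtain ⟨m, hm⟩ := this
      rw [← hm]
      exact congrArg (fun t : kernel w ⟶ cokernel a => t.app U m) (cokernel.condition a)
    have hr' : r ∈ K.ideal ⟨U, hU⟩ ^ e * K.ideal ⟨U, hU⟩ ^ e0 := by
      rw [← pow_add]
      exact hr
    refine Submodule.mul_induction_on hr' (fun r1 hr1 r0 hr0 => ?_) fun p q ⟨m, hm⟩ ⟨m', hm'⟩ =>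
      ⟨m + m', by rw [map_add, hm, hm', add_smul]⟩
    have h0 : g.app U (r0 • y) = 0 := by
      rw [QCohLib.app_smul]
      exact hkCc ⟨U, hU⟩ r0 hr0 _
    obtain ⟨z, hz⟩ := QCohLib.exists_of_app_eq_zero
      (ShortComplex.exact_of_f_is_kernel (ShortComplex.mk _ _ (kernel.condition g)) (kernelIsKernel _))
      (inferInstanceAs (Mono (kernel.ι g))) _ h0
    have hw0 : w.app U ((biprod.inr : kernel g ⟶ Pc ⊞ kernel g).app U (r1 • z)) = 0 := by
      have h1 : (quotKπ (K ^ e) (kernel g)).app U (r1 • z) = 0 :=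
        (app_quotKπ_eq_zero (K ^ e) (kernel g) hU _).2 (Submodule.smul_mem_smul hr1 trivial)
      refine (congrArg (fun t : kernel g ⟶ (quotK (K ^ e)).obj (kernel g) => t.app U (r1 • z))
        (biprod.inr_desc v (-quotKπ (K ^ e) (kernel g)))).trans ?_
      show -((quotKπ (K ^ e) (kernel g)).app U (r1 • z)) = 0
      rw [h1, neg_zero]
    obtain ⟨m, hm⟩ := QCohLib.exists_of_app_eq_zero
      (ShortComplex.exact_of_f_is_kernel (ShortComplex.mk _ _ (kernel.condition w)) (kernelIsKernel _))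
      (inferInstanceAs (Mono (kernel.ι w))) _ hw0
    refine ⟨m, ?_⟩
    show (kernel.ι g).app U ((biprod.snd : Pc ⊞ kernel g ⟶ kernel g).app U ((kernel.ι w).app U m)) = _
    erw [hm]
    refine (congrArg (fun t : kernel g ⟶ kernel g => (kernel.ι g).app U (t.app U (r1 • z))) biprod.inr_snd).trans ?_
    show (kernel.ι g).app U (r1 • z) = _
    rw [QCohLib.app_smul, mul_smul]
    exact congrArg (r1 • ·) hz

/-- **Algebraisation from a map with killed kernel and cokernel.** -/
theorem exists_algebraisation {F : ℕᵒᵖ ⥤ X.Modules} (hF : Formal.IsCohFormal I F)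
    (hFF : ∀ e : ℕ, FFKilled I (K ^ e))
    (hES : ∀ e : ℕ, ∀ G : ℕᵒᵖ ⥤ X.Modules, Formal.IsCohFormal I G →
      (∀ n : ℕ, ClSub.KilledByIdeal (K ^ e) (G.obj (op n))) →
        ∃ M : X.Modules, Coh.IsCoh M ∧ ClSub.KilledByIdeal (K ^ e) M ∧ Nonempty (Formal.completion I M ≅ G))
    {H : X.Modules} (hH : Coh.IsCoh H) (α : F ⟶ Formal.completion I H) (e0 : ℕ)
    (hk : ∀ n : ℕ, ClSub.KilledByIdeal (K ^ e0) (kernel (α.app (op n))) ∧
      ClSub.KilledByIdeal (K ^ e0) (cokernel (α.app (op n)))) :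
    ∃ M : X.Modules, Coh.IsCoh M ∧ Nonempty (Formal.completion I M ≅ F) := by
  obtain ⟨M, -, i, hM, -, -⟩ := exists_algebraisation_hom hF hFF hES hH α e0 hk
  exact ⟨M, hM, ⟨i.symm⟩⟩

end FormalCohLib

end
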