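import Groth.Agent.FormalCohLib.Transfer
import Groth.Agent.FormalCohLib.PushPull
import Groth.Agent.FormalCohLib.Tricky
import Groth.Agent.FormalCohLib.ProjAmple
import Groth.Agent.HomCohLib.FullyFaithful
import Groth.Agent.RTrivLib.P1
import Groth.Agent.S0025

/-!
# Grothendieck's existence theorem for proper schemes
-/

set_option autoImplicit false

noncomputable section

universe u

open CategoryTheory CategoryTheory.Limits AlgebraicGeometry TopologicalSpace Opposite

namespace FormalCohLib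

variable {A : Type u} [CommRing A] [IsNoetherianRing A] (I : Ideal A) [IsAdicComplete I A]

section Step

variable {X : Scheme.{u}} [X.Over (Spec (CommRingCat.of A))] [IsProper (X ↘ Spec (CommRingCat.of A))]

/-- On an empty scheme everything is algebraic. -/
lemma exists_algebraisation_of_isEmpty [IsEmpty X] [AlgebraicGeometry.IsNoetherian X] {G : ℕᵒᵖ ⥤ X.Modules}
    (hG : Formal.IsCohFormal I G) : ∃ M : X.Modules, Coh.IsCoh M ∧ Nonempty (Formal.completion I M ≅ G) := by
  have hM := isCohFormal_completion (I := I) (hG.1 0)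
  let δ : Formal.completion I (G.obj (op 0)) ⟶ G := complDesc hG (fun _ => 0) fun _ => zero_comp
  have : IsIso δ := isIso_of_lim hM hG δ (fun e : PEmpty.{1} => e.elim) (fun e => e.elim)
    (fun x => (IsEmpty.false x).elim) fun e => e.elim
  exact ⟨_, hG.1 0, ⟨asIso δ⟩⟩

variable {I}

/-- **The step of the Noetherian induction.** -/
theorem exists_algebraisation_step (U : X.Opens)
    (hsmall : ∀ (X₂ : Scheme.{u}) [X₂.Over (Spec (CommRingCat.of A))] (i : X₂ ⟶ X) (_ : IsClosedImmersion i)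
      (_ : i ≫ (X ↘ Spec (CommRingCat.of A)) = X₂ ↘ Spec (CommRingCat.of A)),
      Disjoint (Set.range i) (U : Set X) → ∀ G₂ : ℕᵒᵖ ⥤ X₂.Modules, Formal.IsCohFormal I G₂ →
        ∃ M : X₂.Modules, Coh.IsCoh M ∧ Nonempty (Formal.completion I M ≅ G₂))
    {n : ℕ} {X' : Scheme.{u}} (π : X' ⟶ X) [IsProper π]
    (j : X' ⟶ CohB1.ProjSpaceOver n (Spec (CommRingCat.of A))) [IsImmersion j]
    (hj : j ≫ CohB1.ProjSpaceOver.toBase n _ = π ≫ (X ↘ Spec (CommRingCat.of A)))
    (hU : IsIso (π ∣_ U)) {G : ℕᵒᵖ ⥤ X.Modules} (hG : Formal.IsCohFormal I G) :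
    ∃ M : X.Modules, Coh.IsCoh M ∧ Nonempty (Formal.completion I M ≅ G) := by
  classical
  have : IsLocallyNoetherian X := LocallyOfFiniteType.isLocallyNoetherian (X ↘ Spec (CommRingCat.of A))
  have : CompactSpace X := QuasiCompact.compactSpace_of_compactSpace (X ↘ Spec (CommRingCat.of A))
  have : AlgebraicGeometry.IsNoetherian X := {}
  -- upstairs
  letI : X'.Over (Spec (CommRingCat.of A)) := ⟨π ≫ (X ↘ Spec (CommRingCat.of A))⟩
  have hπ : π ≫ (X ↘ Spec (CommRingCat.of A)) = X' ↘ Spec (CommRingCat.of A) := rfl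
  have : IsProper (X' ↘ Spec (CommRingCat.of A)) := hπ ▸ inferInstance
  have : IsLocallyNoetherian X' := LocallyOfFiniteType.isLocallyNoetherian π
  have : CompactSpace X' := QuasiCompact.compactSpace_of_compactSpace π
  have : AlgebraicGeometry.IsNoetherian X' := {}
  have := isProper_projToSpec n (ULift.{u} ℤ)
  have : IsProper (CohB1.ProjSpaceOver.toBase n (Spec (CommRingCat.of A))) :=
    MorphismProperty.pullback_snd _ _ inferInstance
  have : IsProper (j ≫ CohB1.ProjSpaceOver.toBase n (Spec (CommRingCat.of A))) := hj ▸ inferInstance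
  have : IsProper j := IsProper.of_comp j (CohB1.ProjSpaceOver.toBase n (Spec (CommRingCat.of A)))
  have : IsClosedImmersion j := IsClosedImmersion.of_isPreimmersion j j.isClosedMap.isClosed_range
  obtain ⟨e⟩ := RTrivLib.nonempty_iso n A
  obtain ⟨F, hF, ⟨β⟩⟩ := exists_algebraisation_ample
    (AmpleDevLib.isAmple_pb (f := j ≫ e.inv) (isAmple_twistProjSpace n A).1 (isAmple_twistProjSpace n A))
    (isCohFormal_pullback π hπ hG)
  -- comparison downstairs
  let K : X.IdealSheafData :=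
    Scheme.IdealSheafData.vanishingIdeal ⟨(U : Set X)ᶜ, U.isOpen.isClosed_compl⟩
  have hK : (K.support : Set X) = (U : Set X)ᶜ := Scheme.IdealSheafData.coe_support_vanishingIdeal _
  have hiso : IsIso (π ∣_ K.support.compl) := by
    have e' : K.support.compl = U := by
      ext x
      show x ∈ (K.support : Set X)ᶜ ↔ x ∈ (U : Set X)
      rw [hK, compl_compl]
    rw [e']
    exact hU
  obtain ⟨α, t, ht⟩ := exists_push_kerCoker π hπ K hiso hG hF β.symm
  refine exists_algebraisation (K := K) hG (fun e M N hM hN _ _ ψ => HomCohLib.existsUnique_of_completion_hom I hM hN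
      ⟨(QCohLib.isClosed_support _ hM.2).inter (QCohLib.isClosed_support _ hN.2), inferInstance⟩ ψ)
    (fun e G' hG' hk => ?_) (isCoh_push_proper π hF) α (t + 1) ht
  -- systems killed by a power of the bad ideal
  let ι := (K ^ e).subschemeι
  letI : (K ^ e).subscheme.Over (Spec (CommRingCat.of A)) := ⟨ι ≫ (X ↘ Spec (CommRingCat.of A))⟩
  have hι : ι ≫ (X ↘ Spec (CommRingCat.of A)) = (K ^ e).subscheme ↘ Spec (CommRingCat.of A) := rfl
  have : IsLocallyNoetherian (K ^ e).subscheme := LocallyOfFiniteType.isLocallyNoetherian ι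
  have : CompactSpace (K ^ e).subscheme := QuasiCompact.compactSpace_of_compactSpace ι
  have : AlgebraicGeometry.IsNoetherian (K ^ e).subscheme := {}
  have hdis : Disjoint (Set.range ι) (U : Set X) := by
    rw [Scheme.IdealSheafData.range_subschemeι, Set.disjoint_iff]
    rintro x ⟨hx, hxU⟩
    rcases Nat.eq_zero_or_pos e with rfl | he
    · rw [pow_zero, Scheme.IdealSheafData.one_eq_top, Scheme.IdealSheafData.support_top] at hx
      exact hx
    · rw [Scheme.IdealSheafData.support_pow _ _ he.ne', hK] at hx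
      exact hx hxU
  obtain ⟨M₂, hM₂, ⟨γ⟩⟩ := hsmall _ ι inferInstance hι hdis _ (isCohFormal_pullback ι hι hG')
  have hkill : ClSub.KilledByIdeal (K ^ e) ((Scheme.Modules.pushforward ι).obj M₂) := by
    have := CycKSuppLib.killed_push ι M₂
    rwa [Scheme.IdealSheafData.ker_subschemeι] at this
  refine ⟨(Scheme.Modules.pushforward ι).obj M₂, isCoh_push_proper ι hM₂, hkill, ⟨?_⟩⟩
  have := isIso_cmp (J := I) ι hι hM₂
  have : IsIso (quotFπ (K ^ e) G') := by
    have : ∀ m : ℕᵒᵖ, IsIso ((quotFπ (K ^ e) G').app m) := fun ⟨m⟩ =>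
      DevissLib.isIso_unit_of_killed ι (by rw [Scheme.IdealSheafData.ker_subschemeι]; exact hk m)
    exact NatIso.isIso_of_isIso_app _
  exact (@asIso _ _ _ _ (cmp (J := I) ι hι M₂) inferInstance ≪≫
    Functor.isoWhiskerRight γ (Scheme.Modules.pushforward ι)) ≪≫ (asIso (quotFπ (K ^ e) G')).symm

end Step

variable (X : Scheme.{u}) [X.Over (Spec (CommRingCat.of A))] [IsProper (X ↘ Spec (CommRingCat.of A))]

/-- **Grothendieck's existence theorem for proper schemes.** -/
theorem exists_algebraisation_proper {G : ℕᵒᵖ ⥤ X.Modules} (hG : Formal.IsCohFormal I G) :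
    ∃ M : X.Modules, Coh.IsCoh M ∧ Nonempty (Formal.completion I M ≅ G) := by
  have : IsLocallyNoetherian X := LocallyOfFiniteType.isLocallyNoetherian (X ↘ Spec (CommRingCat.of A))
  have : CompactSpace X := QuasiCompact.compactSpace_of_compactSpace (X ↘ Spec (CommRingCat.of A))
  have : AlgebraicGeometry.IsNoetherian X := {}
  suffices h : ∀ (Z : Closeds X) (X₁ : Scheme.{u}) [X₁.Over (Spec (CommRingCat.of A))] (i : X₁ ⟶ X)
      (_ : IsClosedImmersion i) (_ : i ≫ (X ↘ Spec (CommRingCat.of A)) = X₁ ↘ Spec (CommRingCat.of A)),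
      Set.range i ⊆ (Z : Set X) → ∀ G₁ : ℕᵒᵖ ⥤ X₁.Modules, Formal.IsCohFormal I G₁ →
        ∃ M : X₁.Modules, Coh.IsCoh M ∧ Nonempty (Formal.completion I M ≅ G₁) from
    h ⊤ X (𝟙 X) inferInstance (Category.id_comp _) (Set.subset_univ _) G hG
  intro Z
  refine WellFoundedLT.induction (motive := fun Z : Closeds X => ∀ (X₁ : Scheme.{u}) [X₁.Over (Spec (CommRingCat.of A))]
      (i : X₁ ⟶ X) (_ : IsClosedImmersion i)
      (_ : i ≫ (X ↘ Spec (CommRingCat.of A)) = X₁ ↘ Spec (CommRingCat.of A)),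
      Set.range i ⊆ (Z : Set X) → ∀ G₁ : ℕᵒᵖ ⥤ X₁.Modules, Formal.IsCohFormal I G₁ →
        ∃ M : X₁.Modules, Coh.IsCoh M ∧ Nonempty (Formal.completion I M ≅ G₁)) Z ?_
  intro Z ih
  intro X₁ _ i hi hc hZ G₁ hG₁
  have : IsProper (X₁ ↘ Spec (CommRingCat.of A)) := hc ▸ inferInstance
  have : IsLocallyNoetherian X₁ := LocallyOfFiniteType.isLocallyNoetherian i
  have : CompactSpace X₁ := QuasiCompact.compactSpace_of_compactSpace i
  have : AlgebraicGeometry.IsNoetherian X₁ := {}
  by_cases hX₁ : IsEmpty X₁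
  · exact exists_algebraisation_of_isEmpty I hG₁
  rw [not_isEmpty_iff] at hX₁
  obtain ⟨n, X', π, j, _, hj, _, -, U, hUd, hU⟩ :=
    Groth.Agent.S0025.result (X₁ ↘ Spec (CommRingCat.of A))
  refine exists_algebraisation_step U (fun X₂ _ i₂ hi₂ hc₂ hdis G₂ hG₂ => ?_) π j hj hU hG₁
  let Z₂ : Closeds X := ⟨Set.range (i₂ ≫ i), (i₂ ≫ i).isClosedEmbedding.isClosed_range⟩
  have hlt : Z₂ < Z := by
    refine lt_of_le_of_ne ?_ fun he => ?_
    · rintro _ ⟨x, rfl⟩
      exact hZ ⟨i₂ x, (Scheme.Hom.comp_apply i₂ i x).symm⟩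
    · obtain ⟨x, hx⟩ := hUd.nonempty
      have hix : i x ∈ (Z₂ : Set X) := he ▸ hZ ⟨x, rfl⟩
      obtain ⟨y, hy⟩ := hix
      rw [Scheme.Hom.comp_apply] at hy
      exact hdis.le_bot ⟨⟨y, i.isClosedEmbedding.injective hy⟩, hx⟩
  exact ih Z₂ hlt X₂ (i₂ ≫ i) inferInstance (by rw [Category.assoc, hc, hc₂]) subset_rfl G₂ hG₂

end FormalCohLib

end
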