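import Groth.Agent.FormalCohLib.Tricky
import Groth.Agent.GrSysLib.ThickSys

/-!
# Formal modules killed by a power of the ideal
-/

set_option autoImplicit false

noncomputable section

universe u

open CategoryTheory CategoryTheory.Limits AlgebraicGeometry TopologicalSpace Opposite
open FormalLib (rhoA)
open GrSysLib (trMap)

namespace FormalCohLib

variable {A : Type u} [CommRing A] (I : Ideal A) {X : Scheme.{u}} [X.Over (Spec (CommRingCat.of A))]

/-- The ideal sheaf generated by the ideal of the base. -/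
def idSheaf : X.IdealSheafData where
  ideal U := idU I U.1
  map_ideal_basicOpen U f := by
    show (I.map (rhoA A U.1)).map _ = I.map (rhoA A _)
    rw [Ideal.map_map]
    congr 1
    ext a
    show (X.presheaf.map _ ≫ X.presheaf.map _) _ = X.presheaf.map _ _
    rw [← Functor.map_comp]
    rfl

lemma idSheaf_pow_ideal (c : ℕ) (U : X.affineOpens) : (idSheaf I ^ c).ideal U = idU I U.1 ^ c := rfl

lemma smul_eq_zero_of_killedBy {J : Ideal A} {M : X.Modules} (h : Formal.KilledBy J M) {U : X.Opens}
    {a : Γ(X, U)} (ha : a ∈ J.map (rhoA A U)) (x : Γ(M, U)) : a • x = 0 := by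
  induction ha using Submodule.span_induction with
  | mem r hr =>
    obtain ⟨a, ha, rfl⟩ := hr
    exact congrArg (fun t : M ⟶ M => t.app U x) (h a ha)
  | zero => rw [zero_smul]
  | add r r' _ _ hr hr' => rw [add_smul, hr, hr', add_zero]
  | smul r r' _ hr => rw [smul_assoc, hr, smul_zero]

lemma killedByIdeal_idSheaf {c : ℕ} {M : X.Modules} (h : Formal.KilledBy (I ^ c) M) :
    ClSub.KilledByIdeal (idSheaf I ^ c) M := fun U a ha x => by
  rw [idSheaf_pow_ideal, idU_pow] at ha
  exact smul_eq_zero_of_killedBy h ha x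

lemma killedBy_of_idSheaf {c : ℕ} {M : X.Modules} [Coh.IsQCoh M] (h : ClSub.KilledByIdeal (idSheaf I ^ c) M) :
    Formal.KilledBy (I ^ c) M := fun a ha => by
  refine HomCohLib.eq_zero_of_app _ (fun V : X.affineOpens => V.1) (fun V => V.2) (fun x => ?_) fun V s => ?_
  · obtain ⟨V, hV, hx⟩ := QCohLib.exists_affine_nhd x
    exact ⟨⟨V, hV⟩, hx⟩
  · rw [smulMod_app]
    refine h V _ ?_ s
    rw [idSheaf_pow_ideal, idU_pow]
    exact Ideal.mem_map_of_mem _ ha

variable [AlgebraicGeometry.IsNoetherian X] {I}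

/-- **A formal module killed by a power of the ideal is algebraic.** -/
theorem exists_algebraisation_killed {F : ℕᵒᵖ ⥤ X.Modules} (hF : Formal.IsCohFormal I F) (c : ℕ)
    (hc : ∀ n : ℕ, Formal.KilledBy (I ^ c) (F.obj (op n))) :
    ∃ M : X.Modules, Coh.IsCoh M ∧ Formal.KilledBy (I ^ c) M ∧ Nonempty (Formal.completion I M ≅ F) := by
  have hkill : ∀ {U : X.Opens} (hU : IsAffineOpen U) (w : (secSys hF hU).L),
      w ∈ idU I U ^ (c + 1) • (⊤ : Submodule Γ(X, U) (secSys hF hU).L) → w = 0 := by
    intro U hU w hw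
    refine Submodule.smul_induction_on hw (fun r hr v _ => AdSys.ext fun n => ?_) fun a b ha hb => by
      rw [ha, hb, add_zero]
    rw [map_zero, map_smul]
    have hr' := Ideal.pow_le_pow_right (Nat.le_succ c) hr
    rw [idU_pow] at hr'
    exact smul_eq_zero_of_killedBy (hc n) hr' _
  have hiso : ∀ {m : ℕ} (h : c ≤ m), IsIso (trLE F h) := fun {m} h => by
    have := (hF.1 m).1
    have := (hF.1 c).1
    obtain ⟨C, hC⟩ := exists_cover (X := X)
    refine isIso_of_bijective_cover (fun V : C => V.1.1) (fun V => V.1.2)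
      (fun x => by obtain ⟨V, hV, hx⟩ := hC x; exact ⟨⟨V, hV⟩, hx⟩) _ fun V => ?_
    have := noethRing V.1.2
    refine ⟨(injective_iff_map_eq_zero _).2 fun x hx => ?_, fun y => ?_⟩
    · obtain ⟨w, rfl⟩ := (secSys hF V.1.2).proj_surjective m x
      rw [proj_trLE] at hx
      rw [hkill V.1.2 w ((AdSys.ker_proj _ c).le hx), map_zero]
      rfl
    · obtain ⟨w, rfl⟩ := (secSys hF V.1.2).proj_surjective c y
      exact ⟨_, proj_trLE hF V.1.2 h w⟩
  have := fun n : ℕ => hiso (le_max_left c n)
  let g : ∀ n, F.obj (op c) ⟶ F.obj (op n) := fun n => inv (trLE F (le_max_left c n)) ≫ trLE F (le_max_right c n)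
  have hgp : ∀ (n : ℕ) (U : X.Opens) (hU : IsAffineOpen U) (w : (secSys hF hU).L),
      (g n).app U ((secSys hF hU).proj c w) = (secSys hF hU).proj n w := fun n U hU w => by
    rw [← proj_trLE hF hU (le_max_left c n) w]
    refine (congrArg (fun t : F.obj (op (max c n)) ⟶ F.obj (op n) => t.app U ((secSys hF hU).proj (max c n) w))
      (IsIso.hom_inv_id_assoc (trLE F (le_max_left c n)) (trLE F (le_max_right c n)))).trans ?_
    exact proj_trLE hF hU (le_max_right c n) w
  obtain ⟨C, hC⟩ := exists_cover (X := X)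
  have hcov : ∀ x : X, ∃ V : C, x ∈ V.1.1 := fun x => by obtain ⟨V, hV, hx⟩ := hC x; exact ⟨⟨V, hV⟩, hx⟩
  have hg : ∀ n, g (n + 1) ≫ trMap F n = g n := fun n => by
    have := (hF.1 c).1
    refine hom_ext_cover (fun V : C => V.1.1) (fun V => V.1.2) hcov _ _ fun V s => ?_
    have := noethRing V.1.2
    obtain ⟨w, rfl⟩ := (secSys hF V.1.2).proj_surjective c s
    show (trMap F n).app _ ((g (n + 1)).app _ ((secSys hF V.1.2).proj c w)) = _
    rw [hgp, hgp]
    exact (secSys hF V.1.2).t_proj n w
  let δ := complDesc hF g hg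
  have : ∀ n : ℕᵒᵖ, IsIso (δ.app n) := fun ⟨n⟩ => by
    have := (hF.1 n).1
    have := (hF.1 c).1
    have : Coh.IsQCoh ((Formal.completion I (F.obj (op c))).obj (op n)) := isQCoh_modPow I _ (n + 1)
    refine isIso_of_bijective_cover (fun V : C => V.1.1) (fun V => V.1.2) hcov _ fun V => ?_
    obtain ⟨⟨U, hU⟩, hV⟩ := V
    have := noethRing hU
    have hδ : ∀ w, (δ.app (op n)).app U ((Formal.modPowπ I (n + 1) (F.obj (op c))).app U ((secSys hF hU).proj c w)) =
        (secSys hF hU).proj n w := fun w =>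
      (congrArg (fun t : F.obj (op c) ⟶ F.obj (op n) => t.app U ((secSys hF hU).proj c w))
        (π_complDesc hF g hg n)).trans (hgp n U hU w)
    refine ⟨(injective_iff_map_eq_zero _).2 fun x hx => ?_, fun y => ?_⟩
    · obtain ⟨z, rfl⟩ := app_modPowπ_surjective I (F.obj (op c)) (n + 1) hU x
      obtain ⟨w, rfl⟩ := (secSys hF hU).proj_surjective c z
      refine (app_modPowπ_eq_zero I _ _ hU _).2 ?_
      have h1 : w ∈ idU I U ^ (n + 1) • (⊤ : Submodule Γ(X, U) (secSys hF hU).L) :=
        (AdSys.ker_proj _ n).le ((hδ w).symm.trans hx)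
      have h2 := Submodule.mem_map_of_mem (f := (secSys hF hU).proj c) h1
      rw [Submodule.map_smul''] at h2
      exact Submodule.smul_mono le_rfl le_top h2
    · obtain ⟨w, rfl⟩ := (secSys hF hU).proj_surjective n y
      exact ⟨_, hδ w⟩
  have : IsIso δ := NatIso.isIso_of_isIso_app δ
  exact ⟨F.obj (op c), hF.1 c, hc c, ⟨asIso δ⟩⟩

/-- A morphism is zero if its completion is and one side is killed. -/
lemma eq_zero_of_complMap {M N : X.Modules} (hM : Coh.IsCoh M) (hN : Coh.IsCoh N) (c : ℕ)
    (hc : Formal.KilledBy (I ^ c) M ∨ Formal.KilledBy (I ^ c) N) (φ : M ⟶ N) (h : complMap I φ = 0) : φ = 0 := by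
  obtain ⟨C, hC⟩ := exists_cover (X := X)
  have := hM.1
  have := hN.1
  refine HomCohLib.eq_zero_of_app _ (fun V : C => V.1.1) (fun V => V.1.2)
    (fun x => by obtain ⟨V, hV, hx⟩ := hC x; exact ⟨⟨V, hV⟩, hx⟩) fun V m => ?_
  obtain ⟨⟨U, hU⟩, hV⟩ := V
  have := noethRing hU
  have hmem : ∀ n, φ.app U m ∈ idU I U ^ (n + 1) • (⊤ : Submodule Γ(X, U) Γ(N, U)) := fun n => by
    refine (app_modPowπ_eq_zero I N _ hU _).1 ?_
    rw [← complMap_app, h]
    rfl
  have hk : ∀ a ∈ idU I U ^ c, a • φ.app U m = 0 := fun a ha => by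
    rw [idU_pow] at ha
    rcases hc with hc | hc
    · refine (QCohLib.app_smul φ U a m).symm.trans ?_
      rw [smul_eq_zero_of_killedBy hc ha, map_zero]
    · exact smul_eq_zero_of_killedBy hc ha _
  have := QCohLib.finite_of_isFT hN.2 hU
  obtain ⟨d, hd⟩ := HomCohLib.mem_of_mem_inf_smul (idU I U) (Submodule.span Γ(X, U) {φ.app U m})
  have h1 := hd c (φ.app U m) (Submodule.mem_span_singleton_self _)
    (Submodule.smul_mono_left (Ideal.pow_le_pow_right (Nat.le_succ (c + d))) (hmem (c + d)))
  refine Submodule.smul_induction_on (p := fun z => z = 0) h1 (fun a ha z hz => ?_) fun z w hz hw => by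
    rw [hz, hw, add_zero]
  obtain ⟨r, rfl⟩ := Submodule.mem_span_singleton.1 hz
  rw [smul_comm, hk a ha, smul_zero]

lemma exists_complMap_eq_of_target {M N : X.Modules} (hN : Coh.IsCoh N) {c : ℕ} (hc : Formal.KilledBy (I ^ c) N)
    (ψ : Formal.completion I M ⟶ Formal.completion I N) : ∃ φ : M ⟶ N, complMap I φ = ψ := by
  have hk : Formal.KilledBy (I ^ (c + 1)) N := killedBy_mono (Ideal.pow_le_pow_right (Nat.le_succ c)) hc
  have hi := isIso_modPowπ_of_killed hk
  let p : Formal.modPow I (c + 1) N ⟶ N := inv (Formal.modPowπ I (c + 1) N)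
  refine ⟨Formal.modPowπ I (c + 1) M ≫ ψ.app (op c) ≫ p, completion_hom_ext fun n => ?_⟩
  rw [π_complMap]
  show (Formal.modPowπ I (c + 1) M ≫ (ψ.app (op c) : Formal.modPow I (c + 1) M ⟶ Formal.modPow I (c + 1) N) ≫ p) ≫
    Formal.modPowπ I (n + 1) N = _
  rcases le_total n c with h | h
  · have e : p ≫ Formal.modPowπ I (n + 1) N = trLE (Formal.completion I N) h := by
      rw [IsIso.inv_comp_eq]
      exact (π_completion_trLE N h).symm
    refine (Category.assoc _ _ _).trans ((congrArg (Formal.modPowπ I (c + 1) M ≫ ·) ((Category.assoc _ _ _).trans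
      (congrArg ((ψ.app (op c) : Formal.modPow I (c + 1) M ⟶ Formal.modPow I (c + 1) N) ≫ ·) e))).trans ?_)
    refine (congrArg (Formal.modPowπ I (c + 1) M ≫ ·) (ψ.naturality _).symm).trans ?_
    refine (Category.assoc _ _ _).symm.trans ?_
    exact congrArg (· ≫ ψ.app (op n)) (π_completion_trLE M h)
  · have := isIso_modPowπ_of_killed
      (killedBy_mono (Ideal.pow_le_pow_right (Nat.le_succ_of_le h)) hc : Formal.KilledBy (I ^ (n + 1)) N)
    have e : p ≫ Formal.modPowπ I (n + 1) N ≫ trLE (Formal.completion I N) h = 𝟙 _ := by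
      refine (congrArg (p ≫ ·) (π_completion_trLE N h)).trans ?_
      exact IsIso.inv_hom_id _
    have : IsIso (trLE (Formal.completion I N) h) := by
      have h1 : IsIso (Formal.modPowπ I (n + 1) N ≫
          (trLE (Formal.completion I N) h : Formal.modPow I (n + 1) N ⟶ Formal.modPow I (c + 1) N)) :=
        (π_completion_trLE (I := I) N h).symm ▸ hi
      exact IsIso.of_isIso_comp_left (Formal.modPowπ I (n + 1) N)
        (trLE (Formal.completion I N) h : Formal.modPow I (n + 1) N ⟶ Formal.modPow I (c + 1) N)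
    apply (cancel_mono (trLE (Formal.completion I N) h)).1
    refine (Category.assoc _ _ _).trans ?_
    refine (Category.assoc _ _ _).trans ((congrArg (Formal.modPowπ I (c + 1) M ≫ ·) ((Category.assoc _ _ _).trans
      (congrArg ((ψ.app (op c) : Formal.modPow I (c + 1) M ⟶ Formal.modPow I (c + 1) N) ≫ ·) e))).trans ?_)
    refine (congrArg (Formal.modPowπ I (c + 1) M ≫ ·) (Category.comp_id _)).trans ?_
    refine Eq.trans ?_ (Category.assoc _ _ _).symm
    refine (congrArg (· ≫ ψ.app (op c)) (π_completion_trLE M h).symm).trans ?_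
    refine (Category.assoc _ _ _).trans ?_
    exact congrArg (Formal.modPowπ I (n + 1) M ≫ ·) (ψ.naturality _)

/-- The part killed by a power of the ideal. -/
lemma exists_torsion {N : X.Modules} (hN : Coh.IsCoh N) (c : ℕ) :
    ∃ (k : ℕ) (a : Fin k → A) (_ : (Coh.IsCoh (⨁ fun _ : Fin k => N))),
      (∀ j, a j ∈ I ^ c) ∧ Formal.KilledBy (I ^ c) (kernel (biproduct.lift fun j : Fin k => Formal.smulMod A N (a j))) := by
  classical
  obtain ⟨C, hC⟩ := exists_cover (X := X)
  have hgen : ∀ V : C, ∃ s : Finset A, (∀ a ∈ s, a ∈ I ^ c) ∧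
      (I ^ c).map (rhoA A V.1.1) = Ideal.span ((rhoA A V.1.1) '' ↑s) := fun V => by
    have := noethRing V.1.2
    obtain ⟨t, ht, hs⟩ := Submodule.fg_span_iff_fg_span_finset_subset _ |>.1
      (IsNoetherian.noetherian ((I ^ c).map (rhoA A V.1.1)))
    obtain ⟨s, hs', rfl⟩ := Finset.subset_set_image_iff.1 ht
    refine ⟨s, fun a ha => hs' ha, hs.trans ?_⟩
    rw [Finset.coe_image]
  choose s hsI hs using hgen
  let r : Type u := Σ V : C, (s V : Set A)
  let e := Fintype.equivFin r
  let a : Fin (Fintype.card r) → A := fun j => (e.symm j).2.1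
  have hP : Coh.IsCoh (⨁ fun _ : Fin (Fintype.card r) => N) := GrSysLib.isCoh_biproduct hN
  refine ⟨_, a, hP, fun j => hsI _ _ (e.symm j).2.2, ?_⟩
  intro b hb
  let w := biproduct.lift fun j : Fin (Fintype.card r) => Formal.smulMod A N (a j)
  have := (QCohLib.isCoh_kernel w hN hP.1).1
  refine HomCohLib.eq_zero_of_app _ (fun V : C => V.1.1) (fun V => V.1.2)
    (fun x => by obtain ⟨V, hV, hx⟩ := hC x; exact ⟨⟨V, hV⟩, hx⟩) fun V x => ?_
  rw [smulMod_app]
  refine QCohLib.app_injective_of_mono (kernel.ι w) V.1.1 ?_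
  rw [map_zero]
  refine (QCohLib.app_smul (kernel.ι w) V.1.1 _ x).trans ?_
  have hb' : rhoA A V.1.1 b ∈ Ideal.span ((rhoA A V.1.1) '' ↑(s V)) := by
    rw [← hs V]; exact Ideal.mem_map_of_mem _ hb
  generalize rhoA A V.1.1 b = q at hb' ⊢
  induction hb' using Submodule.span_induction with
  | mem q hq =>
    obtain ⟨a', ha', rfl⟩ := hq
    let j := e (⟨V, a', ha'⟩ : r)
    have ej : a j = a' := congrArg (fun t : r => t.2.1) (e.symm_apply_apply _)
    rw [← ej]
    have e0 : kernel.ι w ≫ Formal.smulMod A N (a j) = 0 := by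
      rw [← biproduct.lift_π (fun j => Formal.smulMod A N (a j)) j, ← Category.assoc]
      show (kernel.ι w ≫ w) ≫ _ = 0
      rw [kernel.condition, zero_comp]
    exact congrArg (fun t : kernel w ⟶ N => t.app V.1.1 x) e0
  | zero => rw [zero_smul]
  | add q q' _ _ hq hq' => rw [add_smul, hq, hq', add_zero]
  | smul q q' _ hq => rw [smul_assoc, hq, smul_zero]

/-- **Maps of completions are algebraic if one side is killed by a power of the ideal.** -/
theorem existsUnique_complMap_of_killed {M N : X.Modules} (hM : Coh.IsCoh M) (hN : Coh.IsCoh N) (c : ℕ)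
    (hc : Formal.KilledBy (I ^ c) M ∨ Formal.KilledBy (I ^ c) N)
    (ψ : Formal.completion I M ⟶ Formal.completion I N) :
    ∃! φ : M ⟶ N, ∀ n : ℕ, Formal.modPowπ I (n + 1) M ≫ ψ.app (op n) = φ ≫ Formal.modPowπ I (n + 1) N := by
  have hex : ∃ φ : M ⟶ N, complMap I φ = ψ := by
    rcases hc with hc | hc
    · obtain ⟨r, a, hP, ha, hk⟩ := exists_torsion (I := I) hN c
      let w := biproduct.lift fun j : Fin r => Formal.smulMod A N (a j)
      have hK := QCohLib.isCoh_kernel w hN hP.1
      have hMc := isCohFormal_completion (I := I) hM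
      have hNc := isCohFormal_completion (I := I) hN
      have hPc := isCohFormal_completion (I := I) hP
      have hKc := isCohFormal_completion (I := I) hK
      have hker : IsLimKer hKc hNc hPc (complMap I (kernel.ι w)) (complMap I w) := fun U hU =>
        complMap_kernel_lim hN hP w hU hK
      have h0 : ψ ≫ complMap I w = 0 := completion_hom_ext fun n => by
        have e1 : ∀ j, complMap I w ≫ complMap I (biproduct.π _ j) = complMap I (Formal.smulMod A N (a j)) := fun j => by
          rw [← complMap_comp, biproduct.lift_π]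
        have e2 : ∀ j, ψ ≫ complMap I (Formal.smulMod A N (a j)) = 0 := fun j => completion_hom_ext fun n => by
          have e3 : (complMap I (Formal.smulMod A N (a j))).app (op n) =
              Formal.smulMod A (Formal.modPow I (n + 1) N) (a j) := by
            apply coequalizer.hom_ext
            exact (π_complMap _ n).trans (FormalProLib.smulMod_natural (Formal.modPowπ I (n + 1) N) (a j))
          rw [NatTrans.comp_app, e3]
          refine (congrArg (Formal.modPowπ I (n + 1) M ≫ ·) (FormalProLib.smulMod_natural (ψ.app (op n)) (a j)).symm).trans ?_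
          refine (Category.assoc _ _ _).symm.trans ?_
          refine (congrArg (· ≫ ψ.app (op n)) (FormalProLib.smulMod_natural (Formal.modPowπ I (n + 1) M) (a j)).symm).trans ?_
          rw [hc _ (ha j), zero_comp]
          exact (zero_comp).trans comp_zero.symm
        have e4 : ψ ≫ complMap I w = 0 := by
          classical
          rw [← Category.comp_id (ψ ≫ complMap I w), ← complMap_id,
            show (𝟙 (⨁ fun _ : Fin r => N)) = ∑ j : Fin r, biproduct.π (fun _ : Fin r => N) j ≫ biproduct.ι (fun _ : Fin r => N) j from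
              biproduct.total.symm]
          let f : (Fin r → ((⨁ fun _ : Fin r => N) ⟶ ⨁ fun _ : Fin r => N)) := fun j =>
            biproduct.π (fun _ : Fin r => N) j ≫ biproduct.ι (fun _ : Fin r => N) j
          have : ∀ t : Finset (Fin r), (ψ ≫ complMap I w) ≫ complMap I (∑ j ∈ t, f j) = 0 := fun t => by
            induction t using Finset.induction_on with
            | empty => rw [Finset.sum_empty, complMap_zero, comp_zero]
            | insert j t hj ih =>
              rw [Finset.sum_insert hj, complMap_add, Preadditive.comp_add, ih, add_zero, complMap_comp,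
                ← Category.assoc, Category.assoc ψ, e1, e2, zero_comp]
          exact this _
        rw [e4]
      obtain ⟨γ, hγ⟩ := hker.exists_lift hMc ψ h0
      obtain ⟨φ, hφ⟩ := exists_complMap_eq_of_target hK hk γ
      exact ⟨φ ≫ kernel.ι w, by rw [complMap_comp, hφ, hγ]⟩
    · exact exists_complMap_eq_of_target hN hc ψ
  obtain ⟨φ, hφ⟩ := hex
  refine ⟨φ, fun n => by rw [← hφ, π_complMap], fun φ' h => ?_⟩
  rw [← sub_eq_zero]
  refine eq_zero_of_complMap hM hN c hc _ ?_
  rw [sub_eq_add_neg, complMap_add, complMap_neg, hφ, add_neg_eq_zero]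
  exact completion_hom_ext fun n => (π_complMap φ' n).trans (h n).symm

end FormalCohLib

end
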