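import Groth.Agent.FormalCohLib.ProperSupp
import Groth.Agent.FormalCohLib.Torsion
import Groth.Agent.DevissLib.AnnIdeal
import Groth.Agent.DevissLib.ClosedImm
import Groth.Agent.FComplLib.Thicken
import Groth.Agent.ProperClopenLib.Thick

/-!
# Algebraisation of formal closed subschemes
-/

set_option autoImplicit false

noncomputable section

universe u

open CategoryTheory CategoryTheory.Limits AlgebraicGeometry TopologicalSpace Opposite
open FormalLib (rhoA)
open GrSysLib (trMap)

namespace FormalCohLib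

/-- The kernel of a base change of closed immersions over a scheme is the sum of the kernels. -/
lemma ker_of_isPullback_sup {P W T X : Scheme.{u}} {a : P ⟶ W} {b : P ⟶ T} {i : W ⟶ X} {j : T ⟶ X}
    [IsClosedImmersion i] [IsClosedImmersion j] (sq : IsPullback a b i j) : (a ≫ i).ker = i.ker ⊔ j.ker := by
  refine le_antisymm ?_ (sup_le (Scheme.Hom.le_ker_comp a i) (sq.w ▸ Scheme.Hom.le_ker_comp b j))
  let K := i.ker ⊔ j.ker
  let l₁ := IsClosedImmersion.lift i K.subschemeι (by rw [Scheme.IdealSheafData.ker_subschemeι]; exact le_sup_left)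
  let l₂ := IsClosedImmersion.lift j K.subschemeι (by rw [Scheme.IdealSheafData.ker_subschemeι]; exact le_sup_right)
  let l := sq.lift l₁ l₂ (by rw [IsClosedImmersion.lift_fac, IsClosedImmersion.lift_fac])
  have hl : l ≫ a ≫ i = K.subschemeι := by
    rw [← Category.assoc, sq.lift_fst, IsClosedImmersion.lift_fac]
  have := Scheme.Hom.le_ker_comp l (a ≫ i)
  rwa [hl, Scheme.IdealSheafData.ker_subschemeι] at this

/-- Maps of closed subschemes with the kernel of the fibre product form a pullback square. -/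
lemma isPullback_of_ker_sup {P W T X : Scheme.{u}} {a : P ⟶ W} {b : P ⟶ T} {i : W ⟶ X} {j : T ⟶ X}
    [IsClosedImmersion i] [IsClosedImmersion j] (w : a ≫ i = b ≫ j) [IsClosedImmersion (a ≫ i)]
    (h : (a ≫ i).ker = i.ker ⊔ j.ker) : IsPullback a b i j := by
  have hp : IsClosedImmersion (pullback.fst i j ≫ i) := inferInstance
  let c : P ⟶ pullback i j := pullback.lift a b w
  have : IsIso c := IsClosedImmersion.isIso_of_ker_eq (a ≫ i) (pullback.fst i j ≫ i) c
    (by rw [← Category.assoc, pullback.lift_fst]) (by rw [ker_of_isPullback_sup (IsPullback.of_hasPullback i j), h])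
  exact IsPullback.of_iso_pullback ⟨w⟩ (asIso c) (pullback.lift_fst _ _ _) (pullback.lift_snd _ _ _)

/-- The unit ideal away from the support. -/
lemma ideal_eq_top_of_disjoint {X : Scheme.{u}} (K : X.IdealSheafData) {U : X.Opens} (hU : IsAffineOpen U)
    (h : Disjoint (K.support : Set X) (U : Set X)) : K.ideal ⟨U, hU⟩ = ⊤ := by
  by_contra hne
  obtain ⟨P, hP, hle⟩ := Ideal.exists_le_maximal _ hne
  let p : Spec Γ(X, U) := ⟨P, hP.isPrime⟩
  have hpU : hU.fromSpec p ∈ U := by
    rw [← SetLike.mem_coe, ← hU.range_fromSpec]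
    exact ⟨p, rfl⟩
  refine Set.disjoint_left.1 h ((K.coe_support_inter ⟨U, hU⟩).ge ⟨?_, hpU⟩).1 hpU
  rw [Scheme.mem_zeroLocus_iff]
  intro r hr hmem
  have h1 : p ∈ hU.fromSpec ⁻¹ᵁ X.basicOpen r := hmem
  rw [hU.fromSpec_preimage_basicOpen] at h1
  exact h1 (hle hr)

variable {A : Type u} [CommRing A] (I : Ideal A)

section Ker

variable {X : Scheme.{u}} [X.Over (Spec (CommRingCat.of A))]

/-- The ideal of a thickening. -/
theorem ker_thickι (n : ℕ) :
    (CohB1.thickι (X ↘ Spec (CommRingCat.of A)) I n).ker = idSheaf I ^ (n + 1) := by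
  refine Scheme.IdealSheafData.ext (funext fun U => ?_)
  have e : (CohB1.thickι (X ↘ Spec (CommRingCat.of A)) I n).ker =
      (CohB1.specQuot I n).ker.comap (X ↘ Spec (CommRingCat.of A)) :=
    Scheme.IdealSheafData.ker_fst_of_isClosedImmersion _ _
  rw [e, Groth.Agent.S4666.ideal_comap_eq _ _ ⟨⊤, isAffineOpen_top _⟩ U le_top, idSheaf_pow_ideal, idU_pow,
    Scheme.Hom.ker_apply]
  have hr : ∀ a : A, (X ↘ Spec (CommRingCat.of A)).appLE ⊤ U.1 le_top ((Scheme.ΓSpecIso (CommRingCat.of A)).inv a) =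
      rhoA A U.1 a := fun a => rfl
  have hn : ∀ a : A, (CohB1.specQuot I n).app ⊤ ((Scheme.ΓSpecIso (CommRingCat.of A)).inv a) =
      (Scheme.ΓSpecIso (CommRingCat.of (A ⧸ I ^ (n + 1)))).inv (Ideal.Quotient.mk (I ^ (n + 1)) a) := fun a =>
    (ConcreteCategory.congr_hom (Scheme.ΓSpecIso_inv_naturality
      (CommRingCat.ofHom (Ideal.Quotient.mk (I ^ (n + 1))))) a).symm
  refine le_antisymm (Ideal.map_le_iff_le_comap.2 fun x hx => ?_) (Ideal.map_le_iff_le_comap.2 fun a ha => ?_)
  · obtain ⟨a, rfl⟩ := (ConcreteCategory.bijective_of_isIso (Scheme.ΓSpecIso (CommRingCat.of A)).inv).2 x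
    have h0 := RingHom.mem_ker.1 hx
    have h1 : Ideal.Quotient.mk (I ^ (n + 1)) a = 0 :=
      (ConcreteCategory.bijective_of_isIso (Scheme.ΓSpecIso (CommRingCat.of (A ⧸ I ^ (n + 1)))).inv).1
        (((hn a).symm.trans h0).trans (map_zero _).symm)
    rw [Ideal.mem_comap]
    exact (hr a).symm ▸ Ideal.mem_map_of_mem _ (Ideal.Quotient.eq_zero_iff_mem.1 h1)
  · rw [Ideal.mem_comap, ← hr a]
    refine Ideal.mem_map_of_mem _ (RingHom.mem_ker.2 ?_)
    refine (hn a).trans ?_
    rw [Ideal.Quotient.eq_zero_iff_mem.2 ha, map_zero]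
    rfl

/-- A closed subset proper over a complete ring which misses the special fibre is empty. -/
lemma eq_empty_of_isProperOver [IsNoetherianRing A] [IsAdicComplete I A] {S : Set X}
    (hS : ClSub.IsProperOver (X ↘ Spec (CommRingCat.of A)) S)
    (h : ∀ x ∈ S, ∃ a ∈ I, a ∉ ((X ↘ Spec (CommRingCat.of A)) x).asIdeal) : S = ∅ := by
  by_contra hne
  obtain ⟨x, hx⟩ := Set.nonempty_iff_ne_empty.2 hne
  obtain ⟨T, i, hi, hr, hp⟩ := ProperOverLib.exists_closedImmersion hS
  obtain ⟨t, rfl⟩ : x ∈ Set.range i := hr.ge hx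
  have : CompactSpace T := QuasiCompact.compactSpace_of_compactSpace (i ≫ (X ↘ Spec (CommRingCat.of A)))
  obtain ⟨s, -, hs⟩ := IsClosed.exists_closed_singleton (isClosed_closure (s := ({t} : Set T))) ⟨t, subset_closure rfl⟩
  obtain ⟨a, ha, hna⟩ := h (i s) (hr.le ⟨s, rfl⟩)
  exact hna (mem_asIdeal_of_isClosed I (i ≫ (X ↘ Spec (CommRingCat.of A))) hs ha)

end Ker

section Main

variable {I} {X : Scheme.{u}} [X.Over (Spec (CommRingCat.of A))]

local notation "O" => Coh.structureModule X

/-- Sections of the quotient of the structure sheaf. -/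
lemma app_quotKπ_unit_eq_zero (K : X.IdealSheafData) {U : X.Opens} (hU : IsAffineOpen U) (a : Γ(X, U)) :
    (quotKπ K O).app U (show Γ(O, U) from a) = 0 ↔ a ∈ K.ideal ⟨U, hU⟩ := by
  have : Coh.IsQCoh O := QCohLib.isQCoh_unit
  rw [app_quotKπ_eq_zero K O hU]
  refine ⟨fun h => ?_, fun h => ?_⟩
  · refine Submodule.smul_induction_on (p := fun z : Γ(O, U) => (show Γ(X, U) from z) ∈ K.ideal ⟨U, hU⟩) h
      (fun r hr m _ => Ideal.mul_mem_right (show Γ(X, U) from m) _ hr) fun x y hx hy => add_mem hx hy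
  · have h1 := Submodule.smul_mem_smul h (Submodule.mem_top : (show Γ(O, U) from (1 : Γ(X, U))) ∈ (⊤ : Submodule Γ(X, U) Γ(O, U)))
    rwa [show a • (show Γ(O, U) from (1 : Γ(X, U))) = (show Γ(O, U) from a) from mul_one a] at h1

variable [IsNoetherianRing A] [IsAdicComplete I A] [IsSeparated (X ↘ Spec (CommRingCat.of A))]
  [LocallyOfFiniteType (X ↘ Spec (CommRingCat.of A))] [QuasiCompact (X ↘ Spec (CommRingCat.of A))]

/-- **A compatible system of ideals with proper support at level zero comes from one ideal with proper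
support.** -/
theorem exists_ideal_of_system (J : ℕ → X.IdealSheafData)
    (hJ : ∀ n, J n = J (n + 1) ⊔ idSheaf I ^ (n + 1))
    (hJ0 : ClSub.IsProperOver (X ↘ Spec (CommRingCat.of A)) (J 0).support) :
    ∃ K : X.IdealSheafData, IsProper (K.subschemeι ≫ (X ↘ Spec (CommRingCat.of A))) ∧
      ∀ n, J n = K ⊔ idSheaf I ^ (n + 1) := by
  have : IsLocallyNoetherian X := LocallyOfFiniteType.isLocallyNoetherian (X ↘ Spec (CommRingCat.of A))
  have : CompactSpace X := QuasiCompact.compactSpace_of_compactSpace (X ↘ Spec (CommRingCat.of A))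
  have : AlgebraicGeometry.IsNoetherian X := {}
  have hO : Coh.IsCoh O := DevissLib.isCoh_structureModule X
  have := hO.1
  have hle : ∀ n, J (n + 1) ≤ J n := fun n => by rw [hJ n]; exact le_sup_left
  have hEle : ∀ n, idSheaf I ^ (n + 1) ≤ J n := fun n => by rw [hJ n]; exact le_sup_right
  -- the system of quotients of the structure sheaf
  have hkJ : ∀ n, ClSub.KilledByIdeal (J (n + 1)) ((quotK (J n)).obj O) := fun n U a ha m =>
    killed_quotK (J n) O U a (hle n U ha) m
  choose d hd using fun n => (existsUnique_quotK (J (n + 1)) (hkJ n) (quotKπ (J n) O)).exists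
  let G : ℕᵒᵖ ⥤ X.Modules := Functor.ofOpSequence (X := fun n => (quotK (J n)).obj O) d
  have hGtr : ∀ n, trMap G n = d n := fun n => Functor.ofOpSequence_map_homOfLE_succ _ _
  have hkI : ∀ n, Formal.KilledBy (I ^ (n + 1)) ((quotK (J n)).obj O) := fun n =>
    haveI := isQCoh_quotK (J n) O
    killedBy_of_idSheaf I fun U a ha m => killed_quotK (J n) O U a (hEle n U ha) m
  have hG : Formal.IsCohFormal I G := by
    refine ⟨fun n => isCoh_quotK (J n) hO, hkI, fun n => ?_⟩
    let C := cokernel (Formal.smulFamily (I ^ (n + 1)) (G.obj (op (n + 1))))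
    let q : (quotK (J (n + 1))).obj O ⟶ C := cokernel.π (Formal.smulFamily (I ^ (n + 1)) (G.obj (op (n + 1))))
    have hQ : Coh.IsQCoh ((quotK (J (n + 1))).obj O) := isQCoh_quotK (J (n + 1)) O
    have hQ' : Coh.IsQCoh (G.obj (op (n + 1))) := hQ
    have hC : Coh.IsQCoh C := isQCoh_modPow I (G.obj (op (n + 1))) (n + 1)
    have hCk : ClSub.KilledByIdeal (J n) C := by
      intro U a ha m
      rw [hJ n, Scheme.IdealSheafData.ideal_sup] at ha
      obtain ⟨b, hb, c, hc, rfl⟩ := Submodule.mem_sup.1 ha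
      obtain ⟨m', rfl⟩ := app_modPowπ_surjective I (G.obj (op (n + 1))) (n + 1) U.2 m
      let z : Γ(C, U.1) := (Formal.modPowπ I (n + 1) (G.obj (op (n + 1)))).app U.1 m'
      have hb0 : b • z = 0 := (QCohLib.app_smul _ U.1 b m').symm.trans
        ((congrArg _ (killed_quotK (J (n + 1)) O U b hb m')).trans (map_zero _))
      have hc0 : c • z = 0 := killedByIdeal_idSheaf I (killedBy_modPow (n + 1) (G.obj (op (n + 1)))) U c hc z
      show (b + c) • z = 0
      rw [add_smul, hb0, hc0, add_zero]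
    obtain ⟨r, hr, -⟩ := existsUnique_quotK (J n) hCk (quotKπ (J (n + 1)) O ≫ q)
    have key : ∀ t : G.obj (op (n + 1)) ⟶ G.obj (op n), t = d n →
        ∃ h : Formal.smulFamily (I ^ (n + 1)) (G.obj (op (n + 1))) ≫ t = 0, IsIso (cokernel.desc _ t h) := by
      rintro t rfl
      refine ⟨smulFamily_comp_eq_zero _ (hkI n), r, ?_, ?_⟩
      · apply coequalizer.hom_ext
        show q ≫ cokernel.desc _ _ _ ≫ r = q ≫ 𝟙 C
        rw [Category.comp_id]
        refine (cokernel.π_desc_assoc _ _ _ _).trans ?_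
        refine (existsUnique_quotK (J (n + 1)) (fun U a ha m => hCk U a (hle n U ha) m) (quotKπ (J (n + 1)) O ≫ q)).unique
          ?_ rfl
        show quotKπ (J (n + 1)) O ≫ d n ≫ r = _
        rw [← Category.assoc, hd, hr]
      · refine (existsUnique_quotK (J n) (killed_quotK (J n) O) (quotKπ (J n) O)).unique ?_ (Category.comp_id _)
        show quotKπ (J n) O ≫ r ≫ _ = _
        rw [← Category.assoc, hr, Category.assoc]
        refine (congrArg (quotKπ (J (n + 1)) O ≫ ·) (cokernel.π_desc _ _ _)).trans (hd n)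
    exact key _ (hGtr n)
  -- proper support
  have hGs : ClSub.IsProperOver (X ↘ Spec (CommRingCat.of A)) (CohB1.support (G.obj (op 0))) := by
    have hs : CohB1.support (G.obj (op 0)) ⊆ ((J 0).support : Set X) :=
      support_subset_of_affine (J 0).support.isClosed fun W hW hd s => by
        have h1 := killed_quotK (J 0) O ⟨W, hW⟩ 1
          (by rw [ideal_eq_top_of_disjoint (J 0) hW hd.symm]; trivial) s
        exact (one_smul Γ(X, W) (show Γ((quotK (J 0)).obj O, W) from s)).symm.trans h1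
    obtain ⟨T, i, hi, hr, hp⟩ := ProperOverLib.exists_closedImmersion hJ0
    exact ProperOverLib.of_map i _ _ (QCohLib.isClosed_support _ (hG.1 0).2) (hs.trans hr.ge)
  obtain ⟨M, hM, hMs, ⟨γ⟩⟩ := exists_algebraisation_properSupport I X hG hGs
  have := hM.1
  -- the map from the structure sheaf
  let θ : Formal.completion I O ⟶ G := complDesc hG (fun n => quotKπ (J n) O) fun n => by rw [hGtr]; exact hd n
  have hOM : ClSub.IsProperOver (X ↘ Spec (CommRingCat.of A)) (CohB1.support O ∩ CohB1.support M) := by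
    obtain ⟨T, i, hi, hr, hp⟩ := ProperOverLib.exists_closedImmersion hMs
    exact ProperOverLib.of_map i _ _ ((QCohLib.isClosed_support _ hO.2).inter (QCohLib.isClosed_support _ hM.2))
      (Set.inter_subset_right.trans hr.ge)
  obtain ⟨φ, hφ, -⟩ := HomCohLib.existsUnique_of_completion_hom I hO hM hOM (θ ≫ γ.inv)
  have hφn : ∀ n, φ ≫ Formal.modPowπ I (n + 1) M = quotKπ (J n) O ≫ γ.inv.app (op n) := fun n =>
    (hφ n).symm.trans ((Category.assoc _ _ _).symm.trans (congrArg (· ≫ γ.inv.app (op n)) (π_complDesc hG _ _ n)))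
  -- surjective
  have hQ : Coh.IsCoh (cokernel φ) := QCohLib.isCoh_cokernel φ hO.1 hM
  have := hQ.1
  have : Epi φ := by
    have hz : CohB1.support (cokernel φ) = ∅ := by
      obtain ⟨T, i, hi, hr, hp⟩ := ProperOverLib.exists_closedImmersion hMs
      refine eq_empty_of_isProperOver I (ProperOverLib.of_map i _ _ (QCohLib.isClosed_support _ hQ.2)
        ((support_subset_of_epi (QCohLib.isClosed_support _ hM.2) (cokernel.π φ) subset_rfl).trans hr.ge))
        fun x hx => ?_
      obtain ⟨W, hW, hxW⟩ := QCohLib.exists_affine_nhd x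
      have := QCohLib.finite_of_isFT hQ.2 hW
      have htop : (⊤ : Submodule Γ(X, W) Γ(cokernel φ, W)) ≤ idU I W • ⊤ := fun q _ => by
        obtain ⟨m, rfl⟩ := app_surjective_of_epi (cokernel.π φ) hW q
        have : Coh.IsQCoh ((quotK (J 0)).obj O) := isQCoh_quotK (J 0) O
        obtain ⟨a, ha⟩ := app_quotKπ_surjective (J 0) O hW ((γ.hom.app (op 0)).app W ((Formal.modPowπ I (0 + 1) M).app W m))
        have h1 : (Formal.modPowπ I (0 + 1) M).app W (φ.app W a) = (Formal.modPowπ I (0 + 1) M).app W m := by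
          refine (congrArg (fun t : O ⟶ Formal.modPow I (0 + 1) M => t.app W a) (hφn 0)).trans ?_
          refine (congrArg ((γ.inv.app (op 0)).app W) ha).trans ?_
          exact congrArg (fun t : (Formal.completion I M).obj (op 0) ⟶ (Formal.completion I M).obj (op 0) =>
            t.app W ((Formal.modPowπ I (0 + 1) M).app W m)) (γ.hom_inv_id_app (op 0))
        have h2 : (Formal.modPowπ I (0 + 1) M).app W (m - φ.app W a) = 0 := by
          rw [map_sub, h1, sub_self]
        have h3 := Submodule.mem_map_of_mem (f := QCohLib.appLin (cokernel.π φ) W)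
          ((app_modPowπ_eq_zero I M (0 + 1) hW _).1 h2)
        rw [Submodule.map_smul'', zero_add, pow_one] at h3
        have e : QCohLib.appLin (cokernel.π φ) W (m - φ.app W a) = (cokernel.π φ).app W m := by
          show (cokernel.π φ).app W (m - φ.app W a) = _
          rw [map_sub, show (cokernel.π φ).app W (φ.app W a) = 0 from
            congrArg (fun t : O ⟶ cokernel φ => t.app W a) (cokernel.condition φ), sub_zero]
        rw [e] at h3
        exact Submodule.smul_mono le_rfl le_top h3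
      obtain ⟨r, hr, hr0⟩ :=
        Submodule.exists_sub_one_mem_and_smul_eq_zero_of_fg_of_le_smul (idU I W) ⊤ Module.Finite.fg_top htop
      let P := hW.primeIdealOf ⟨x, hxW⟩
      have hrP : r ∈ P.asIdeal := by
        by_contra hn
        have hsupp : P ∈ Module.support Γ(X, W) Γ(cokernel φ, W) := (QCohLib.mem_support_iff hW hxW).2 hx
        rw [← not_not (a := P ∈ _), Module.notMem_support_iff'] at hsupp
        exact hsupp fun m => ⟨r, hn, hr0 m trivial⟩
      by_contra! hall
      have hIP : idU I W ≤ P.asIdeal := Ideal.map_le_iff_le_comap.2 fun a ha => by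
        show rhoA A W a ∈ P.asIdeal
        by_contra hn
        have h1 : hW.fromSpec P ∈ X.basicOpen (rhoA A W a) := by
          show P ∈ hW.fromSpec ⁻¹ᵁ X.basicOpen (rhoA A W a)
          rw [hW.fromSpec_preimage_basicOpen]
          exact hn
        rw [hW.fromSpec_primeIdealOf ⟨x, hxW⟩] at h1
        have h3 : x ∈ W ⊓ X.basicOpen (Coh.toGlobal (X ↘ Spec (CommRingCat.of A)) a) :=
          (Scheme.basicOpen_res X (Coh.toGlobal (X ↘ Spec (CommRingCat.of A)) a)
            (homOfLE (le_top : W ≤ ⊤)).op).le h1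
        have h4 : x ∈ (X ↘ Spec (CommRingCat.of A)) ⁻¹ᵁ
            (Spec (CommRingCat.of A)).basicOpen ((Scheme.ΓSpecIso (CommRingCat.of A)).inv a) := by
          rw [Scheme.preimage_basicOpen_top]
          exact h3.2
        rw [basicOpen_eq_of_affine'] at h4
        have h5 : (Scheme.ΓSpecIso (CommRingCat.of A)).hom ((Scheme.ΓSpecIso (CommRingCat.of A)).inv a) = a :=
          congr($((Scheme.ΓSpecIso (CommRingCat.of A)).inv_hom_id) a)
        rw [h5] at h4
        exact h4 (hall a ha)
      exact P.isPrime.ne_top ((Ideal.eq_top_iff_one _).2 (by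
        have := sub_mem hrP (hIP hr)
        rwa [sub_sub_cancel] at this))
    refine Preadditive.epi_of_cokernel_zero ?_
    refine HomCohLib.eq_zero_of_app _ (fun W : X.affineOpens => W.1) (fun W => W.2) (fun x => ?_) fun W m => ?_
    · obtain ⟨W, hW, hx⟩ := QCohLib.exists_affine_nhd x
      exact ⟨⟨W, hW⟩, hx⟩
    · exact eq_zero_of_support hz.le (Set.disjoint_empty _) _
  -- the ideal
  let K := DevissLib.annIdeal M hM.2
  have hKs : (K.support : Set X) = CohB1.support M := DevissLib.support_annIdeal M hM.2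
  refine ⟨K, ProperOverLib.isProper_comp_closedImmersion hMs _ ?_, fun n => ?_⟩
  · rw [Scheme.IdealSheafData.range_subschemeι, hKs]
  refine Scheme.IdealSheafData.ext (funext fun U => ?_)
  obtain ⟨U, hU⟩ := U
  have : Coh.IsQCoh ((quotK (J n)).obj O) := isQCoh_quotK (J n) O
  have hφs := app_surjective_of_epi φ hU
  have hsm : ∀ a : Γ(X, U), φ.app U (show Γ(O, U) from a) = a • φ.app U (show Γ(O, U) from (1 : Γ(X, U))) := fun a => by
    refine Eq.trans ?_ (QCohLib.app_smul φ U a _)
    exact congrArg (φ.app U) (mul_one a).symm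
  have hK : ∀ a : Γ(X, U), a ∈ K.ideal ⟨U, hU⟩ ↔ φ.app U (show Γ(O, U) from a) = 0 := fun a => by
    refine ⟨fun ha => (hsm a).trans (DevissLib.killed_annIdeal M hM.2 ⟨U, hU⟩ a ha _), fun ha => ?_⟩
    refine Module.mem_annihilator.2 fun (m : Γ(M, U)) => ?_
    obtain ⟨b, rfl⟩ := hφs m
    rw [hsm b, smul_comm, ← hsm a, ha, smul_zero]
  have hiff : ∀ a : Γ(X, U), a ∈ (J n).ideal ⟨U, hU⟩ ↔
      φ.app U (show Γ(O, U) from a) ∈ idU I U ^ (n + 1) • (⊤ : Submodule Γ(X, U) Γ(M, U)) := fun a => by
    rw [← app_quotKπ_unit_eq_zero (J n) hU a, ← app_modPowπ_eq_zero I M (n + 1) hU]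
    have e := congrArg (fun t : O ⟶ Formal.modPow I (n + 1) M => t.app U (show Γ(O, U) from a)) (hφn n)
    refine Iff.trans ?_ (Iff.of_eq (congrArg (· = 0) e)).symm
    refine ⟨fun h => (congrArg ((γ.inv.app (op n)).app U) h).trans (map_zero _), fun h => ?_⟩
    have : IsIso (γ.inv.app (op n)) := (NatTrans.isIso_iff_isIso_app γ.inv).1 inferInstance (op n)
    exact QCohLib.app_injective_of_mono (γ.inv.app (op n)) U (h.trans (map_zero _).symm)
  rw [Scheme.IdealSheafData.ideal_sup]
  show _ = K.ideal ⟨U, hU⟩ ⊔ (idSheaf I ^ (n + 1)).ideal ⟨U, hU⟩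
  rw [idSheaf_pow_ideal]
  ext a
  rw [hiff, Submodule.mem_sup]
  constructor
  · intro h
    obtain ⟨b, hb, hba⟩ : ∃ b ∈ idU I U ^ (n + 1), φ.app U (show Γ(O, U) from b) = φ.app U (show Γ(O, U) from a) := by
      refine Submodule.smul_induction_on (p := fun v => ∃ b ∈ idU I U ^ (n + 1), φ.app U (show Γ(O, U) from b) = v) h
        (fun r hr m _ => ?_) ?_
      · obtain ⟨c, rfl⟩ := hφs m
        exact ⟨r * (show Γ(X, U) from c), Ideal.mul_mem_right _ _ hr, QCohLib.app_smul φ U r c⟩
      · rintro v w ⟨b, hb, rfl⟩ ⟨c, hc, rfl⟩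
        exact ⟨b + c, add_mem hb hc, map_add (φ.app U).hom _ _⟩
    refine ⟨a - b, (hK _).2 ((map_sub (φ.app U).hom _ _).trans (sub_eq_zero.2 hba.symm)), b, hb, sub_add_cancel a b⟩
  · rintro ⟨k, hk, b, hb, rfl⟩
    have e : φ.app U (show Γ(O, U) from k + b) = φ.app U (show Γ(O, U) from b) := by
      refine (map_add (φ.app U).hom (show Γ(O, U) from k) (show Γ(O, U) from b)).trans ?_
      rw [show (φ.app U).hom (show Γ(O, U) from k) = 0 from (hK k).1 hk, zero_add]
    rw [e, hsm b]
    exact Submodule.smul_mem_smul hb trivial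

end Main

section Sub

variable {A : Type u} [CommRing A] [IsNoetherianRing A] (I : Ideal A) [IsAdicComplete I A] {X : Scheme.{u}}
  (f : X ⟶ Spec (CommRingCat.of A)) [IsSeparated f] [LocallyOfFiniteType f] [QuasiCompact f]

omit [IsNoetherianRing A] [IsAdicComplete I A] [IsSeparated f] [LocallyOfFiniteType f] [QuasiCompact f] in
lemma thickTrans_thickι (n : ℕ) : CohB1.thickTrans f I n ≫ CohB1.thickι f I (n + 1) = CohB1.thickι f I n :=
  (pullback.lift_fst _ _ _).trans (Category.comp_id _)

instance isClosedImmersion_thickι (n : ℕ) : IsClosedImmersion (CohB1.thickι f I n) :=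
  haveI := ProperClopenLib.isClosedImmersion_specQuot I n
  inferInstanceAs (IsClosedImmersion (pullback.fst f (CohB1.specQuot I n)))

/-- **Formal closed subschemes with proper special fibre are algebraic.** -/
theorem exists_closed_subscheme (Z : ℕ → Scheme.{u}) (z : (n : ℕ) → (Z n ⟶ CohB1.thick f I n))
    (t : (n : ℕ) → (Z n ⟶ Z (n + 1))) (hz : ∀ n, IsClosedImmersion (z n))
    (ht : ∀ n, IsPullback (t n) (z n) (z (n + 1)) (CohB1.thickTrans f I n))
    (hp : IsProper (z 0 ≫ CohB1.thickToBase f I 0)) :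
    ∃ (W : Scheme.{u}) (i : W ⟶ X) (w : (n : ℕ) → (Z n ⟶ W)), IsClosedImmersion i ∧
      IsProper (i ≫ f) ∧ (∀ n, w n = t n ≫ w (n + 1)) ∧ ∀ n, IsPullback (w n) (z n) i (CohB1.thickι f I n) := by
  letI : X.Over (Spec (CommRingCat.of A)) := ⟨f⟩
  have : IsSeparated (X ↘ Spec (CommRingCat.of A)) := ‹IsSeparated f›
  have : LocallyOfFiniteType (X ↘ Spec (CommRingCat.of A)) := ‹LocallyOfFiniteType f›
  have : QuasiCompact (X ↘ Spec (CommRingCat.of A)) := ‹QuasiCompact f›
  let g : ∀ n, Z n ⟶ X := fun n => z n ≫ CohB1.thickι f I n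
  have hg : ∀ n, IsClosedImmersion (g n) := fun n => inferInstanceAs (IsClosedImmersion (z n ≫ CohB1.thickι f I n))
  have htg : ∀ n, t n ≫ g (n + 1) = g n := fun n => by
    show t n ≫ z (n + 1) ≫ _ = z n ≫ _
    rw [(ht n).w_assoc, thickTrans_thickι]
  have hsq : ∀ n, IsPullback (t n) (z n) (g (n + 1)) (CohB1.thickι f I n) := fun n =>
    IsPullback.of_isLimit' ⟨htg n⟩ (PullbackCone.IsLimit.mk (htg n)
      (fun s => (ht n).lift s.fst s.snd ((cancel_mono (CohB1.thickι f I (n + 1))).1 (by
        rw [Category.assoc, Category.assoc, thickTrans_thickι]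
        exact s.condition)))
      (fun s => (ht n).lift_fst _ _ _) (fun s => (ht n).lift_snd _ _ _)
      fun s m h₁ h₂ => (ht n).hom_ext (h₁.trans ((ht n).lift_fst _ _ _).symm) (h₂.trans ((ht n).lift_snd _ _ _).symm))
  let J : ℕ → X.IdealSheafData := fun n => (g n).ker
  have hE : ∀ n, (CohB1.thickι f I n).ker = idSheaf I ^ (n + 1) := fun n => ker_thickι I (X := X) n
  have hJ : ∀ n, J n = J (n + 1) ⊔ idSheaf I ^ (n + 1) := fun n => by
    show (g n).ker = (g (n + 1)).ker ⊔ _
    rw [← htg n, ker_of_isPullback_sup (hsq n), hE]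
  have hJ0 : ClSub.IsProperOver (X ↘ Spec (CommRingCat.of A)) (J 0).support := by
    have : IsProper (g 0 ≫ (X ↘ Spec (CommRingCat.of A))) := by
      show IsProper ((z 0 ≫ CohB1.thickι f I 0) ≫ f)
      rw [Category.assoc, show CohB1.thickι f I 0 ≫ f = CohB1.thickToBase f I 0 ≫ CohB1.specQuot I 0 from
        pullback.condition, ← Category.assoc]
      have := ProperClopenLib.isClosedImmersion_specQuot I 0
      infer_instance
    refine ProperOverLib.of_map (g 0) _ _ (J 0).support.isClosed ?_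
    rw [Scheme.Hom.support_ker]
    exact (g 0).isClosedMap.isClosed_range.closure_eq.le
  obtain ⟨K, hKp, hK⟩ := exists_ideal_of_system J hJ hJ0
  have hle : ∀ n, K.subschemeι.ker ≤ (g n).ker := fun n => by
    rw [Scheme.IdealSheafData.ker_subschemeι]
    exact le_sup_left.trans (hK n).ge
  refine ⟨K.subscheme, K.subschemeι, fun n => IsClosedImmersion.lift K.subschemeι (g n) (hle n), inferInstance, hKp,
    fun n => ?_, fun n => ?_⟩
  · apply (cancel_mono K.subschemeι).1
    rw [Category.assoc, IsClosedImmersion.lift_fac, IsClosedImmersion.lift_fac, htg]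
  · have e : IsClosedImmersion.lift K.subschemeι (g n) (hle n) ≫ K.subschemeι = g n :=
      IsClosedImmersion.lift_fac _ _ _
    have := hg n
    have : IsClosedImmersion (IsClosedImmersion.lift K.subschemeι (g n) (hle n) ≫ K.subschemeι) := by
      rw [e]; infer_instance
    refine isPullback_of_ker_sup e ?_
    rw [e, Scheme.IdealSheafData.ker_subschemeι, hE]
    exact hK n

end Sub

end FormalCohLib

end
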