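import Groth.Agent.FormalCohLib.Supp
import Groth.Agent.FormalCohLib.Proper
import Groth.Agent.NagataCompLib.Nagata
import Groth.Agent.ProperOverLib.Basic

/-!
# Grothendieck's existence theorem with proper support
-/

set_option autoImplicit false

noncomputable section

universe u

open CategoryTheory CategoryTheory.Limits AlgebraicGeometry TopologicalSpace Opposite
open FormalLib (rhoA)

namespace FormalCohLib

variable {A : Type u} [CommRing A] [IsNoetherianRing A] (I : Ideal A) [IsAdicComplete I A]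

/-- A closed point of a proper scheme over a complete ring lies over the ideal. -/
lemma mem_asIdeal_of_isClosed {Y : Scheme.{u}} (p : Y ⟶ Spec (CommRingCat.of A)) [IsProper p] {y : Y}
    (hy : IsClosed ({y} : Set Y)) {a : A} (ha : a ∈ I) : a ∈ (p y).asIdeal := by
  have hc : IsClosed ({p y} : Set (Spec (CommRingCat.of A))) := by
    rw [← Set.image_singleton]
    exact p.isClosedMap _ hy
  have hm : (p y).asIdeal.IsMaximal := (PrimeSpectrum.isClosed_singleton_iff_isMaximal _).1 hc
  exact ((IsAdicComplete.le_jacobson_bot I).trans (sInf_le ⟨bot_le, hm⟩)) ha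

/-- **The support of an algebraisation of a system with closed support lies over that support.** -/
theorem support_subset_of_proper {Y : Scheme.{u}} [Y.Over (Spec (CommRingCat.of A))]
    [IsProper (Y ↘ Spec (CommRingCat.of A))] {M : Y.Modules} (hM : Coh.IsCoh M) {T : Set Y} (hT : IsClosed T)
    (hs : CohB1.support (Formal.modPow I (0 + 1) M) ⊆ T) {O : Y.Opens} (hTO : T ⊆ (O : Set Y)) :
    CohB1.support M ⊆ (O : Set Y) := by
  have : IsLocallyNoetherian Y := LocallyOfFiniteType.isLocallyNoetherian (Y ↘ Spec (CommRingCat.of A))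
  have : CompactSpace Y := QuasiCompact.compactSpace_of_compactSpace (Y ↘ Spec (CommRingCat.of A))
  have : AlgebraicGeometry.IsNoetherian Y := {}
  have := hM.1
  intro y hy
  by_contra hyO
  obtain ⟨x, ⟨hxM, hxO⟩, hxc⟩ := IsClosed.exists_closed_singleton
    ((QCohLib.isClosed_support _ hM.2).inter O.isOpen.isClosed_compl) ⟨y, hy, hyO⟩
  obtain ⟨_, ⟨W, hW, rfl⟩, hxW, hWle⟩ := Y.isBasis_affineOpens.exists_subset_of_mem_open
    (show x ∈ Tᶜ from fun h => hxO (hTO h)) hT.isOpen_compl
  have := QCohLib.finite_of_isFT hM.2 hW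
  have htop : (⊤ : Submodule Γ(Y, W) Γ(M, W)) ≤ idU I W • ⊤ := fun m _ => by
    have h := (app_modPowπ_eq_zero I M (0 + 1) hW m).1
      (eq_zero_of_support hs (Set.disjoint_left.2 fun z hz hzT => hWle hz hzT) _)
    rwa [zero_add, pow_one] at h
  obtain ⟨r, hr, hr0⟩ :=
    Submodule.exists_sub_one_mem_and_smul_eq_zero_of_fg_of_le_smul (idU I W) ⊤ Module.Finite.fg_top htop
  let P := hW.primeIdealOf ⟨x, hxW⟩
  have hIP : idU I W ≤ P.asIdeal := Ideal.map_le_iff_le_comap.2 fun a ha => by
    show rhoA A W a ∈ P.asIdeal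
    by_contra hn
    have h1 : P ∈ hW.fromSpec ⁻¹ᵁ Y.basicOpen (rhoA A W a) := by
      rw [hW.fromSpec_preimage_basicOpen]
      exact hn
    have h2 : x ∈ Y.basicOpen (rhoA A W a) := by
      have h1' : hW.fromSpec (hW.primeIdealOf ⟨x, hxW⟩) ∈ Y.basicOpen (rhoA A W a) := h1
      rwa [hW.fromSpec_primeIdealOf ⟨x, hxW⟩] at h1'
    have h3 : x ∈ W ⊓ Y.basicOpen (Coh.toGlobal (Y ↘ Spec (CommRingCat.of A)) a) :=
      (Scheme.basicOpen_res Y (Coh.toGlobal (Y ↘ Spec (CommRingCat.of A)) a) (homOfLE (le_top : W ≤ ⊤)).op).le h2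
    have h4 : x ∈ (Y ↘ Spec (CommRingCat.of A)) ⁻¹ᵁ
        (Spec (CommRingCat.of A)).basicOpen ((Scheme.ΓSpecIso (CommRingCat.of A)).inv a) := by
      rw [Scheme.preimage_basicOpen_top]
      exact h3.2
    rw [basicOpen_eq_of_affine'] at h4
    have h5 : (Scheme.ΓSpecIso (CommRingCat.of A)).hom ((Scheme.ΓSpecIso (CommRingCat.of A)).inv a) = a :=
      congr($((Scheme.ΓSpecIso (CommRingCat.of A)).inv_hom_id) a)
    rw [h5] at h4
    exact h4 (mem_asIdeal_of_isClosed I _ hxc ha)
  have hrP : r ∉ P.asIdeal := fun h => P.isPrime.ne_top ((Ideal.eq_top_iff_one _).2 (by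
    have := sub_mem h (hIP hr)
    rwa [sub_sub_cancel] at this))
  have hsupp : P ∈ Module.support Γ(Y, W) Γ(M, W) := (QCohLib.mem_support_iff hW hxW).2 hxM
  rw [← not_not (a := P ∈ _), Module.notMem_support_iff'] at hsupp
  exact hsupp fun m => ⟨r, hrP, hr0 m trivial⟩

/-- Sections of a restriction along an open immersion see the support. -/
lemma support_restrict {X Y : Scheme.{u}} (j : X ⟶ Y) [IsOpenImmersion j] (M : Y.Modules) :
    CohB1.support ((Scheme.Modules.restrictFunctor j).obj M) = j ⁻¹' CohB1.support M := by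
  ext x
  show ¬ Subsingleton _ ↔ ¬ Subsingleton (M.presheaf.stalk (j x))
  rw [QCohLib.subsingleton_stalk_iff, QCohLib.subsingleton_stalk_iff, not_iff_not]
  refine ⟨fun h U hxU t => ?_, fun h U hxU t => ?_⟩
  · obtain ⟨W, hW, hxW, hWt⟩ := h (j ⁻¹ᵁ U) hxU (M.presheaf.map (homOfLE (j.image_preimage_le U)).op t)
    refine ⟨j ''ᵁ W, (j.image_mono hW).trans (j.image_preimage_le U), ⟨x, hxW, rfl⟩, ?_⟩
    exact (QCohLib.map_map' M (homOfLE (j.image_mono hW)) _ t).symm.trans hWt
  · obtain ⟨W, hW, hxW, hWt⟩ := h (j ''ᵁ U) ⟨x, hxU, rfl⟩ t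
    have hle : j ⁻¹ᵁ W ≤ U := (j.preimage_mono hW).trans (j.preimage_image_eq U).le
    refine ⟨j ⁻¹ᵁ W, hle, hxW, ?_⟩
    have h1 := congrArg (fun z => M.presheaf.map (homOfLE (j.image_preimage_le W)).op z) hWt
    exact (QCohLib.map_map' M (homOfLE (j.image_preimage_le W)) (homOfLE hW) t).symm.trans (h1.trans (map_zero _))

variable (X : Scheme.{u}) [X.Over (Spec (CommRingCat.of A))] [IsSeparated (X ↘ Spec (CommRingCat.of A))]
  [LocallyOfFiniteType (X ↘ Spec (CommRingCat.of A))] [QuasiCompact (X ↘ Spec (CommRingCat.of A))]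

/-- **Grothendieck's existence theorem with proper support.** -/
theorem exists_algebraisation_properSupport {G : ℕᵒᵖ ⥤ X.Modules} (hG : Formal.IsCohFormal I G)
    (hGs : ClSub.IsProperOver (X ↘ Spec (CommRingCat.of A)) (CohB1.support (G.obj (op 0)))) :
    ∃ M : X.Modules, Coh.IsCoh M ∧ ClSub.IsProperOver (X ↘ Spec (CommRingCat.of A)) (CohB1.support M) ∧
      Nonempty (Formal.completion I M ≅ G) := by
  have : IsLocallyNoetherian X := LocallyOfFiniteType.isLocallyNoetherian (X ↘ Spec (CommRingCat.of A))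
  have : CompactSpace X := QuasiCompact.compactSpace_of_compactSpace (X ↘ Spec (CommRingCat.of A))
  have : AlgebraicGeometry.IsNoetherian X := {}
  obtain ⟨Y, j, p, hj, -, hp, hjp⟩ := NagataCompLib.exists_compactification (X ↘ Spec (CommRingCat.of A))
  letI : Y.Over (Spec (CommRingCat.of A)) := ⟨p⟩
  have hpp : IsProper (Y ↘ Spec (CommRingCat.of A)) := hp
  have hjo : j ≫ (Y ↘ Spec (CommRingCat.of A)) = X ↘ Spec (CommRingCat.of A) := hjp
  have : IsLocallyNoetherian Y := LocallyOfFiniteType.isLocallyNoetherian (Y ↘ Spec (CommRingCat.of A))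
  have : CompactSpace Y := QuasiCompact.compactSpace_of_compactSpace (Y ↘ Spec (CommRingCat.of A))
  have : AlgebraicGeometry.IsNoetherian Y := {}
  -- the support is closed upstairs
  obtain ⟨hcl, hprop⟩ := hGs
  let T : Set X := CohB1.support (G.obj (op 0))
  let ι := (Scheme.IdealSheafData.vanishingIdeal ⟨T, hcl⟩).subschemeι
  have hT : IsClosed (j '' T) := by
    have : IsProper ((ι ≫ j) ≫ (Y ↘ Spec (CommRingCat.of A))) := by
      rw [Category.assoc, hjo]
      exact hprop
    have : IsProper (ι ≫ j) := IsProper.of_comp (ι ≫ j) (Y ↘ Spec (CommRingCat.of A))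
    have e : j '' T = Set.range (ι ≫ j) :=
      (congrArg (j '' ·) (ProperOverLib.range_subschemeι_vanishingIdeal ⟨T, hcl⟩).symm).trans (Set.range_comp j ι).symm
    rw [e]
    exact (ι ≫ j).isClosedMap.isClosed_range
  have hG' := isCohFormal_push j hjo hT hG subset_rfl
  obtain ⟨M, hM, ⟨γ⟩⟩ := exists_algebraisation_proper I Y hG'
  have hs0 : CohB1.support (Formal.modPow I (0 + 1) M) ⊆ j '' T := by
    have := (hG'.1 0).1
    have : Coh.IsQCoh ((Formal.completion I M).obj (op 0)) := haveI := hM.1; isQCoh_modPow I M 1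
    have : Coh.IsQCoh (Formal.modPow I (0 + 1) M) := ‹_›
    have : Epi (γ.inv.app (op 0)) := by
      have : IsIso (γ.inv.app (op 0)) := (NatTrans.isIso_iff_isIso_app γ.inv).1 inferInstance (op 0)
      infer_instance
    exact @support_subset_of_epi Y _ hT _ _ _ _ (γ.inv.app (op 0)) this (support_push_subset j subset_rfl hT)
  have hS : CohB1.support M ⊆ Set.range j :=
    support_subset_of_proper I hM hT hs0 (O := j.opensRange) (Set.image_subset_range _ _)
  let M' := (Scheme.Modules.restrictFunctor j).obj M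
  let e : (Scheme.Modules.pullback j).obj M ≅ M' := ((Scheme.Modules.restrictFunctorIsoPullback j).app M).symm
  refine ⟨M', QCohLib.isCoh_of_iso e (ConsLib.isCoh_pullback j hM), ?_, ?_⟩
  · have hS' : CohB1.support M' = j ⁻¹' CohB1.support M := support_restrict j M
    have hclS : IsClosed (CohB1.support M') := hS' ▸ (QCohLib.isClosed_support _ hM.2).preimage j.continuous
    refine ⟨hclS, ?_⟩
    let κ := (Scheme.IdealSheafData.vanishingIdeal ⟨CohB1.support M', hclS⟩).subschemeι
    have hr : Set.range (κ ≫ j) = CohB1.support M := by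
      refine (Set.range_comp j κ).trans ?_
      rw [ProperOverLib.range_subschemeι_vanishingIdeal]
      show j '' CohB1.support M' = _
      rw [hS', Set.image_preimage_eq_of_subset hS]
    have : IsClosedImmersion (κ ≫ j) :=
      IsClosedImmersion.of_isPreimmersion (κ ≫ j) (by rw [hr]; exact QCohLib.isClosed_support _ hM.2)
    show IsProper (κ ≫ (X ↘ Spec (CommRingCat.of A)))
    rw [← hjo, ← Category.assoc]
    infer_instance
  · obtain ⟨δ⟩ := nonempty_completion_pullback (J := I) j hjo hM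
    have hc : IsIso (Scheme.Modules.pullbackPushforwardAdjunction j).counit :=
      (Scheme.Modules.pullbackPushforwardAdjunction j).counit_isIso_of_R_fully_faithful
    exact ⟨complIso I e.symm ≪≫ δ ≪≫ Functor.isoWhiskerRight γ (Scheme.Modules.pullback j) ≪≫
      Functor.associator _ _ _ ≪≫
      Functor.isoWhiskerLeft G (@asIso _ _ _ _ (Scheme.Modules.pullbackPushforwardAdjunction j).counit hc) ≪≫
      Functor.rightUnitor G⟩

end FormalCohLib

end
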