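import Groth.Agent.FormalCohLib.Transfer
import Groth.Agent.QCohLib.Support

/-!
# Formal modules with closed support in an open subscheme
-/

set_option autoImplicit false

noncomputable section

universe u

open CategoryTheory CategoryTheory.Limits AlgebraicGeometry TopologicalSpace Opposite
open GrSysLib (trMap)

namespace FormalCohLib

variable {X Y : Scheme.{u}}

/-- Sections away from the support vanish. -/
lemma eq_zero_of_support {T : Set X} {M : X.Modules} (hs : CohB1.support M ⊆ T) {W : X.Opens}
    (hW : Disjoint (W : Set X) T) (s : Γ(M, W)) : s = 0 :=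
  TopCat.Presheaf.section_ext ((QCohLib.toAbF X).obj M : TopCat.Sheaf AddCommGrpCat _) W s 0 fun q hq =>
    (not_not.mp fun h => Set.disjoint_left.1 hW hq (hs h) : Subsingleton (M.presheaf.stalk q)).elim _ _

/-- The support is bounded by a closed subset outside of which affine sections vanish. -/
lemma support_subset_of_affine {T : Set X} (hT : IsClosed T) {M : X.Modules}
    (h : ∀ W : X.Opens, IsAffineOpen W → Disjoint (W : Set X) T → ∀ s : Γ(M, W), s = 0) :
    CohB1.support M ⊆ T := by
  intro x hx
  by_contra hxT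
  refine (hx : ¬ Subsingleton (M.presheaf.stalk x)) ((QCohLib.subsingleton_stalk_iff M x).2 fun U hxU t => ?_)
  obtain ⟨_, ⟨W, hW, rfl⟩, hxW, hWle⟩ :=
    X.isBasis_affineOpens.exists_subset_of_mem_open (show x ∈ (U : Set X) ∩ Tᶜ from ⟨hxU, hxT⟩)
      (U.isOpen.inter hT.isOpen_compl)
  exact ⟨W, fun y hy => (hWle hy).1, hxW, h W hW (Set.disjoint_left.2 fun y hy => (hWle hy).2) _⟩

/-- A quotient of a quasi-coherent module with support in `T` has support in `T`. -/
lemma support_subset_of_epi {T : Set X} (hT : IsClosed T) {M N : X.Modules} [Coh.IsQCoh M] [Coh.IsQCoh N]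
    (φ : M ⟶ N) [Epi φ] (hs : CohB1.support M ⊆ T) : CohB1.support N ⊆ T :=
  support_subset_of_affine hT fun W hW hd s => by
    obtain ⟨m, rfl⟩ := app_surjective_of_epi φ hW s
    rw [eq_zero_of_support hs hd m, map_zero]

variable (j : X ⟶ Y) [IsOpenImmersion j]

local notation "adjR" => Scheme.Modules.restrictAdjunction j

/-- Direct image along an open immersion does not enlarge a closed support. -/
lemma support_push_subset {T : Set X} {M : X.Modules} (hs : CohB1.support M ⊆ T) (hT : IsClosed (j '' T)) :
    CohB1.support ((Scheme.Modules.pushforward j).obj M) ⊆ j '' T :=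
  support_subset_of_affine hT fun W _ hd s =>
    eq_zero_of_support hs (W := j ⁻¹ᵁ W) (Set.disjoint_left.2 fun _ hx hxT =>
      Set.disjoint_left.1 hd hx ⟨_, hxT, rfl⟩) s

/-- Modules supported in a closed subset of an open are extended by zero. -/
theorem isIso_restrictUnit_of_support {T : Set Y} (hT : IsClosed T) (hTj : T ⊆ Set.range j) {M : Y.Modules}
    (hs : CohB1.support M ⊆ T) : IsIso ((Scheme.Modules.restrictAdjunction j).unit.app M) := by
  let U : Y.Opens := j.opensRange
  let V : Y.Opens := ⟨Tᶜ, hT.isOpen_compl⟩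
  let Msh : TopCat.Sheaf AddCommGrpCat.{u} Y := (QCohLib.toAbF Y).obj M
  refine Scheme.Modules.Hom.isIso_iff_isIso_app.2 fun W => ?_
  rw [Scheme.Modules.restrictAdjunction_unit_app_app]
  have h0 : ∀ (O : Y.Opens), O ≤ V → ∀ t : Γ(M, O), t = 0 := fun O hO =>
    eq_zero_of_support hs (Set.disjoint_left.2 fun _ hy => hO hy)
  have hW' : (j ''ᵁ (j ⁻¹ᵁ W) : Y.Opens) = U ⊓ W := j.image_preimage_eq_opensRange_inf W
  have hcov : W ≤ (U ⊓ W) ⊔ (V ⊓ W) := fun y hy => by
    by_cases hyT : y ∈ T
    · exact Or.inl ⟨hTj hyT, hy⟩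
    · exact Or.inr ⟨hyT, hy⟩
  refine (ConcreteCategory.isIso_iff_bijective _).2 ⟨(injective_iff_map_eq_zero _).2 fun s hs0 => ?_, fun t => ?_⟩
  · refine TopCat.Sheaf.eq_of_locally_eq₂ Msh (homOfLE (inf_le_right : U ⊓ W ≤ W))
      (homOfLE (inf_le_right : V ⊓ W ≤ W)) hcov s 0 ?_ ?_
    · refine Eq.trans ?_ (map_zero _).symm
      have h := congrArg (fun x => M.presheaf.map (homOfLE hW'.ge).op x) hs0
      refine Eq.trans ?_ (h.trans (map_zero _))
      exact (QCohLib.map_map' M _ _ s).symm
    · exact (h0 _ inf_le_left _).trans (map_zero _).symm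
  · let sf : ∀ b : Bool, Γ(M, (cond b (U ⊓ W) (V ⊓ W) : Y.Opens)) := fun b =>
      match b with
      | true => M.presheaf.map (homOfLE hW'.ge).op t
      | false => 0
    obtain ⟨s, hsl, -⟩ := TopCat.Sheaf.existsUnique_gluing' Msh (fun b : Bool => cond b (U ⊓ W) (V ⊓ W)) W
      (fun b => homOfLE (by cases b <;> exact inf_le_right))
      (fun y hy => (hcov hy).elim (fun h => Opens.mem_iSup.2 ⟨true, h⟩) fun h => Opens.mem_iSup.2 ⟨false, h⟩)
      sf (fun a b => by
        cases a <;> cases b
        · rfl
        · exact (h0 _ (inf_le_left.trans inf_le_left) _).trans (h0 _ (inf_le_left.trans inf_le_left) _).symm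
        · exact (h0 _ (inf_le_right.trans inf_le_left) _).trans (h0 _ (inf_le_right.trans inf_le_left) _).symm
        · rfl)
    refine ⟨s, ?_⟩
    have h := congrArg (fun x => M.presheaf.map (homOfLE hW'.le).op x) (hsl true)
    refine ((QCohLib.map_map' M (homOfLE hW'.le) (homOfLE (inf_le_right : U ⊓ W ≤ W)) s).symm.trans h).trans ?_
    refine (QCohLib.map_map' M (homOfLE hW'.le) (homOfLE hW'.ge) t).trans ?_
    exact congr($(M.presheaf.map_id _) t)

/-- The same for the pullback. -/
theorem isIso_unit_of_support {T : Set Y} (hT : IsClosed T) (hTj : T ⊆ Set.range j) {M : Y.Modules}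
    (hs : CohB1.support M ⊆ T) : IsIso ((Scheme.Modules.pullbackPushforwardAdjunction j).unit.app M) := by
  have := isIso_restrictUnit_of_support j hT hTj hs
  rw [← Adjunction.unit_leftAdjointUniq_hom_app (Scheme.Modules.restrictAdjunction j)
    (Scheme.Modules.pullbackPushforwardAdjunction j) M]
  infer_instance

/-- Direct images of coherent modules with closed support are coherent. -/
theorem isCoh_push_of_isOpenImmersion {T : Set X} {M : X.Modules} (hM : Coh.IsCoh M) (hs : CohB1.support M ⊆ T)
    (hT : IsClosed (j '' T)) [AlgebraicGeometry.IsNoetherian Y] :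
    Coh.IsCoh ((Scheme.Modules.pushforward j).obj M) := by
  let e := j.isoOpensRange
  have h1 : Coh.IsCoh ((Scheme.Modules.pushforward e.hom).obj M) :=
    QCohLib.isCoh_push_finite e.hom M hM
  have h2 : Coh.IsCoh ((Scheme.Modules.pushforward j.opensRange.ι).obj ((Scheme.Modules.pushforward e.hom).obj M)) := by
    refine QCohLib.isCoh_push_of_support j.opensRange (j '' T) hT (Set.image_subset_range _ _) _ h1 fun y hy => ?_
    have hje : e.hom ≫ j.opensRange.ι = j := j.isoOpensRange_hom_ι
    have hr : ∀ x : X, j.opensRange.ι (e.hom x) = j x := fun x =>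
      congr($(hje) x)
    have hcl : IsClosed (e.hom '' T) := by
      have : e.hom '' T = Subtype.val ⁻¹' (j '' T) := by
        ext z
        constructor
        · rintro ⟨x, hx, rfl⟩; exact ⟨x, hx, (hr x).symm⟩
        · rintro ⟨x, hx, hxz⟩
          exact ⟨x, hx, Subtype.ext ((hr x).trans hxz)⟩
      rw [this]
      exact hT.preimage continuous_subtype_val
    obtain ⟨x, hx, rfl⟩ := support_push_subset e.hom hs hcl hy
    exact ⟨x, hx, (hr x).symm⟩
  exact QCohLib.isCoh_of_iso (((Scheme.Modules.pushforwardComp e.hom j.opensRange.ι).app M) ≪≫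
    (Scheme.Modules.pushforwardCongr j.isoOpensRange_hom_ι).app M) h2

/-- Direct image is right exact on modules with closed support. -/
theorem epi_push_of_support {T : Set X} (hT : IsClosed (j '' T)) {M N : X.Modules} (φ : M ⟶ N) [Epi φ]
    [Coh.IsQCoh ((Scheme.Modules.pushforward j).obj M)] [Coh.IsQCoh ((Scheme.Modules.pushforward j).obj N)]
    (hs : CohB1.support N ⊆ T) : Epi ((Scheme.Modules.pushforward j).map φ) := by
  let adj := Scheme.Modules.pullbackPushforwardAdjunction j
  let L := Scheme.Modules.pullback j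
  let φ' := (Scheme.Modules.pushforward j).map φ
  have : Coh.IsQCoh (cokernel φ') := QCohLib.isQCoh_cokernel _
  have hi := isIso_unit_of_support j hT (Set.image_subset_range _ _)
    (support_subset_of_epi hT (cokernel.π φ') (support_push_subset j hs hT))
  have : L.IsLeftAdjoint := adj.isLeftAdjoint
  have hc : IsIso adj.counit := adj.counit_isIso_of_R_fully_faithful
  have : Epi (L.map φ') := by
    have e : L.map φ' = adj.counit.app M ≫ φ ≫ inv (adj.counit.app N) := by
      rw [← Category.assoc, IsIso.eq_comp_inv]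
      exact adj.counit.naturality φ
    rw [e]
    infer_instance
  have h0 : L.map (cokernel.π φ') = 0 := by
    rw [← cancel_epi (L.map φ'), ← L.map_comp, cokernel.condition, L.map_zero, comp_zero]
  have h1 : cokernel.π φ' ≫ adj.unit.app (cokernel φ') = 0 := by
    refine (adj.unit.naturality (cokernel.π φ')).trans ?_
    show _ ≫ (Scheme.Modules.pushforward j).map (L.map (cokernel.π φ')) = 0
    rw [h0, Functor.map_zero, comp_zero]
  exact Preadditive.epi_of_cokernel_zero ((cancel_mono (adj.unit.app (cokernel φ'))).1 (h1.trans zero_comp.symm))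

variable {A : Type u} [CommRing A] {J : Ideal A} [X.Over (Spec (CommRingCat.of A))]

/-- All levels of a formal module have the support of the first. -/
theorem support_level_subset [AlgebraicGeometry.IsNoetherian X] {T : Set X} (hT : IsClosed T)
    {G : ℕᵒᵖ ⥤ X.Modules} (hG : Formal.IsCohFormal J G) (hs : CohB1.support (G.obj (op 0)) ⊆ T) (n : ℕ) :
    CohB1.support (G.obj (op n)) ⊆ T := by
  refine support_subset_of_affine hT fun W hW hd => ?_
  induction n with
  | zero => exact eq_zero_of_support hs hd
  | succ n ih =>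
    intro s
    have h1 : (⊤ : Submodule Γ(X, W) Γ(G.obj (op (n + 1)), W)) ≤ idU J W ^ (n + 1) • ⊤ := fun x _ =>
      (app_trMap_eq_zero hG hW n x).1 (ih _)
    have h2 : (⊤ : Submodule Γ(X, W) Γ(G.obj (op (n + 1)), W)) ≤ idU J W ^ (n + 1 + (n + 1)) • ⊤ := by
      rw [pow_add, Submodule.mul_smul]
      exact h1.trans (Submodule.smul_mono le_rfl h1)
    have h3 : (⊤ : Submodule Γ(X, W) Γ(G.obj (op (n + 1)), W)) ≤ idU J W ^ (n + 1 + 1) • ⊤ :=
      h2.trans (Submodule.smul_mono_left (Ideal.pow_le_pow_right (by omega)))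
    have h4 : idU J W ^ (n + 1 + 1) • (⊤ : Submodule Γ(X, W) Γ(G.obj (op (n + 1)), W)) = ⊥ :=
      (secSys hG hW).kill (n + 1)
    exact (Submodule.mem_bot Γ(X, W)).1 (h4.le (h3 trivial))

variable [Y.Over (Spec (CommRingCat.of A))] (hj : j ≫ (Y ↘ Spec (CommRingCat.of A)) = X ↘ Spec (CommRingCat.of A))

include hj in
/-- **Extension by zero of a formal module with closed support.** -/
theorem isCohFormal_push [AlgebraicGeometry.IsNoetherian X] [AlgebraicGeometry.IsNoetherian Y] {T : Set X}
    (hT : IsClosed (j '' T)) {G : ℕᵒᵖ ⥤ X.Modules} (hG : Formal.IsCohFormal J G)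
    (hs : CohB1.support (G.obj (op 0)) ⊆ T) : Formal.IsCohFormal J (G ⋙ Scheme.Modules.pushforward j) := by
  have hTX : IsClosed T := by
    rw [← Set.preimage_image_eq T j.isOpenEmbedding.injective]
    exact hT.preimage j.continuous
  have hsn := support_level_subset hTX hG hs
  have hc : ∀ n, Coh.IsCoh ((Scheme.Modules.pushforward j).obj (G.obj (op n))) := fun n =>
    isCoh_push_of_isOpenImmersion j (hG.1 n) (hsn n) hT
  refine ⟨hc, fun n => killedBy_push j hj (hG.2.1 n), fun n => ?_⟩
  let adj := Scheme.Modules.pullbackPushforwardAdjunction j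
  let L := Scheme.Modules.pullback j
  let P := (Scheme.Modules.pushforward j).obj (G.obj (op (n + 1)))
  let t : P ⟶ (Scheme.Modules.pushforward j).obj (G.obj (op n)) := (Scheme.Modules.pushforward j).map (trMap G n)
  let C := cokernel (Formal.smulFamily (J ^ (n + 1)) P)
  let q : P ⟶ C := cokernel.π _
  have := (hc n).1
  have := (hc (n + 1)).1
  have : Coh.IsQCoh P := (hc (n + 1)).1
  have : Coh.IsQCoh C := isQCoh_modPow J P (n + 1)
  have hi : IsIso (adj.unit.app C) := isIso_unit_of_support j hT (Set.image_subset_range _ _)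
    (support_subset_of_epi hT q (support_push_subset j (hsn (n + 1)) hT))
  have hco : IsIso adj.counit := adj.counit_isIso_of_R_fully_faithful
  obtain ⟨g', hg'⟩ := exists_factor hG (Nat.le_succ n) (killedBy_pullback j hj (killedBy_modPow (n + 1) P))
    (inv (adj.counit.app (G.obj (op (n + 1)))) ≫ L.map q)
  let u : C ⟶ (Scheme.Modules.pushforward j).obj (L.obj C) := adj.unit.app C
  have hu : IsIso u := hi
  let r : (Scheme.Modules.pushforward j).obj (G.obj (op n)) ⟶ C := (Scheme.Modules.pushforward j).map g' ≫ @inv _ _ _ _ u hu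
  have hr : t ≫ r = q := by
    let ε : L.obj P ⟶ G.obj (op (n + 1)) := adj.counit.app (G.obj (op (n + 1)))
    have hε : IsIso ε := inferInstanceAs (IsIso (adj.counit.app (G.obj (op (n + 1)))))
    have h1 : adj.unit.app P = (Scheme.Modules.pushforward j).map (inv ε) := by
      rw [Functor.map_inv]
      refine IsIso.eq_inv_of_inv_hom_id ?_
      exact adj.right_triangle_components (G.obj (op (n + 1)))
    have h2 : (Scheme.Modules.pushforward j).map (inv ε ≫ L.map q) = q ≫ u := by
      rw [Functor.map_comp, ← h1]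
      exact (adj.unit.naturality q).symm
    show t ≫ _ ≫ _ = q
    rw [← Category.assoc, IsIso.comp_inv_eq]
    refine Eq.trans ?_ h2
    show (Scheme.Modules.pushforward j).map (trLE G (Nat.le_succ n)) ≫ (Scheme.Modules.pushforward j).map g' = _
    rw [← Functor.map_comp, hg']
    rfl
  refine ⟨smulFamily_comp_eq_zero t (killedBy_push j hj (hG.2.1 n)), r, ?_, ?_⟩
  · apply coequalizer.hom_ext
    show cokernel.π (Formal.smulFamily (J ^ (n + 1)) P) ≫ cokernel.desc _ t _ ≫ r = cokernel.π _ ≫ 𝟙 C
    rw [cokernel.π_desc_assoc, Category.comp_id]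
    exact hr
  · have := GrSysLib.epi_trMap hG n
    have : Epi t := epi_push_of_support j hT (trMap G n) (hsn n)
    apply (cancel_epi t).1
    rw [← Category.assoc, hr]
    exact (cokernel.π_desc _ _ _).trans (Category.comp_id _).symm

include hj in
/-- Completion commutes with inverse image. -/
theorem nonempty_completion_pullback [AlgebraicGeometry.IsNoetherian X] [AlgebraicGeometry.IsNoetherian Y]
    {M : Y.Modules} (hM : Coh.IsCoh M) :
    Nonempty (Formal.completion J ((Scheme.Modules.pullback j).obj M) ≅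
      Formal.completion J M ⋙ Scheme.Modules.pullback j) := by
  let adj := Scheme.Modules.pullbackPushforwardAdjunction j
  let L := Scheme.Modules.pullback j
  let H := Formal.completion J M ⋙ Scheme.Modules.pullback j
  have hH : Formal.IsCohFormal J H := isCohFormal_pullback j hj (isCohFormal_completion hM)
  let g : ∀ n, L.obj M ⟶ H.obj (op n) := fun n => L.map (Formal.modPowπ J (n + 1) M)
  have hg : ∀ n, g (n + 1) ≫ trMap H n = g n := fun n => by
    show L.map _ ≫ L.map (trLE (Formal.completion J M) (Nat.le_succ n)) = L.map _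
    rw [← L.map_comp]
    exact congrArg L.map (π_completion_trLE M (Nat.le_succ n))
  let δ := complDesc hH g hg
  have : ∀ n : ℕᵒᵖ, IsIso (δ.app n) := fun ⟨n⟩ => by
    let v : Formal.modPow J (n + 1) M ⟶ (Scheme.Modules.pushforward j).obj (Formal.modPow J (n + 1) (L.obj M)) :=
      cokernel.desc _ (adj.homEquiv _ _ (Formal.modPowπ J (n + 1) (L.obj M)))
        (smulFamily_comp_eq_zero _ (killedBy_push j hj (killedBy_modPow (n + 1) (L.obj M))))
    let r : L.obj (Formal.modPow J (n + 1) M) ⟶ Formal.modPow J (n + 1) (L.obj M) := (adj.homEquiv _ _).symm v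
    have hr : L.map (Formal.modPowπ J (n + 1) M) ≫ r = Formal.modPowπ J (n + 1) (L.obj M) := by
      refine (adj.homEquiv_naturality_left_symm _ v).symm.trans ?_
      exact (Equiv.symm_apply_eq _).2 (cokernel.π_desc _ _ _)
    refine ⟨r, ?_, ?_⟩
    · apply (cancel_epi (Formal.modPowπ J (n + 1) (L.obj M))).1
      refine (Category.assoc _ _ _).symm.trans ((congrArg (· ≫ r) (π_complDesc hH g hg n)).trans (hr.trans ?_))
      exact (Category.comp_id _).symm
    · have : L.IsLeftAdjoint := adj.isLeftAdjoint
      apply (cancel_epi (L.map (Formal.modPowπ J (n + 1) M))).1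
      refine (Category.assoc _ _ _).symm.trans ((congrArg (· ≫ δ.app (op n)) hr).trans ?_)
      exact (π_complDesc hH g hg n).trans (Category.comp_id _).symm
  have : IsIso δ := NatIso.isIso_of_isIso_app δ
  exact ⟨asIso δ⟩

end FormalCohLib

end
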