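import Groth.Agent.FormalCohLib.Torsion
import Groth.Agent.FormalCohLib.Tricky
import Groth.Agent.FormalCohLib.PushPull

/-!
# Algebraisation of a formal module receiving a completion with torsion kernel and cokernel
-/

set_option autoImplicit false

noncomputable section

universe u

open CategoryTheory CategoryTheory.Limits AlgebraicGeometry TopologicalSpace Opposite
open FormalLib (rhoA)

namespace FormalCohLib

variable {A : Type u} [CommRing A] {I : Ideal A} {X : Scheme.{u}} [X.Over (Spec (CommRingCat.of A))]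

/-- Multiplication on a system. -/
def smulF (E : ℕᵒᵖ ⥤ X.Modules) (a : A) : E ⟶ E where
  app n := Formal.smulMod A (E.obj n) a
  naturality _ _ f := (FormalProLib.smulMod_natural (E.map f) a).symm

lemma smulF_natural {E E' : ℕᵒᵖ ⥤ X.Modules} (γ : E ⟶ E') (a : A) : smulF E a ≫ γ = γ ≫ smulF E' a := by
  ext n : 2
  exact FormalProLib.smulMod_natural (γ.app n) a

lemma smulF_mul (E : ℕᵒᵖ ⥤ X.Modules) (a b : A) : smulF E (a * b) = smulF E b ≫ smulF E a := by
  ext n : 2
  exact FormalLib.smulMod_mul _ a b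

lemma complMap_smulMod (M : X.Modules) (a : A) :
    complMap I (Formal.smulMod A M a) = smulF (Formal.completion I M) a :=
  completion_hom_ext fun n => (π_complMap _ n).trans (FormalProLib.smulMod_natural (Formal.modPowπ I (n + 1) M) a)

/-- The transposed map up to an element killing kernel and cokernel. -/
lemma exists_transpose {F G : ℕᵒᵖ ⥤ X.Modules} (α : G ⟶ F) {a b : A} (ha : smulF (cokernel α) a = 0)
    (hb : smulF (kernel α) b = 0) :
    ∃ φ : F ⟶ G, α ≫ φ = smulF G (a * b) ∧ φ ≫ α = smulF F (a * b) := by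
  let p := Abelian.factorThruImage α
  let i := Abelian.image.ι α
  have hpi : p ≫ i = α := Abelian.image.fac α
  let u : F ⟶ Abelian.image α := kernel.lift _ (smulF F a) (by rw [smulF_natural, ha, comp_zero])
  have hu : u ≫ i = smulF F a := kernel.lift_ι _ _ _
  let v : Abelian.image α ⟶ G := Abelian.epiDesc p (smulF G b) (by
    let l : kernel p ⟶ kernel α := kernel.lift α (kernel.ι p)
      ((congrArg (kernel.ι p ≫ ·) hpi.symm).trans ((kernel.condition_assoc p i).trans zero_comp))
    have hl : l ≫ kernel.ι α = kernel.ι p := kernel.lift_ι _ _ _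
    rw [← hl, Category.assoc, ← smulF_natural, hb, zero_comp, comp_zero])
  have hv : p ≫ v = smulF G b := Abelian.comp_epiDesc _ _ _
  refine ⟨u ≫ v, ?_, ?_⟩
  · have h1 : α ≫ u = smulF G a ≫ p := (cancel_mono i).1 (by
      rw [Category.assoc, hu, Category.assoc, hpi, smulF_natural])
    rw [← Category.assoc, h1, Category.assoc, hv, mul_comm a b, smulF_mul]
  · have h1 : v ≫ α = i ≫ smulF F b := (cancel_epi p).1 (by
      rw [← Category.assoc, hv, ← Category.assoc, hpi, smulF_natural])
    rw [Category.assoc, h1, ← Category.assoc, hu, mul_comm a b, smulF_mul]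

lemma smulF_kernel_eq_zero {F G : ℕᵒᵖ ⥤ X.Modules} (α : G ⟶ F) {a : A}
    (h : ∀ n : ℕ, Formal.smulMod A (kernel (α.app (op n))) a = 0) : smulF (kernel α) a = 0 := by
  ext ⟨n⟩ : 2
  let e := PreservesKernel.iso ((evaluation ℕᵒᵖ X.Modules).obj (op n)) α
  apply (cancel_mono e.hom).1
  rw [show (0 : kernel α ⟶ kernel α).app (op n) = 0 from rfl, zero_comp]
  refine (FormalProLib.smulMod_natural e.hom a).trans ?_
  rw [show Formal.smulMod A (kernel (((evaluation ℕᵒᵖ X.Modules).obj (op n)).map α)) a = 0 from h n, comp_zero]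

lemma smulF_cokernel_eq_zero {F G : ℕᵒᵖ ⥤ X.Modules} (α : G ⟶ F) {a : A}
    (h : ∀ n : ℕ, Formal.smulMod A (cokernel (α.app (op n))) a = 0) : smulF (cokernel α) a = 0 := by
  ext ⟨n⟩ : 2
  let e := PreservesCokernel.iso ((evaluation ℕᵒᵖ X.Modules).obj (op n)) α
  apply (cancel_mono e.hom).1
  rw [show (0 : cokernel α ⟶ cokernel α).app (op n) = 0 from rfl, zero_comp]
  refine (FormalProLib.smulMod_natural e.hom a).trans ?_
  rw [show Formal.smulMod A (cokernel (((evaluation ℕᵒᵖ X.Modules).obj (op n)).map α)) a = 0 from h n, comp_zero]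

variable (I) in
/-- Completion as a functor. -/
def completionF : X.Modules ⥤ (ℕᵒᵖ ⥤ X.Modules) where
  obj M := Formal.completion I M
  map φ := complMap I φ
  map_id M := complMap_id M
  map_comp φ ψ := complMap_comp φ ψ

variable [AlgebraicGeometry.IsNoetherian X]

/-- Finitely many elements of a power of the ideal generate it on every member of a cover. -/
lemma exists_generators (c : ℕ) : ∃ (C : Finset X.affineOpens) (r : ℕ) (b : Fin r → A),
    (∀ x : X, ∃ V : C, x ∈ V.1.1) ∧ (∀ i, b i ∈ I ^ c) ∧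
      ∀ V : C, idU I V.1.1 ^ c ≤ Ideal.span (Set.range fun i => rhoA A V.1.1 (b i)) := by
  classical
  obtain ⟨C, hC⟩ := exists_cover (X := X)
  have hgen : ∀ V : C, ∃ s : Finset A, (∀ a ∈ s, a ∈ I ^ c) ∧
      (I ^ c).map (rhoA A V.1.1) = Ideal.span ((rhoA A V.1.1) '' ↑s) := fun V => by
    have := noethRing V.1.2
    obtain ⟨t, ht, hs⟩ := Submodule.fg_span_iff_fg_span_finset_subset _ |>.1
      (IsNoetherian.noetherian ((I ^ c).map (rhoA A V.1.1)))
    obtain ⟨s, hs', rfl⟩ := Finset.subset_set_image_iff.1 ht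
    refine ⟨s, fun a ha => hs' ha, hs.trans ?_⟩
    rw [Finset.coe_image]
  choose s hsI hs using hgen
  let r : Type u := Σ V : C, (s V : Set A)
  let e := Fintype.equivFin r
  refine ⟨C, Fintype.card r, fun j => (e.symm j).2.1, fun x => by obtain ⟨V, hV, hx⟩ := hC x; exact ⟨⟨V, hV⟩, hx⟩,
    fun j => hsI _ _ (e.symm j).2.2, fun V => ?_⟩
  rw [idU_pow, hs V]
  refine Ideal.span_le.2 ?_
  rintro _ ⟨a, ha, rfl⟩
  exact Ideal.subset_span ⟨e ⟨V, a, ha⟩, congrArg (fun t : r => rhoA A V.1.1 t.2.1) (e.symm_apply_apply _)⟩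

/-- A module killed by generators of an ideal on a cover is killed by the ideal. -/
lemma killedByIdeal_of_generators (c : ℕ) {C : Finset X.affineOpens} (hcov : ∀ x : X, ∃ V : C, x ∈ V.1.1)
    {σ : Type*} (w : σ → A) (hw : ∀ V : C, idU I V.1.1 ^ c ≤ Ideal.span (Set.range fun i => rhoA A V.1.1 (w i)))
    {M : X.Modules} [Coh.IsQCoh M] (h : ∀ i, Formal.smulMod A M (w i) = 0) :
    ClSub.KilledByIdeal (idSheaf I ^ c) M :=
  killedByIdeal_of_cover _ (fun V : C => V.1) hcov fun V a ha m => by
    have ha' := hw V ha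
    clear ha
    induction ha' using Submodule.span_induction with
    | mem x hx =>
      obtain ⟨i, rfl⟩ := hx
      exact congrArg (fun t : M ⟶ M => t.app V.1.1 m) (h i)
    | zero => rw [zero_smul]
    | add x y _ _ hx hy => rw [add_smul, hx, hy, add_zero]
    | smul x y _ hy => rw [smul_assoc, hy, smul_zero]

section Biprod

variable {σ : Type} [Fintype σ] {M : σ → X.Modules}

/-- Maps into the completion of a finite sum agree if their components do. -/
lemma hom_ext_biproduct {E : ℕᵒᵖ ⥤ X.Modules} {γ γ' : E ⟶ Formal.completion I (⨁ M)}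
    (h : ∀ p, γ ≫ complMap I (biproduct.π M p) = γ' ≫ complMap I (biproduct.π M p)) : γ = γ' := by
  classical
  have : (completionF I (X := X)).Additive := ⟨fun {_ _} φ ψ => complMap_add φ ψ⟩
  have e : 𝟙 (Formal.completion I (⨁ M)) = ∑ p, complMap I (biproduct.π M p) ≫ complMap I (biproduct.ι M p) := by
    rw [← complMap_id, ← biproduct.total]
    exact ((completionF I).map_sum _ _).trans (Finset.sum_congr rfl fun p _ => complMap_comp _ _)
  rw [← Category.comp_id γ, ← Category.comp_id γ', e, Preadditive.comp_sum, Preadditive.comp_sum]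
  exact Finset.sum_congr rfl fun p _ => by rw [← Category.assoc, h, Category.assoc]

omit [AlgebraicGeometry.IsNoetherian X] in
/-- Maps into the completion of a finite sum from their components. -/
lemma exists_lift_biproduct {E : ℕᵒᵖ ⥤ X.Modules} (f : ∀ p, E ⟶ Formal.completion I (M p)) :
    ∃ γ : E ⟶ Formal.completion I (⨁ M), ∀ p, γ ≫ complMap I (biproduct.π M p) = f p := by
  classical
  refine ⟨∑ q, f q ≫ complMap I (biproduct.ι M q), fun p => ?_⟩
  rw [Preadditive.sum_comp, Finset.sum_eq_single p]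
  · rw [Category.assoc, ← complMap_comp, biproduct.ι_π_self, complMap_id, Category.comp_id]
  · intro q _ hqp
    rw [Category.assoc, ← complMap_comp, biproduct.ι_π_ne _ hqp, complMap_zero, comp_zero]
  · exact fun hp => absurd (Finset.mem_univ p) hp

end Biprod

/-- A map into a completion vanishes if it does after a kernel inclusion. -/
lemma eq_of_comp_kernel {M N : X.Modules} (hM : Coh.IsCoh M) (hN : Coh.IsCoh N) (φ : M ⟶ N)
    (hK : Coh.IsCoh (kernel φ)) {E : ℕᵒᵖ ⥤ X.Modules} (hE : Formal.IsCohFormal I E)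
    {γ γ' : E ⟶ Formal.completion I (kernel φ)}
    (h : γ ≫ complMap I (kernel.ι φ) = γ' ≫ complMap I (kernel.ι φ)) : γ = γ' := by
  rw [← sub_eq_zero]
  obtain ⟨C, hC⟩ := exists_cover (X := X)
  refine eq_zero_of_lim hE (isCohFormal_completion hK) _ (fun V : C => V.1.1) (fun V => V.1.2)
    (fun x => by obtain ⟨V, hV, hx⟩ := hC x; exact ⟨⟨V, hV⟩, hx⟩) fun V x => ?_
  refine (complMap_kernel_lim hM hN φ V.1.2 hK).1 ?_
  rw [map_zero, lim_comp, Preadditive.sub_comp, sub_eq_zero.2 h, lim_zero]

/-- **Algebraisation of a formal module receiving a completion.** -/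
theorem exists_algebraisation_right {G : X.Modules} (hG : Coh.IsCoh G) {F : ℕᵒᵖ ⥤ X.Modules}
    (hF : Formal.IsCohFormal I F) (α : Formal.completion I G ⟶ F) (c : ℕ)
    (hα : ∀ n : ℕ, Formal.KilledBy (I ^ c) (kernel (α.app (op n))) ∧
      Formal.KilledBy (I ^ c) (cokernel (α.app (op n)))) :
    ∃ (M : X.Modules) (a : G ⟶ M) (β : Formal.completion I M ≅ F), Coh.IsCoh M ∧
      (∃ T : ℕ, Formal.KilledBy (I ^ T) (kernel a) ∧ Formal.KilledBy (I ^ T) (cokernel a)) ∧
      complMap I a ≫ β.hom = α := by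
  classical
  have hGc := isCohFormal_completion (I := I) hG
  obtain ⟨C, r, b, hcov, hb, hgen⟩ := exists_generators (I := I) (X := X) c
  let σ := Fin r × Fin r
  let w : σ → A := fun p => b p.1 * b p.2
  have hw : ∀ V : C, idU I V.1.1 ^ (c + c) ≤ Ideal.span (Set.range fun p => rhoA A V.1.1 (w p)) := fun V => by
    rw [pow_add]
    refine (Ideal.mul_mono (hgen V) (hgen V)).trans ?_
    rw [Ideal.span_mul_span']
    refine Ideal.span_le.2 ?_
    rintro _ ⟨_, ⟨i, rfl⟩, _, ⟨k, rfl⟩, rfl⟩
    exact Ideal.subset_span ⟨(i, k), map_mul _ _ _⟩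
  choose φ hφ1 hφ2 using fun p : σ => exists_transpose α
    (smulF_cokernel_eq_zero α fun n => (hα n).2 _ (hb p.1))
    (smulF_kernel_eq_zero α fun n => (hα n).1 _ (hb p.2))
  -- the compatible tuples
  let P : X.Modules := ⨁ fun _ : σ => G
  let Q : X.Modules := ⨁ fun _ : σ × σ => G
  let πP : ∀ p : σ, P ⟶ G := fun p => biproduct.π (fun _ : σ => G) p
  let πQ : ∀ p : σ × σ, Q ⟶ G := fun p => biproduct.π (fun _ : σ × σ => G) p
  let Φ : P ⟶ Q := biproduct.lift fun pq : σ × σ =>
    πP pq.1 ≫ Formal.smulMod A G (w pq.2) - πP pq.2 ≫ Formal.smulMod A G (w pq.1)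
  have hΦ : ∀ p q, Φ ≫ πQ (p, q) = πP p ≫ Formal.smulMod A G (w q) - πP q ≫ Formal.smulMod A G (w p) := fun p q =>
    biproduct.lift_π _ _
  have hP : Coh.IsCoh P := GrSysLib.isCoh_biproduct hG
  have hQ : Coh.IsCoh Q := GrSysLib.isCoh_biproduct hG
  have hH : Coh.IsCoh (kernel Φ) := QCohLib.isCoh_kernel Φ hP hQ.1
  have hHc := isCohFormal_completion (I := I) hH
  let H := kernel Φ
  let κ : H ⟶ P := kernel.ι Φ
  have hκ : ∀ p q, κ ≫ πP p ≫ Formal.smulMod A G (w q) = κ ≫ πP q ≫ Formal.smulMod A G (w p) := fun p q => by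
    rw [← sub_eq_zero, ← Preadditive.comp_sub, ← hΦ, ← Category.assoc]
    show (kernel.ι Φ ≫ Φ) ≫ _ = 0
    rw [kernel.condition, zero_comp]
  have hker : IsLimKer hHc (isCohFormal_completion (I := I) hP) (isCohFormal_completion (I := I) hQ)
      (complMap I κ) (complMap I Φ) := fun U hU => complMap_kernel_lim hP hQ Φ hU hH
  -- the map from the formal module
  obtain ⟨ψ0, hψ0⟩ := exists_lift_biproduct (I := I) (M := fun _ : σ => G) φ
  have hψ0Φ : ψ0 ≫ complMap I Φ = 0 := hom_ext_biproduct (M := fun _ : σ × σ => G) fun ⟨p, q⟩ => by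
    rw [zero_comp, Category.assoc, ← complMap_comp]
    show ψ0 ≫ complMap I (Φ ≫ πQ (p, q)) = 0
    rw [hΦ, sub_eq_add_neg, complMap_add, complMap_neg, Preadditive.comp_add, Preadditive.comp_neg,
      complMap_comp, complMap_comp, ← Category.assoc, ← Category.assoc, hψ0, hψ0, complMap_smulMod, complMap_smulMod,
      ← sub_eq_add_neg, sub_eq_zero]
    calc φ p ≫ smulF _ (w q) = smulF F (w q) ≫ φ p := (smulF_natural _ _).symm
      _ = φ q ≫ α ≫ φ p := by rw [← hφ2, Category.assoc]
      _ = φ q ≫ smulF _ (w p) := by rw [hφ1]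
  obtain ⟨ψ, hψ⟩ := hker.exists_lift hF ψ0 hψ0Φ
  have hψπ : ∀ p, ψ ≫ complMap I κ ≫ complMap I (πP p) = φ p := fun p => by
    rw [← Category.assoc, hψ, hψ0]
  let hq : σ → (H ⟶ G) := fun q => κ ≫ πP q
  have hξ : ∀ q, complMap I (hq q) ≫ α ≫ ψ = smulF (Formal.completion I H) (w q) := fun q => by
    refine eq_of_comp_kernel hP hQ Φ hH hHc (hom_ext_biproduct (M := fun _ : σ => G) fun p => ?_)
    rw [Category.assoc, Category.assoc, Category.assoc, Category.assoc, hψπ, hφ1, ← complMap_smulMod,
      ← complMap_smulMod, ← complMap_comp, ← complMap_comp, ← complMap_comp]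
    show complMap I ((κ ≫ πP q) ≫ Formal.smulMod A G (w p)) = complMap I (Formal.smulMod A H (w q) ≫ κ ≫ πP p)
    rw [Category.assoc, ← hκ, ← Category.assoc κ, ← FormalProLib.smulMod_natural (κ ≫ πP p)]
  have hk : ∀ n : ℕ, ClSub.KilledByIdeal (idSheaf I ^ (c + c)) (kernel (ψ.app (op n))) ∧
      ClSub.KilledByIdeal (idSheaf I ^ (c + c)) (cokernel (ψ.app (op n))) := fun n => by
    have := (hF.1 n).1
    have := (hHc.1 n).1
    have : Coh.IsQCoh (kernel (ψ.app (op n))) := QCohLib.isQCoh_kernel _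
    have : Coh.IsQCoh (cokernel (ψ.app (op n))) := QCohLib.isQCoh_cokernel _
    refine ⟨killedByIdeal_of_generators (c + c) hcov w hw fun p => ?_,
      killedByIdeal_of_generators (c + c) hcov w hw fun q => ?_⟩
    · apply (cancel_mono (kernel.ι (ψ.app (op n)))).1
      rw [zero_comp, FormalProLib.smulMod_natural]
      have h := congrArg (fun t : F ⟶ F => t.app (op n)) (hφ2 p)
      show kernel.ι (ψ.app (op n)) ≫ (smulF F (w p)).app (op n) = 0
      refine Eq.trans (congrArg (kernel.ι (ψ.app (op n)) ≫ ·) h.symm) ?_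
      show kernel.ι (ψ.app (op n)) ≫ (φ p).app (op n) ≫ α.app (op n) = 0
      rw [← hψπ p, NatTrans.comp_app, Category.assoc, kernel.condition_assoc, zero_comp]
    · apply (cancel_epi (cokernel.π (ψ.app (op n)))).1
      rw [comp_zero, ← FormalProLib.smulMod_natural]
      have h := congrArg (fun t : Formal.completion I H ⟶ Formal.completion I H => t.app (op n)) (hξ q)
      refine Eq.trans (congrArg (· ≫ cokernel.π (ψ.app (op n))) h.symm) ?_
      show ((complMap I (hq q)).app (op n) ≫ α.app (op n) ≫ ψ.app (op n)) ≫ _ = 0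
      rw [Category.assoc, Category.assoc, cokernel.condition, comp_zero, comp_zero]
  have hFF : ∀ e : ℕ, FFKilled I (idSheaf (X := X) I ^ e) := fun e M N hM hN hkM _ ψ => by
    have := hM.1
    exact existsUnique_complMap_of_killed hM hN e (Or.inl (killedBy_of_idSheaf I hkM)) ψ
  have hES : ∀ e : ℕ, ∀ E : ℕᵒᵖ ⥤ X.Modules, Formal.IsCohFormal I E →
      (∀ n : ℕ, ClSub.KilledByIdeal (idSheaf (X := X) I ^ e) (E.obj (op n))) →
        ∃ M : X.Modules, Coh.IsCoh M ∧ ClSub.KilledByIdeal (idSheaf I ^ e) M ∧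
          Nonempty (Formal.completion I M ≅ E) := fun e E hE hk => by
    obtain ⟨M, hM, hkM, hi⟩ := exists_algebraisation_killed hE e fun n =>
      have := (hE.1 n).1
      killedBy_of_idSheaf I (hk n)
    exact ⟨M, hM, killedByIdeal_idSheaf I hkM, hi⟩
  obtain ⟨M, j, i, hM, hij, t, htk, htc⟩ := exists_algebraisation_hom hF hFF hES hH ψ (c + c) hk
  have hMc := isCohFormal_completion (I := I) hM
  -- the map from `G` to the tuples
  let h : G ⟶ H := kernel.lift Φ (biproduct.lift fun p => Formal.smulMod A G (w p)) (biproduct.hom_ext _ _ fun ⟨p, q⟩ => by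
    rw [zero_comp, Category.assoc]
    show biproduct.lift _ ≫ Φ ≫ πQ (p, q) = 0
    rw [hΦ, Preadditive.comp_sub, biproduct.lift_π_assoc, biproduct.lift_π_assoc, ← FormalLib.smulMod_mul,
      ← FormalLib.smulMod_mul, mul_comm, sub_self])
  have hhκ : ∀ p, h ≫ κ ≫ πP p = Formal.smulMod A G (w p) := fun p => by
    show kernel.lift Φ _ _ ≫ kernel.ι Φ ≫ _ = _
    rw [kernel.lift_ι_assoc, biproduct.lift_π]
  have hhc : complMap I h = α ≫ ψ := eq_of_comp_kernel hP hQ Φ hH hGc
    (hom_ext_biproduct (M := fun _ : σ => G) fun p => by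
      rw [Category.assoc, Category.assoc, Category.assoc, hψπ, hφ1, ← complMap_comp, ← complMap_comp]
      show complMap I (h ≫ κ ≫ πP p) = _
      rw [hhκ, complMap_smulMod])
  let γ0 : Formal.completion I G ⟶ Formal.completion I M := α ≫ i.hom
  have hγ0 : γ0 ≫ complMap I j = complMap I h := by rw [hhc, Category.assoc, hij]
  have := hM.1
  have := hG.1
  have := hH.1
  have hqK : Coh.IsQCoh (kernel j) := QCohLib.isQCoh_kernel _
  have hqC : Coh.IsQCoh (cokernel j) := QCohLib.isQCoh_cokernel _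
  have htkI : Formal.KilledBy (I ^ t) (kernel j) := killedBy_of_idSheaf I htk
  have htcI : Formal.KilledBy (I ^ t) (cokernel j) := killedBy_of_idSheaf I htc
  have hh0 : h ≫ cokernel.π j = 0 := by
    refine eq_zero_of_complMap (I := I) hG (QCohLib.isCoh_cokernel j hM.1 hH) t (Or.inr htcI) _ ?_
    rw [complMap_comp, ← hγ0, Category.assoc, ← complMap_comp, cokernel.condition, complMap_zero, comp_zero]
  -- the fibre product
  let wB : M ⊞ G ⟶ H := biprod.desc j (-h)
  have hB : Coh.IsCoh (M ⊞ G) := DevissLib.isCoh_biprod hM hG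
  have hBc := isCohFormal_completion (I := I) hB
  have hR : Coh.IsCoh (kernel wB) := QCohLib.isCoh_kernel wB hB hH.1
  have hRker : IsLimKer (isCohFormal_completion (I := I) hR) hBc hHc (complMap I (kernel.ι wB)) (complMap I wB) :=
    fun U hU => complMap_kernel_lim hB hH wB hU hR
  let p1 : kernel wB ⟶ M := kernel.ι wB ≫ biprod.fst
  let p2 : kernel wB ⟶ G := kernel.ι wB ≫ biprod.snd
  have hp12 : p1 ≫ j = p2 ≫ h := by
    rw [← sub_eq_zero, Category.assoc, Category.assoc, ← Preadditive.comp_sub,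
      show biprod.fst ≫ j - biprod.snd ≫ h = wB from
        biprod.hom_ext' _ _ (by simp [wB]) (by simp [wB]), kernel.condition]
  have := hR.1
  have : Epi p2 := by
    refine GrSysLib.epi_of_surjective_on_cover p2 (fun V : C => V.1.1) (fun V => V.1.2) hcov fun V g => ?_
    have : Coh.IsQCoh (Abelian.image j) := QCohLib.isQCoh_image _
    obtain ⟨m', hm'⟩ := QCohLib.exists_of_app_eq_zero
      (ShortComplex.exact_of_f_is_kernel (ShortComplex.mk _ _ (kernel.condition (cokernel.π j))) (kernelIsKernel _))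
      (inferInstanceAs (Mono (kernel.ι _))) (h.app V.1.1 g)
      (congrArg (fun t : G ⟶ cokernel j => t.app V.1.1 g) hh0)
    obtain ⟨m, rfl⟩ := app_surjective_of_epi (Abelian.factorThruImage j) V.1.2 m'
    have hm : j.app V.1.1 m = h.app V.1.1 g :=
      (congrArg (fun t : M ⟶ H => t.app V.1.1 m) (Abelian.image.fac j).symm).trans hm'
    let z : Γ(M ⊞ G, V.1.1) := (biprod.inl : M ⟶ M ⊞ G).app V.1.1 m + (biprod.inr : G ⟶ M ⊞ G).app V.1.1 g
    have hz : wB.app V.1.1 z = 0 := by
      refine (map_add (wB.app V.1.1).hom _ _).trans ?_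
      refine (congrArg₂ (· + ·) (congrArg (fun t : M ⟶ H => t.app V.1.1 m) (biprod.inl_desc j (-h)))
        (congrArg (fun t : G ⟶ H => t.app V.1.1 g) (biprod.inr_desc j (-h)))).trans ?_
      show j.app V.1.1 m + -(h.app V.1.1 g) = 0
      rw [hm, add_neg_cancel]
    obtain ⟨y, hy⟩ := QCohLib.exists_of_app_eq_zero
      (ShortComplex.exact_of_f_is_kernel (ShortComplex.mk _ _ (kernel.condition wB)) (kernelIsKernel _))
      (inferInstanceAs (Mono (kernel.ι wB))) z hz
    refine ⟨y, ?_⟩
    show (biprod.snd : M ⊞ G ⟶ G).app V.1.1 ((kernel.ι wB).app V.1.1 y) = g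
    erw [hy]
    refine (map_add ((biprod.snd : M ⊞ G ⟶ G).app V.1.1).hom _ _).trans ?_
    refine (congrArg₂ (· + ·) (congrArg (fun t : M ⟶ G => t.app V.1.1 m) biprod.inl_snd)
      (congrArg (fun t : G ⟶ G => t.app V.1.1 g) biprod.inr_snd)).trans ?_
    exact zero_add g
  -- split the fibre product
  obtain ⟨γ, hγ⟩ := hRker.exists_lift hGc (γ0 ≫ complMap I biprod.inl + complMap I biprod.inr) (by
    rw [Preadditive.add_comp, Category.assoc, ← complMap_comp, ← complMap_comp, biprod.inl_desc, biprod.inr_desc,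
      complMap_neg, hγ0, add_neg_cancel])
  have hγ2 : γ ≫ complMap I p2 = 𝟙 _ := by
    rw [complMap_comp, ← Category.assoc, hγ, Preadditive.add_comp, Category.assoc, ← complMap_comp, ← complMap_comp,
      biprod.inl_snd, biprod.inr_snd, complMap_zero, comp_zero, zero_add, complMap_id]
  have hγ1 : γ ≫ complMap I p1 = γ0 := by
    rw [complMap_comp, ← Category.assoc, hγ, Preadditive.add_comp, Category.assoc, ← complMap_comp, ← complMap_comp,
      biprod.inl_fst, biprod.inr_fst, complMap_zero, complMap_id, Category.comp_id, add_zero]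
  have hT0 : Coh.IsCoh (kernel p2) := QCohLib.isCoh_kernel p2 hR hG.1
  have hT0k : Formal.KilledBy (I ^ t) (kernel p2) := by
    let ρ : kernel p2 ⟶ kernel j := kernel.lift j (kernel.ι p2 ≫ p1) (by
      rw [Category.assoc, hp12, kernel.condition_assoc, zero_comp])
    have : Mono ρ := Preadditive.mono_of_cancel_zero _ fun {Z} z hz => by
      apply (cancel_mono (kernel.ι p2)).1
      rw [zero_comp]
      apply (cancel_mono (kernel.ι wB)).1
      rw [zero_comp]
      apply biprod.hom_ext
      · have h1 := congrArg (· ≫ kernel.ι j) hz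
        simp only [Category.assoc, kernel.lift_ι, zero_comp, ρ, p1] at h1
        rw [zero_comp, Category.assoc, Category.assoc]
        exact h1
      · have h1 := kernel.condition p2
        simp only [p2] at h1
        rw [zero_comp, Category.assoc, Category.assoc, h1, comp_zero]
    intro a ha
    apply (cancel_mono ρ).1
    rw [FormalProLib.smulMod_natural, htkI a ha, comp_zero, zero_comp]
  have hGk : IsLimKer (isCohFormal_completion (I := I) hT0) (isCohFormal_completion (I := I) hR) hGc
      (complMap I (kernel.ι p2)) (complMap I p2) := fun U hU => complMap_kernel_lim hR hG p2 hU hT0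
  obtain ⟨ρc, hρc⟩ := hGk.exists_lift (isCohFormal_completion (I := I) hR) (𝟙 _ - complMap I p2 ≫ γ) (by
    rw [Preadditive.sub_comp, Category.id_comp, Category.assoc, hγ2, Category.comp_id, sub_self])
  obtain ⟨ρ, hρ, -⟩ := existsUnique_complMap_of_killed hR hT0 t (Or.inr hT0k) ρc
  have hρ' : complMap I ρ = ρc := completion_hom_ext fun n => (π_complMap ρ n).trans (hρ n).symm
  have hρι : kernel.ι p2 ≫ ρ = 𝟙 _ := by
    rw [← sub_eq_zero]
    refine eq_zero_of_complMap (I := I) hT0 hT0 t (Or.inr hT0k) _ ?_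
    rw [sub_eq_add_neg, complMap_add, complMap_neg, complMap_id, ← sub_eq_add_neg, sub_eq_zero]
    refine eq_of_comp_kernel hR hG p2 hT0 (isCohFormal_completion (I := I) hT0) ?_
    rw [complMap_comp, Category.assoc, hρ', hρc, Preadditive.comp_sub, Category.comp_id, ← Category.assoc,
      ← complMap_comp, kernel.condition, complMap_zero, zero_comp, sub_zero, Category.id_comp]
  let s : G ⟶ kernel wB := Abelian.epiDesc p2 (𝟙 _ - ρ ≫ kernel.ι p2) (by
    rw [Preadditive.comp_sub, Category.comp_id, ← Category.assoc, hρι, Category.id_comp, sub_self])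
  have hs : p2 ≫ s = 𝟙 _ - ρ ≫ kernel.ι p2 := Abelian.comp_epiDesc _ _ _
  have hsp : s ≫ p2 = 𝟙 G := by
    apply (cancel_epi p2).1
    rw [← Category.assoc, hs, Preadditive.sub_comp, Category.id_comp, Category.assoc, kernel.condition, comp_zero,
      sub_zero, Category.comp_id]
  have hsc : complMap I s = γ := by
    have e : complMap I p2 ≫ complMap I s = complMap I p2 ≫ γ := by
      rw [← complMap_comp, hs, sub_eq_add_neg, complMap_add, complMap_neg, complMap_id, complMap_comp, hρ', hρc,
        neg_sub, add_sub_cancel]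
    calc complMap I s = γ ≫ complMap I p2 ≫ complMap I s := by rw [← Category.assoc, hγ2, Category.id_comp]
      _ = γ ≫ complMap I p2 ≫ γ := by rw [e]
      _ = γ := by rw [← Category.assoc, hγ2, Category.id_comp]
  let a : G ⟶ M := s ≫ p1
  have haj : a ≫ j = h := by
    show (s ≫ p1) ≫ j = h
    rw [Category.assoc, hp12, ← Category.assoc, hsp, Category.id_comp]
  refine ⟨M, a, i.symm, hM, ⟨t + (c + c), ?_, ?_⟩, ?_⟩
  · have : Coh.IsQCoh (kernel a) := QCohLib.isQCoh_kernel _
    refine killedBy_mono (Ideal.pow_le_pow_right (Nat.le_add_left _ _))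
      (killedBy_of_idSheaf I (killedByIdeal_of_generators (c + c) hcov w hw fun p => ?_))
    apply (cancel_mono (kernel.ι a)).1
    rw [zero_comp, FormalProLib.smulMod_natural, ← hhκ, ← haj, Category.assoc, kernel.condition_assoc, zero_comp]
  · have : Coh.IsQCoh (cokernel a) := QCohLib.isQCoh_cokernel _
    have hd : ∀ r ∈ I ^ t, ∀ q, Formal.smulMod A (cokernel a) (r * w q) = 0 := fun r hr q => by
      let d : M ⟶ M := Formal.smulMod A M (w q) - (j ≫ κ ≫ πP q) ≫ a
      have hd0 : d ≫ j = 0 := by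
        rw [Preadditive.sub_comp, sub_eq_zero, Category.assoc _ a, haj, FormalProLib.smulMod_natural, Category.assoc j]
        refine congrArg (j ≫ ·) ?_
        apply (cancel_mono κ).1
        refine biproduct.hom_ext _ _ fun p => ?_
        show (Formal.smulMod A H (w q) ≫ κ) ≫ πP p = (((κ ≫ πP q) ≫ h) ≫ κ) ≫ πP p
        rw [Category.assoc, Category.assoc, Category.assoc, hhκ, Category.assoc, ← hκ,
          FormalProLib.smulMod_natural (κ ≫ πP p), Category.assoc]
      have hrd : Formal.smulMod A M r ≫ d = 0 := by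
        rw [FormalProLib.smulMod_natural, ← kernel.lift_ι j d hd0, Category.assoc,
          ← FormalProLib.smulMod_natural (kernel.ι j), htkI r hr, zero_comp, comp_zero]
      apply (cancel_epi (cokernel.π a)).1
      rw [comp_zero, ← FormalProLib.smulMod_natural, mul_comm r, FormalLib.smulMod_mul, Category.assoc]
      have e : Formal.smulMod A M (w q) = d + (j ≫ κ ≫ πP q) ≫ a := (sub_add_cancel _ _).symm
      rw [e, Preadditive.add_comp, Category.assoc _ a, cokernel.condition, comp_zero, add_zero, ← Category.assoc,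
        hrd, zero_comp]
    refine killedBy_of_idSheaf I (killedByIdeal_of_generators (t + (c + c)) hcov
      (fun v : (↥(I ^ t)) × σ => (v.1 : A) * w v.2) (fun V => ?_) fun v => hd v.1 v.1.2 v.2)
    rw [pow_add, idU_pow I t]
    refine (Ideal.mul_mono le_rfl (hw V)).trans ?_
    rw [Ideal.map, Ideal.span_mul_span']
    refine Ideal.span_le.2 ?_
    rintro _ ⟨_, ⟨x, hx, rfl⟩, _, ⟨q, rfl⟩, rfl⟩
    exact Ideal.subset_span ⟨(⟨x, hx⟩, q), map_mul _ _ _⟩
  · show complMap I (s ≫ p1) ≫ i.inv = α
    rw [complMap_comp, hsc, hγ1, Category.assoc, i.hom_inv_id, Category.comp_id]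

end FormalCohLib

end
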