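import Groth.Agent.FormalCohLib.Completion

/-!
# Completion is exact on coherent modules
-/

set_option autoImplicit false

noncomputable section

universe u

open CategoryTheory CategoryTheory.Limits AlgebraicGeometry TopologicalSpace Opposite
open GrSysLib (trMap)

namespace FormalCohLib

variable {A : Type u} [CommRing A] {I : Ideal A} {X : Scheme.{u}} [X.Over (Spec (CommRingCat.of A))]
  [AlgebraicGeometry.IsNoetherian X]

/-- A bound for pulling multiples back along a linear map. -/
lemma exists_pullback_bound {B : Type u} [CommRing B] [IsNoetherianRing B] (J : Ideal B) {M N : Type u}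
    [AddCommGroup M] [Module B M] [AddCommGroup N] [Module B N] [Module.Finite B M] [Module.Finite B N]
    (φ : M →ₗ[B] N) :
    ∃ c, ∀ c', c ≤ c' → ∀ n,
      (∀ x : M, φ x = 0 → x ∈ J ^ (n + c') • (⊤ : Submodule B M) → x ∈ J ^ n • LinearMap.ker φ) ∧
      ∀ x : M, φ x ∈ J ^ (n + c') • (⊤ : Submodule B N) → ∃ y ∈ J ^ n • (⊤ : Submodule B M), φ y = φ x := by
  obtain ⟨c₁, h₁⟩ := HomCohLib.mem_of_mem_inf_smul J (LinearMap.ker φ)
  obtain ⟨c₂, h₂⟩ := HomCohLib.mem_of_mem_inf_smul J (LinearMap.range φ)
  refine ⟨c₁ + c₂, fun c' hc n => ⟨fun x hx hx' => h₁ n x hx (Submodule.smul_mono_left (Ideal.pow_le_pow_right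
    (by omega)) hx'), fun x hx => ?_⟩⟩
  have h := h₂ n (φ x) ⟨x, rfl⟩ (Submodule.smul_mono_left (Ideal.pow_le_pow_right (by omega)) hx)
  rwa [LinearMap.range_eq_map, ← Submodule.map_smul''] at h

variable {M N : X.Modules} (hM : Coh.IsCoh M) (hN : Coh.IsCoh N) (φ : M ⟶ N) {U : X.Opens} (hU : IsAffineOpen U)

lemma exists_proj_completion (hM : Coh.IsCoh M) (n : ℕ)
    (x : (secSys (isCohFormal_completion (I := I) hM) hU).L) :
    ∃ m : Γ(M, U), (Formal.modPowπ I (n + 1) M).app U m = (secSys (isCohFormal_completion (I := I) hM) hU).proj n x :=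
  have := hM.1
  app_modPowπ_surjective I M (n + 1) hU _

lemma complMap_app (n : ℕ) (m : Γ(M, U)) :
    ((complMap I φ).app (op n)).app U ((Formal.modPowπ I (n + 1) M).app U m) =
      (Formal.modPowπ I (n + 1) N).app U (φ.app U m) :=
  congrArg (fun t : M ⟶ Formal.modPow I (n + 1) N => t.app U m) (π_complMap φ n)

lemma completion_tr_app (M : X.Modules) {n m : ℕ} (h : n ≤ m) (x : Γ(M, U)) :
    (trLE (Formal.completion I M) h).app U ((Formal.modPowπ I (m + 1) M).app U x) =
      (Formal.modPowπ I (n + 1) M).app U x :=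
  congrArg (fun t : M ⟶ Formal.modPow I (n + 1) M => t.app U x) (π_completion_trLE M h)

include hM hN in
/-- **Kernels of completions are completions of kernels.** -/
theorem complMap_kernel_lim (hK : Coh.IsCoh (kernel φ)) :
    Function.Injective (secHom (isCohFormal_completion (I := I) hK) (isCohFormal_completion hM) hU
        (complMap I (kernel.ι φ))).lim ∧
      LinearMap.range (secHom (isCohFormal_completion (I := I) hK) (isCohFormal_completion hM) hU
        (complMap I (kernel.ι φ))).lim =
      limKer (isCohFormal_completion hM) (isCohFormal_completion hN) hU (complMap I φ) := by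
  have := noethRing hU
  have := hM.1
  have := hN.1
  have := hK.1
  have := QCohLib.finite_of_isFT hM.2 hU
  have := QCohLib.finite_of_isFT hN.2 hU
  let SK := secSys (isCohFormal_completion (I := I) hK) hU
  let SM := secSys (isCohFormal_completion (I := I) hM) hU
  let J := idU I U
  obtain ⟨c, hc⟩ := exists_pullback_bound J (QCohLib.appLin φ U)
  replace hc := hc c le_rfl
  let ι := QCohLib.appLin (kernel.ι φ) U
  have hιinj : Function.Injective ι := QCohLib.app_injective_of_mono (kernel.ι φ) U
  have hker : LinearMap.ker (QCohLib.appLin φ U) = LinearMap.range ι := by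
    refine le_antisymm (fun x hx => ?_) ?_
    · exact QCohLib.exists_of_app_eq_zero (ShortComplex.exact_of_f_is_kernel (ShortComplex.mk _ _ (kernel.condition φ))
        (kernelIsKernel _)) (inferInstanceAs (Mono (kernel.ι _))) x hx
    · rintro _ ⟨x, rfl⟩
      exact congrArg (fun t : kernel φ ⟶ N => t.app U x) (kernel.condition φ)
  have hsmall : ∀ n (x : Γ(kernel φ, U)), ι x ∈ J ^ (n + c + 1) • (⊤ : Submodule Γ(X, U) Γ(M, U)) →
      x ∈ J ^ (n + 1) • (⊤ : Submodule Γ(X, U) Γ(kernel φ, U)) := by
    intro n x hx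
    rw [show n + c + 1 = n + 1 + c by omega] at hx
    have h1 := (hc (n + 1)).1 (ι x) (hker.ge ⟨x, rfl⟩) hx
    rw [hker, LinearMap.range_eq_map, ← Submodule.map_smul''] at h1
    obtain ⟨x', hx', e⟩ := h1
    rwa [← hιinj e]
  have hιn : ∀ n (x : Γ(kernel φ, U)), ((complMap I (kernel.ι φ)).app (op n)).app U
      ((Formal.modPowπ I (n + 1) (kernel φ)).app U x) = (Formal.modPowπ I (n + 1) M).app U (ι x) :=
    fun n x => complMap_app (kernel.ι φ) n x
  refine ⟨(injective_iff_map_eq_zero _).2 fun k hk => SK.ext fun n => ?_, le_antisymm ?_ fun y hy => ?_⟩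
  · obtain ⟨x, hx⟩ := exists_proj_completion hU hK (n + c) k
    have h1 : (Formal.modPowπ I (n + c + 1) M).app U (ι x) = 0 := by
      rw [← hιn, hx]
      have := congrArg (SM.proj (n + c)) hk
      rwa [map_zero] at this
    rw [map_zero, ← proj_trLE (isCohFormal_completion hK) hU (Nat.le_add_right n c) k, ← hx]
    exact (completion_tr_app (kernel φ) (Nat.le_add_right n c) x).trans
      ((app_modPowπ_eq_zero I _ _ hU _).2 (hsmall n x ((app_modPowπ_eq_zero I _ _ hU _).1 h1)))
  · rintro _ ⟨k, rfl⟩
    refine LinearMap.mem_ker.2 (AdSys.ext fun n => ?_)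
    rw [map_zero]
    have e : (complMap I (kernel.ι φ)).app (op n) ≫ (complMap I φ).app (op n) = 0 := by
      rw [← NatTrans.comp_app, ← complMap_comp, kernel.condition, complMap_zero]
      rfl
    exact congrArg (fun t : (Formal.completion I (kernel φ)).obj (op n) ⟶ (Formal.completion I N).obj (op n) =>
      t.app U (SK.proj n k)) e
  · have hm : ∀ n, ∃ m : Γ(M, U), φ.app U m = 0 ∧
        (Formal.modPowπ I (n + 1) M).app U m = SM.proj n y := fun n => by
      obtain ⟨m, hm⟩ := exists_proj_completion hU hM (n + c) y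
      have h1 : (Formal.modPowπ I (n + c + 1) N).app U (φ.app U m) = 0 := by
        rw [← complMap_app, hm]
        have := congrArg ((secSys (isCohFormal_completion (I := I) hN) hU).proj (n + c)) (LinearMap.mem_ker.1 hy)
        rwa [map_zero] at this
      have h1' : φ.app U m ∈ J ^ (n + 1 + c) • (⊤ : Submodule Γ(X, U) Γ(N, U)) := by
        rw [show n + 1 + c = n + c + 1 by omega]
        exact (app_modPowπ_eq_zero I _ _ hU _).1 h1
      obtain ⟨j, hj, hjm⟩ := (hc (n + 1)).2 m h1'
      refine ⟨m - j, ?_, ?_⟩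
      · rw [map_sub]; exact sub_eq_zero.2 hjm.symm
      · rw [map_sub, (app_modPowπ_eq_zero I M _ hU j).2 hj, sub_zero]
        rw [← completion_tr_app M (Nat.le_add_right n c), hm, proj_trLE]
    choose m hm0 hmy using hm
    choose x hx using fun n => hker.le (LinearMap.mem_ker.2 (hm0 n) : m n ∈ LinearMap.ker (QCohLib.appLin φ U))
    refine ⟨⟨fun n => (Formal.modPowπ I (n + 1) (kernel φ)).app U (x (n + c)), fun n => ?_⟩, AdSys.ext fun n => ?_⟩
    · show (trMap (Formal.completion I (kernel φ)) n).app U ((Formal.modPowπ I (n + 1 + 1) (kernel φ)).app U _) =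
        (Formal.modPowπ I (n + 1) (kernel φ)).app U _
      refine (completion_tr_app (kernel φ) (Nat.le_succ n) _).trans ?_
      refine sub_eq_zero.1 ((map_sub ((Formal.modPowπ I (n + 1) (kernel φ)).app U).hom _ _).symm.trans ?_)
      refine (app_modPowπ_eq_zero I _ _ hU _).2 (hsmall n _ ((app_modPowπ_eq_zero I M _ hU _).1 ?_))
      rw [map_sub ι, hx, hx, map_sub, hmy, sub_eq_zero, ← completion_tr_app M (show n + c ≤ n + 1 + c by omega), hmy,
        proj_trLE]
    · show ((complMap I (kernel.ι φ)).app (op n)).app U ((Formal.modPowπ I (n + 1) (kernel φ)).app U (x (n + c))) =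
        SM.proj n y
      rw [hιn, hx, ← completion_tr_app M (Nat.le_add_right n c), hmy, proj_trLE]

end FormalCohLib

end
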