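import Groth.Agent.FormalCohLib.Restr
import Groth.Agent.FormalCohLib.Exact
import Groth.Agent.ConsLib.ModLoci

/-!
# Quotients by an ideal sheaf
-/

set_option autoImplicit false

noncomputable section

universe u

open CategoryTheory CategoryTheory.Limits AlgebraicGeometry TopologicalSpace Opposite
open GrSysLib (trMap)

namespace FormalCohLib

variable {X : Scheme.{u}} (K : X.IdealSheafData)

/-- `M ↦ M / K M`. -/
abbrev quotK : X.Modules ⥤ X.Modules :=
  Scheme.Modules.pullback K.subschemeι ⋙ Scheme.Modules.pushforward K.subschemeι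

/-- The projection `M ⟶ M / K M`. -/
abbrev quotKπ (M : X.Modules) : M ⟶ (quotK K).obj M :=
  (Scheme.Modules.pullbackPushforwardAdjunction K.subschemeι).unit.app M

lemma quotKπ_natural {M N : X.Modules} (φ : M ⟶ N) : quotKπ K M ≫ (quotK K).map φ = φ ≫ quotKπ K N :=
  ((Scheme.Modules.pullbackPushforwardAdjunction K.subschemeι).unit.naturality φ).symm

lemma killed_quotK (M : X.Modules) : ClSub.KilledByIdeal K ((quotK K).obj M) := by
  have := CycKSuppLib.killed_push K.subschemeι ((Scheme.Modules.pullback K.subschemeι).obj M)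
  rwa [Scheme.IdealSheafData.ker_subschemeι] at this

lemma isCoh_quotK [IsLocallyNoetherian X] {M : X.Modules} (hM : Coh.IsCoh M) : Coh.IsCoh ((quotK K).obj M) :=
  QCohLib.isCoh_push_finite K.subschemeι _ (ConsLib.isCoh_pullback K.subschemeι hM)

lemma isQCoh_quotK (M : X.Modules) [Coh.IsQCoh M] : Coh.IsQCoh ((quotK K).obj M) :=
  have := KFlatLib.isQCoh_pullback K.subschemeι M
  QCohLib.isQCoh_pushforward K.subschemeι _

/-- Maps into killed modules factor through the quotient. -/
lemma existsUnique_quotK {M N : X.Modules} (hN : ClSub.KilledByIdeal K N) (φ : M ⟶ N) :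
    ∃! ψ : (quotK K).obj M ⟶ N, quotKπ K M ≫ ψ = φ := by
  let adj := Scheme.Modules.pullbackPushforwardAdjunction K.subschemeι
  have hk : ClSub.KilledByIdeal K.subschemeι.ker N := by rwa [Scheme.IdealSheafData.ker_subschemeι]
  have hi : IsIso (adj.unit.app N) := DevissLib.isIso_unit_of_killed K.subschemeι hk
  refine ⟨(quotK K).map φ ≫ inv (adj.unit.app N), ?_, fun ψ hψ => ?_⟩
  · show _ ≫ _ = φ
    rw [← Category.assoc, quotKπ_natural, Category.assoc]
    show φ ≫ adj.unit.app N ≫ inv (adj.unit.app N) = φ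
    rw [IsIso.hom_inv_id, Category.comp_id]
  · rw [IsIso.eq_comp_inv, ← hψ, Functor.map_comp]
    have e : adj.unit.app ((quotK K).obj M) = (quotK K).map (quotKπ K M) := by
      have hiM : IsIso (adj.unit.app ((quotK K).obj M)) := DevissLib.isIso_unit_of_killed K.subschemeι
        (CycKSuppLib.killed_push K.subschemeι _)
      have : IsIso (adj.counit.app ((Scheme.Modules.pullback K.subschemeι).obj M)) :=
        CycKSuppLib.isIso_counit K.subschemeι _
      have : IsIso ((Scheme.Modules.pushforward K.subschemeι).map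
        (adj.counit.app ((Scheme.Modules.pullback K.subschemeι).obj M))) := inferInstance
      apply (cancel_mono ((Scheme.Modules.pushforward K.subschemeι).map
        (adj.counit.app ((Scheme.Modules.pullback K.subschemeι).obj M)))).1
      refine (adj.right_triangle_components _).trans ?_
      show _ = (Scheme.Modules.pushforward K.subschemeι).map ((Scheme.Modules.pullback K.subschemeι).map (adj.unit.app M)) ≫ _
      rw [← Functor.map_comp]
      exact ((Scheme.Modules.pushforward K.subschemeι).map_id _).symm.trans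
        (congrArg _ (adj.left_triangle_components M).symm)
    show ψ ≫ adj.unit.app N = (quotK K).map (quotKπ K M) ≫ (quotK K).map ψ
    rw [← e]
    exact (adj.unit.naturality ψ)

/-- **The kernel of `M(U) → (M / K M)(U)`.** -/
lemma app_quotKπ_eq_zero (M : X.Modules) [Coh.IsQCoh M] {U : X.Opens} (hU : IsAffineOpen U) (x : Γ(M, U)) :
    (quotKπ K M).app U x = 0 ↔ x ∈ K.ideal ⟨U, hU⟩ • (⊤ : Submodule Γ(X, U) Γ(M, U)) := by
  refine ⟨fun h => ?_, fun h => ?_⟩
  · have := mem_of_unit_app_eq_zero K.subschemeι M hU x h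
    rwa [Scheme.IdealSheafData.ker_subschemeι] at this
  · refine Submodule.smul_induction_on h (fun r hr m _ => ?_) fun a b ha hb => ?_
    · rw [QCohLib.app_smul]
      exact killed_quotK K M ⟨U, hU⟩ r hr _
    · rw [map_add, ha, hb, add_zero]

lemma app_quotKπ_surjective (M : X.Modules) [Coh.IsQCoh M] {U : X.Opens} (hU : IsAffineOpen U) :
    Function.Surjective ((quotKπ K M).app U) := by
  have := isQCoh_quotK K M
  have : Epi (quotKπ K M) := by
    refine Preadditive.epi_of_cancel_zero _ fun {Y} g hg => ?_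
    have hk : ClSub.KilledByIdeal K ((quotK K).obj M) := killed_quotK K M
    let adj := Scheme.Modules.pullbackPushforwardAdjunction K.subschemeι
    let P := Abelian.image (quotKπ K M)
    have hP : ClSub.KilledByIdeal K P := fun W a ha m => by
      refine QCohLib.app_injective_of_mono (Abelian.image.ι (quotKπ K M)) W.1 ?_
      exact (QCohLib.app_smul (Abelian.image.ι (quotKπ K M)) W.1 a m).trans ((hk W a ha _).trans (map_zero _).symm)
    obtain ⟨ψ, hψ, -⟩ := existsUnique_quotK K hP (Abelian.factorThruImage (quotKπ K M))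
    have h1 : ψ ≫ Abelian.image.ι (quotKπ K M) = 𝟙 _ :=
      (existsUnique_quotK K hk (quotKπ K M)).unique
        (by rw [← Category.assoc, hψ, Abelian.image.fac]) (Category.comp_id _)
    have h2 : Abelian.image.ι (quotKπ K M) ≫ g = 0 := by
      apply (cancel_epi (Abelian.factorThruImage (quotKπ K M))).1
      rw [← Category.assoc, Abelian.image.fac, hg, comp_zero]
    rw [← Category.id_comp g, ← h1, Category.assoc, h2, comp_zero]
  exact app_surjective_of_epi (quotKπ K M) hU

variable {A : Type u} [CommRing A] {I : Ideal A} [X.Over (Spec (CommRingCat.of A))]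
  [AlgebraicGeometry.IsNoetherian X] {G : ℕᵒᵖ ⥤ X.Modules}

/-- The quotient of a system. -/
abbrev quotF (G : ℕᵒᵖ ⥤ X.Modules) : ℕᵒᵖ ⥤ X.Modules := G ⋙ quotK K

/-- Its projection. -/
def quotFπ (G : ℕᵒᵖ ⥤ X.Modules) : G ⟶ quotF K G where
  app n := quotKπ K (G.obj n)
  naturality _ _ f := (quotKπ_natural K (G.map f)).symm

variable (hG : Formal.IsCohFormal I G)

include hG in
theorem isCohFormal_quotF : Formal.IsCohFormal I (quotF K G) := by
  have hk : ∀ n, Formal.KilledBy (I ^ (n + 1)) ((quotF K G).obj (op n)) := fun n a ha => by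
    obtain ⟨ψ, -, hu⟩ := existsUnique_quotK K (killed_quotK K (G.obj (op n))) (0 : G.obj (op n) ⟶ _)
    refine (hu _ ?_).trans (hu 0 (comp_zero)).symm
    show quotKπ K _ ≫ Formal.smulMod A _ a = 0
    rw [← FormalProLib.smulMod_natural, hG.2.1 n a ha, zero_comp]
  have hcoh : ∀ n, Coh.IsCoh ((quotF K G).obj (op n)) := fun n => isCoh_quotK K (hG.1 n)
  refine ⟨hcoh, hk, fun n => ⟨smulFamily_comp_eq_zero _ (hk n), ?_⟩⟩
  obtain ⟨C, hC⟩ := exists_cover (X := X)
  have := (hG.1 n).1
  have := (hG.1 (n + 1)).1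
  have := (hcoh (n + 1)).1
  have := (hcoh n).1
  have : Coh.IsQCoh (cokernel (Formal.smulFamily (I ^ (n + 1)) ((quotF K G).obj (op (n + 1))))) :=
    isQCoh_modPow I _ (n + 1)
  show IsIso (cokernel.desc _ (trMap (quotF K G) n) (smulFamily_comp_eq_zero _ (hk n)))
  refine isIso_of_bijective_cover (fun V : C => V.1.1) (fun V => V.1.2)
    (fun x => by obtain ⟨V, hV, hx⟩ := hC x; exact ⟨⟨V, hV⟩, hx⟩) _ fun V => ?_
  let U := V.1.1
  have hU : IsAffineOpen U := V.1.2
  have hd : ∀ g, (cokernel.desc _ (trMap (quotF K G) n) (smulFamily_comp_eq_zero _ (hk n))).app U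
      ((Formal.modPowπ I (n + 1) ((quotF K G).obj (op (n + 1)))).app U ((quotKπ K (G.obj (op (n + 1)))).app U g)) =
      (quotKπ K (G.obj (op n))).app U ((trMap G n).app U g) := fun g => by
    refine (congrArg (fun t : (quotF K G).obj (op (n + 1)) ⟶ (quotF K G).obj (op n) =>
      t.app U ((quotKπ K (G.obj (op (n + 1)))).app U g)) (cokernel.π_desc _ _ _)).trans ?_
    exact congrArg (fun t : G.obj (op (n + 1)) ⟶ (quotF K G).obj (op n) => t.app U g)
      (quotKπ_natural K (trMap G n))
  refine ⟨(injective_iff_map_eq_zero _).2 fun x hx => ?_, fun y => ?_⟩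
  · obtain ⟨q, rfl⟩ := app_modPowπ_surjective I ((quotF K G).obj (op (n + 1))) (n + 1) hU x
    obtain ⟨g, rfl⟩ := app_quotKπ_surjective K (G.obj (op (n + 1))) hU q
    have h1 : (trMap G n).app U g ∈ K.ideal ⟨U, hU⟩ • (⊤ : Submodule Γ(X, U) Γ(G.obj (op n), U)) :=
      (app_quotKπ_eq_zero K _ hU _).1 ((hd g).symm.trans hx)
    have hs : Function.Surjective (QCohLib.appLin (trMap G n) U) := app_trMap_surjective hG hU n
    rw [← LinearMap.range_eq_top.2 hs, LinearMap.range_eq_map, ← Submodule.map_smul''] at h1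
    obtain ⟨k, hk', hkg⟩ := h1
    have h2 : g - k ∈ (idU I U ^ (n + 1) • ⊤ : Submodule Γ(X, U) Γ(G.obj (op (n + 1)), U)) := by
      refine (app_trMap_eq_zero hG hU n _).1 ?_
      rw [map_sub, sub_eq_zero]
      exact hkg.symm
    refine (app_modPowπ_eq_zero I _ _ hU _).2 ?_
    have h3 := Submodule.mem_map_of_mem (f := QCohLib.appLin (quotKπ K (G.obj (op (n + 1)))) U) h2
    rw [Submodule.map_smul''] at h3
    have h4 : (quotKπ K (G.obj (op (n + 1)))).app U (g - k) = (quotKπ K (G.obj (op (n + 1)))).app U g := by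
      rw [map_sub, (app_quotKπ_eq_zero K _ hU k).2 hk', sub_zero]
    rw [← h4]
    exact Submodule.smul_mono le_rfl le_top h3
  · obtain ⟨g, rfl⟩ := app_quotKπ_surjective K (G.obj (op n)) hU y
    obtain ⟨g, rfl⟩ := app_trMap_surjective hG hU n g
    exact ⟨_, hd g⟩

end FormalCohLib

end
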