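import Groth.Agent.FormalCohLib.Local
import Groth.Agent.FormalCohLib.Counit
import Groth.Agent.FormalCohLib.Tools

/-!
# The map of a formal module to the completion of a direct image
-/

set_option autoImplicit false

noncomputable section

universe u

open CategoryTheory CategoryTheory.Limits AlgebraicGeometry TopologicalSpace Opposite
open FormalLib (rhoA)
open GrSysLib (trMap)

namespace FormalCohLib

variable {A : Type u} [CommRing A] {J : Ideal A} {X Y : Scheme.{u}} [X.Over (Spec (CommRingCat.of A))]
  [Y.Over (Spec (CommRingCat.of A))] (f : X ⟶ Y)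
  (hf : f ≫ (Y ↘ Spec (CommRingCat.of A)) = X ↘ Spec (CommRingCat.of A))

local notation "pf" => Scheme.Modules.pushforward f
local notation "adj" => Scheme.Modules.pullbackPushforwardAdjunction f

include hf

/-- Direct image commutes with multiplication by elements of the base. -/
lemma push_smulMod (M : X.Modules) (a : A) :
    (pf).map (Formal.smulMod A M a) = Formal.smulMod A ((pf).obj M) a := by
  refine Scheme.Modules.hom_ext _ _ fun V => ConcreteCategory.hom_ext _ _ fun x => ?_
  show rhoA A (f ⁻¹ᵁ V) a • (show Γ(M, f ⁻¹ᵁ V) from x) = f.app V (rhoA A V a) • (show Γ(M, f ⁻¹ᵁ V) from x)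
  rw [Scheme.Hom.app_eq_appLE, appLE_rhoA f hf]

/-- Inverse image commutes with multiplication by elements of the base. -/
lemma pullback_smulMod (M : Y.Modules) (a : A) :
    (Scheme.Modules.pullback f).map (Formal.smulMod A M a) = Formal.smulMod A _ a := by
  apply ((adj).homEquiv _ _).injective
  rw [Adjunction.homEquiv_unit, Adjunction.homEquiv_unit, push_smulMod f hf]
  exact ((adj).unit.naturality (Formal.smulMod A M a)).symm.trans (FormalProLib.smulMod_natural _ a)

lemma killedBy_push {I' : Ideal A} {M : X.Modules} (h : Formal.KilledBy I' M) :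
    Formal.KilledBy I' ((pf).obj M) := fun a ha => by
  rw [← push_smulMod f hf, h a ha, (pf).map_zero]

lemma killedBy_pullback {I' : Ideal A} {M : Y.Modules} (h : Formal.KilledBy I' M) :
    Formal.KilledBy I' ((Scheme.Modules.pullback f).obj M) := fun a ha => by
  rw [← pullback_smulMod f hf, h a ha, (Scheme.Modules.pullback f).map_zero]

omit hf

variable (J) in
/-- The direct images of the levels. -/
abbrev PF (F : X.Modules) : ℕᵒᵖ ⥤ Y.Modules := Formal.completion J F ⋙ pf

/-- The direct image of the projection. -/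
abbrev pπ (F : X.Modules) (n : ℕ) : (pf).obj F ⟶ (PF J f F).obj (op n) := (pf).map (Formal.modPowπ J (n + 1) F)

lemma pπ_trLE (F : X.Modules) {n m : ℕ} (h : n ≤ m) : pπ (J := J) f F m ≫ trLE (PF J f F) h = pπ f F n := by
  show (pf).map _ ≫ (pf).map _ = _
  rw [← Functor.map_comp]
  exact congrArg _ (π_completion_trLE F h)

include hf

lemma smulFamily_pπ (F : X.Modules) (n : ℕ) :
    Formal.smulFamily (J ^ (n + 1)) ((pf).obj F) ≫ pπ (J := J) f F n = 0 :=
  smulFamily_comp_eq_zero _ (killedBy_push f hf (killedBy_modPow (n + 1) F))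

/-- The comparison. -/
def cmp (F : X.Modules) : Formal.completion J ((pf).obj F) ⟶ PF J f F :=
  NatTrans.ofOpSequence (fun n => cokernel.desc _ (pπ f F n) (smulFamily_pπ f hf F n)) fun n => by
    refine Eq.trans (congrArg (fun t => t ≫ cokernel.desc _ (pπ f F n) (smulFamily_pπ f hf F n))
      (completion_trMap ((pf).obj F) n)) ?_
    have key : Formal.modPowTrans J (n + 1) ((pf).obj F) ≫ cokernel.desc _ (pπ f F n) (smulFamily_pπ f hf F n) =
        cokernel.desc (Formal.smulFamily (J ^ (n + 1 + 1)) ((pf).obj F)) (pπ f F (n + 1)) (smulFamily_pπ f hf F (n + 1)) ≫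
          trMap (PF J f F) n := by
      apply (cancel_epi (Formal.modPowπ J (n + 1 + 1) ((pf).obj F))).1
      rw [← Category.assoc, Formal.modPowπ_trans]
      show cokernel.π _ ≫ cokernel.desc _ _ _ = cokernel.π _ ≫ cokernel.desc _ _ _ ≫ trMap (PF J f F) n
      rw [cokernel.π_desc, cokernel.π_desc_assoc]
      exact (pπ_trLE f F (Nat.le_succ n)).symm
    exact key

lemma π_cmp (F : X.Modules) (n : ℕ) :
    Formal.modPowπ J (n + 1) ((pf).obj F) ≫ (cmp f hf F).app (op n) = pπ f F n :=
  cokernel.π_desc _ _ _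

omit hf

/-- The map to the direct images of the levels. -/
def gam {G : ℕᵒᵖ ⥤ Y.Modules} {F : X.Modules} (β : (G ⋙ Scheme.Modules.pullback f) ≅ Formal.completion J F) :
    G ⟶ PF J f F where
  app n := (adj).unit.app (G.obj n) ≫ (pf).map (β.hom.app n)
  naturality a b t := by
    rw [← Category.assoc, show G.map t ≫ (adj).unit.app (G.obj b) =
      (adj).unit.app (G.obj a) ≫ (pf).map ((Scheme.Modules.pullback f).map (G.map t)) from (adj).unit.naturality (G.map t),
      Category.assoc, Category.assoc]
    refine congrArg ((adj).unit.app (G.obj a) ≫ ·) ?_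
    show _ = (pf).map (β.hom.app a) ≫ (pf).map ((Formal.completion J F).map t)
    rw [← Functor.map_comp, ← Functor.map_comp]
    exact congrArg _ (β.hom.naturality t)

variable [AlgebraicGeometry.IsNoetherian X] [AlgebraicGeometry.IsNoetherian Y] [IsProper f]

include hf in
/-- **A formal module whose inverse image is a completion maps to the completion of the direct image.** -/
theorem exists_push_hom {F : X.Modules} (hF : Coh.IsCoh F) {G : ℕᵒᵖ ⥤ Y.Modules} (hG : Formal.IsCohFormal J G)
    (β : (G ⋙ Scheme.Modules.pullback f) ≅ Formal.completion J F) :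
    ∃ α : G ⟶ Formal.completion J ((pf).obj F), α ≫ cmp f hf F = gam f β := by
  classical
  let N := (pf).obj F
  have hN : Coh.IsCoh N := isCoh_push_proper f hF
  have := hF.1
  have := hN.1
  have hNc := isCohFormal_completion (I := J) hN
  let c := cmp (J := J) f hf F
  let γ := gam f β
  obtain ⟨C, hC⟩ := exists_cover (X := Y)
  have hcov : ∀ y : Y, ∃ V : C, y ∈ V.1.1 := fun y => by obtain ⟨V, hV, hy⟩ := hC y; exact ⟨⟨V, hV⟩, hy⟩
  have hqP : ∀ n, Coh.IsQCoh ((PF J f F).obj (op n)) := fun n => (isCoh_push_proper f (isCoh_modPow (I := J) hF (n + 1))).1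
  have hqN : ∀ n, Coh.IsQCoh ((Formal.completion J N).obj (op n)) := fun n => (hNc.1 n).1
  -- bounds
  choose mb hmb hb using fun (V : C) (n : ℕ) => exists_formal_bounds J f hf hF V.1.2 n
  let n1 : ℕ → ℕ := fun n => n + Finset.univ.sup fun V : C => mb V n
  have hn1 : ∀ n (V : C), mb V n ≤ n1 n := fun n V =>
    (Finset.le_sup (f := fun V : C => mb V n) (Finset.mem_univ V)).trans (Nat.le_add_left _ _)
  have hker : ∀ n j (hj : n1 n ≤ j),
      kernel.ι (c.app (op j)) ≫ trLE (Formal.completion J N) ((Nat.le_add_right _ _).trans hj : n ≤ j) = 0 := by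
    intro n j hj
    have : Coh.IsQCoh (kernel (c.app (op j))) :=
      haveI := hqP j; haveI := hqN j; QCohLib.isQCoh_kernel _
    refine HomCohLib.eq_zero_of_app _ (fun V : C => V.1.1) (fun V => V.1.2) hcov fun V z => ?_
    obtain ⟨x, hx⟩ := app_modPowπ_surjective J N (j + 1) V.1.2 ((kernel.ι (c.app (op j))).app V.1.1 z)
    have h0 : (pπ (J := J) f F j).app V.1.1 x = 0 := by
      rw [← π_cmp f hf F j]
      refine (congrArg ((c.app (op j)).app V.1.1) hx).trans ?_
      exact congrArg (fun t : kernel (c.app (op j)) ⟶ _ => t.app V.1.1 z) (kernel.condition (c.app (op j)))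
    have h1 : x ∈ idU J V.1.1 ^ (n + 1) • (⊤ : Submodule Γ(Y, V.1.1) Γ(N, V.1.1)) :=
      (hb V n j ((hn1 n V).trans hj) (by have := (Nat.le_add_right n _).trans hj; omega)).2 x h0
    show (trLE (Formal.completion J N) _).app V.1.1 ((kernel.ι (c.app (op j))).app V.1.1 z) = 0
    rw [← hx]
    exact (completion_tr_app N _ x).trans ((app_modPowπ_eq_zero J N _ V.1.2 x).2 h1)
  have himg : ∀ n, γ.app (op n) ≫ cokernel.π (c.app (op n)) = 0 := fun n => by
    have := GrSysLib.epi_trMap hG n
    have := epi_trLE hG (show n ≤ n1 n from Nat.le_add_right _ _)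
    apply (cancel_epi (trLE G (show n ≤ n1 n from Nat.le_add_right _ _))).1
    rw [comp_zero, ← Category.assoc, trLE_natural γ, Category.assoc]
    have := (hG.1 (n1 n)).1
    refine HomCohLib.eq_zero_of_app _ (fun V : C => V.1.1) (fun V => V.1.2) hcov fun V g => ?_
    obtain ⟨x, hx⟩ := (hb V n (n1 n) (hn1 n V) (Nat.succ_le_succ (Nat.le_add_right _ _))).1
      ((γ.app (op (n1 n))).app V.1.1 g)
    have e : trLE (Formal.completion J F) (show n ≤ n1 n from Nat.le_add_right _ _) =
        Formal2.modPowLE J (show n + 1 ≤ n1 n + 1 from Nat.succ_le_succ (Nat.le_add_right _ _)) F := by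
      apply coequalizer.hom_ext
      exact (π_completion_trLE F _).trans (Formal2.modPowπ_modPowLE J _ F).symm
    show (cokernel.π (c.app (op n))).app V.1.1
      ((trLE (Formal.completion J F) (show n ≤ n1 n from Nat.le_add_right _ _)).app (f ⁻¹ᵁ V.1.1)
        ((γ.app (op (n1 n))).app V.1.1 g)) = 0
    rw [e]
    erw [← hx]
    show (cokernel.π (c.app (op n))).app V.1.1 ((pπ (J := J) f F n).app V.1.1 x) = 0
    rw [← π_cmp f hf F n]
    exact congrArg (fun t : (Formal.completion J N).obj (op n) ⟶ cokernel (c.app (op n)) =>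
      t.app V.1.1 ((Formal.modPowπ J (n + 1) N).app V.1.1 x)) (cokernel.condition (c.app (op n)))
  let lam : ∀ j, G.obj (op j) ⟶ Abelian.image (c.app (op j)) := fun j => kernel.lift _ (γ.app (op j)) (himg j)
  have hlam : ∀ j, lam j ≫ Abelian.image.ι (c.app (op j)) = γ.app (op j) := fun j => kernel.lift_ι _ _ _
  let p : ∀ j, (Formal.completion J N).obj (op j) ⟶ Abelian.image (c.app (op j)) := fun j =>
    Abelian.factorThruImage (c.app (op j))
  have hp : ∀ j, p j ≫ Abelian.image.ι (c.app (op j)) = c.app (op j) := fun j => Abelian.image.fac _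
  let rho : ∀ n j (hj : n1 n ≤ j), Abelian.image (c.app (op j)) ⟶ (Formal.completion J N).obj (op n) := fun n j hj =>
    (Abelian.coimageImageComparison (c.app (op j)) |> asIso).inv ≫ cokernel.desc _ _ (hker n j hj)
  have hrho : ∀ n j (hj : n1 n ≤ j),
      p j ≫ rho n j hj = trLE (Formal.completion J N) ((Nat.le_add_right _ _).trans hj : n ≤ j) := fun n j hj => by
    have e : Abelian.coimage.π (c.app (op j)) ≫ Abelian.coimageImageComparison (c.app (op j)) = p j :=
      (cancel_mono (Abelian.image.ι (c.app (op j)))).1 (by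
        rw [Category.assoc, hp]
        exact Abelian.coimage_image_factorisation _)
    rw [← e, Category.assoc]
    show _ ≫ (asIso (Abelian.coimageImageComparison (c.app (op j)))).hom ≫ _ ≫ _ = _
    rw [Iso.hom_inv_id_assoc]
    exact cokernel.π_desc _ _ _
  have hup : ∀ n j j' (hj : n1 n ≤ j) (hjj : j ≤ j'),
      trLE G hjj ≫ lam j ≫ rho n j hj = lam j' ≫ rho n j' (hj.trans hjj) := fun n j j' hj hjj => by
    have h0 : (Abelian.image.ι (c.app (op j')) ≫ trLE (PF J f F) hjj) ≫ cokernel.π (c.app (op j)) = 0 := by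
      apply (cancel_epi (p j')).1
      rw [comp_zero, ← Category.assoc, ← Category.assoc, hp, ← trLE_natural c, Category.assoc, cokernel.condition, comp_zero]
    let σ : Abelian.image (c.app (op j')) ⟶ Abelian.image (c.app (op j)) := kernel.lift _ _ h0
    have hσ : σ ≫ Abelian.image.ι (c.app (op j)) = Abelian.image.ι (c.app (op j')) ≫ trLE (PF J f F) hjj :=
      kernel.lift_ι _ _ _
    have e1 : trLE G hjj ≫ lam j = lam j' ≫ σ := (cancel_mono (Abelian.image.ι (c.app (op j)))).1 (by
      rw [Category.assoc, hlam, Category.assoc, hσ, ← Category.assoc, hlam]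
      exact trLE_natural γ hjj)
    have e2 : σ ≫ rho n j hj = rho n j' (hj.trans hjj) := by
      apply (cancel_epi (p j')).1
      have e3 : p j' ≫ σ = trLE (Formal.completion J N) hjj ≫ p j := (cancel_mono (Abelian.image.ι (c.app (op j)))).1 (by
        rw [Category.assoc, hσ, ← Category.assoc, hp, Category.assoc, hp]
        exact (trLE_natural c hjj).symm)
      rw [← Category.assoc, e3, Category.assoc, hrho n j hj, hrho n j' (hj.trans hjj), trLE_comp]
    rw [← Category.assoc, e1, Category.assoc, e2]
  choose a ha using fun n => exists_factor hG (show n ≤ n1 n from Nat.le_add_right _ _) (hNc.2.1 n)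
    (lam (n1 n) ≫ rho n (n1 n) le_rfl)
  have hcompat : ∀ n, a (n + 1) ≫ trMap (Formal.completion J N) n = trMap G n ≫ a n := fun n => by
    let j := max (n1 n) (n1 (n + 1))
    have h1 := le_max_left (n1 n) (n1 (n + 1))
    have h2 := le_max_right (n1 n) (n1 (n + 1))
    have hle : n + 1 ≤ j := (Nat.le_add_right _ _).trans h2
    have := epi_trLE hG hle
    apply (cancel_epi (trLE G hle)).1
    have e1 : trLE G hle ≫ a (n + 1) = lam j ≫ rho (n + 1) j h2 := by
      refine Eq.trans ?_ (hup (n + 1) (n1 (n + 1)) j le_rfl h2)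
      rw [← ha, ← Category.assoc, trLE_comp]
    have e2 : trLE G ((Nat.le_succ n).trans hle) ≫ a n = lam j ≫ rho n j h1 := by
      refine Eq.trans ?_ (hup n (n1 n) j le_rfl h1)
      rw [← ha, ← Category.assoc, trLE_comp]
    have e3 : rho (n + 1) j h2 ≫ trMap (Formal.completion J N) n = rho n j h1 := by
      apply (cancel_epi (p j)).1
      rw [← Category.assoc, hrho (n + 1) j h2, hrho n j h1, ← trLE_succ, trLE_comp]
    rw [← Category.assoc, e1, Category.assoc, e3, ← Category.assoc (trLE G hle), ← trLE_succ, trLE_comp]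
    exact e2.symm
  let α : G ⟶ Formal.completion J N := NatTrans.ofOpSequence (fun n => a n) fun n => (hcompat n).symm
  refine ⟨α, ?_⟩
  ext ⟨n⟩ : 2
  show a n ≫ c.app (op n) = γ.app (op n)
  have := epi_trLE hG (show n ≤ n1 n from Nat.le_add_right _ _)
  apply (cancel_epi (trLE G (show n ≤ n1 n from Nat.le_add_right _ _))).1
  rw [← Category.assoc, ha, Category.assoc,
    show rho n (n1 n) le_rfl ≫ c.app (op n) = Abelian.image.ι (c.app (op (n1 n))) ≫ trLE (PF J f F) (Nat.le_add_right _ _) by
      apply (cancel_epi (p (n1 n))).1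
      rw [← Category.assoc, hrho n (n1 n) le_rfl, ← Category.assoc, hp, trLE_natural c],
    ← Category.assoc, hlam, trLE_natural γ]

end FormalCohLib

end
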