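import Groth.Agent.S0543
import Groth.Agent.FormalLimLib.Basic
import Mathlib.RingTheory.AdicCompletion.Algebra
import Mathlib.RingTheory.AdicCompletion.Completeness
import Mathlib.RingTheory.Filtration

/-!
# Adic systems of finite modules and their limits
-/

set_option autoImplicit false

noncomputable section

universe u

namespace FormalCohLib

variable {B : Type u} [CommRing B]

/-- An adic system of finite modules. -/
structure AdSys (J : Ideal B) where
  M : ℕ → Type u
  [addGrp : ∀ n, AddCommGroup (M n)]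
  [mod : ∀ n, Module B (M n)]
  t : ∀ n, M (n + 1) →ₗ[B] M n
  surj : ∀ n, Function.Surjective (t n)
  fin : ∀ n, Module.Finite B (M n)
  kill : ∀ n, J ^ (n + 1) • (⊤ : Submodule B (M n)) = ⊥
  ker_t : ∀ n, LinearMap.ker (t n) = J ^ (n + 1) • (⊤ : Submodule B (M (n + 1)))

attribute [instance] AdSys.addGrp AdSys.mod

variable {J : Ideal B}

/-- The limit. -/
def AdSys.lim (S : AdSys J) : Submodule B (∀ n, S.M n) where
  carrier := {x | ∀ n, S.t n (x (n + 1)) = x n}
  zero_mem' n := map_zero _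
  add_mem' hx hy n := by simp [hx n, hy n]
  smul_mem' b x hx n := by simp [hx n]

/-- The limit, as a type. -/
abbrev AdSys.L (S : AdSys J) : Type u := ↥S.lim

/-- The projections. -/
def AdSys.proj (S : AdSys J) (n : ℕ) : S.L →ₗ[B] S.M n := (LinearMap.proj n).comp S.lim.subtype

lemma AdSys.t_proj (S : AdSys J) (n : ℕ) (x : S.L) : S.t n (S.proj (n + 1) x) = S.proj n x := x.2 n

lemma AdSys.ext {S : AdSys J} {x y : S.L} (h : ∀ n, S.proj n x = S.proj n y) : x = y := Subtype.ext (funext h)

lemma AdSys.smul_eq_zero (S : AdSys J) (n : ℕ) {b : B} (hb : b ∈ J ^ (n + 1)) (x : S.M n) : b • x = 0 := by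
  have := Submodule.smul_mem_smul hb (Submodule.mem_top (x := x))
  rwa [S.kill, Submodule.mem_bot] at this

/-- The action of the completion on a member. -/
def AdSys.act (S : AdSys J) (n : ℕ) : AdicCompletion J B →ₐ[B] Module.End B (S.M n) :=
  (Ideal.Quotient.liftₐ (J ^ (n + 1)) (Algebra.ofId B (Module.End B (S.M n))) fun b hb =>
    LinearMap.ext fun x => S.smul_eq_zero n hb x).comp (AdicCompletion.evalₐ J (n + 1))

lemma exists_approx (a : AdicCompletion J B) (n : ℕ) :
    ∃ b : B, ∀ m, m ≤ n → AdicCompletion.evalₐ J m a = Ideal.Quotient.mk (J ^ m) b := by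
  induction a using AdicCompletion.induction_on with
  | h f =>
    refine ⟨f n, fun m hm => ?_⟩
    rw [AdicCompletion.evalₐ_mk, Ideal.Quotient.mk_eq_mk_iff_sub_mem]
    have := f.2 hm
    rwa [SModEq.sub_mem, smul_eq_mul, Ideal.mul_top] at this

lemma AdSys.act_apply (S : AdSys J) {n : ℕ} {a : AdicCompletion J B} {b : B}
    (h : AdicCompletion.evalₐ J (n + 1) a = Ideal.Quotient.mk _ b) (x : S.M n) : S.act n a x = b • x := by
  simp only [AdSys.act, AlgHom.comp_apply, h]
  rfl

instance AdSys.moduleM (S : AdSys J) (n : ℕ) : Module (AdicCompletion J B) (S.M n) :=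
  Module.compHom _ (S.act n).toRingHom

instance AdSys.towerM (S : AdSys J) (n : ℕ) : IsScalarTower B (AdicCompletion J B) (S.M n) :=
  ⟨fun b a x => LinearMap.congr_fun ((S.act n).toLinearMap.map_smul b a) x⟩

lemma AdSys.smul_eq (S : AdSys J) {n : ℕ} {a : AdicCompletion J B} {b : B}
    (h : AdicCompletion.evalₐ J (n + 1) a = Ideal.Quotient.mk _ b) (x : S.M n) : a • x = b • x :=
  S.act_apply h x

lemma AdSys.t_smul (S : AdSys J) (n : ℕ) (a : AdicCompletion J B) (x : S.M (n + 1)) :
    S.t n (a • x) = a • S.t n x := by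
  obtain ⟨b, hb⟩ := exists_approx a (n + 1 + 1)
  rw [S.smul_eq (hb _ le_rfl), S.smul_eq (hb _ (Nat.le_succ _)), map_smul]

/-- The limit inside the product, over the completion. -/
def AdSys.limHat (S : AdSys J) : Submodule (AdicCompletion J B) (∀ n, S.M n) where
  carrier := S.lim
  zero_mem' := S.lim.zero_mem
  add_mem' := S.lim.add_mem
  smul_mem' a x hx n := by
    show S.t n (a • x (n + 1)) = a • x n
    rw [S.t_smul, hx n]

instance AdSys.moduleL (S : AdSys J) : Module (AdicCompletion J B) S.L :=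
  inferInstanceAs (Module (AdicCompletion J B) ↥S.limHat)

instance AdSys.towerL (S : AdSys J) : IsScalarTower B (AdicCompletion J B) S.L :=
  ⟨fun b a x => Subtype.ext (funext fun n => smul_assoc b a (x.1 n))⟩

/-- Morphisms of systems. -/
structure AdHom (S T : AdSys J) where
  f : ∀ n, S.M n →ₗ[B] T.M n
  comm : ∀ n x, T.t n (f (n + 1) x) = f n (S.t n x)

/-- The map of limits. -/
def AdHom.lim {S T : AdSys J} (φ : AdHom S T) : S.L →ₗ[B] T.L :=
  LinearMap.codRestrict T.lim (LinearMap.pi fun n => (φ.f n).comp (S.proj n)) fun x n => by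
    show T.t n (φ.f (n + 1) (S.proj (n + 1) x)) = φ.f n (S.proj n x)
    rw [φ.comm, S.t_proj]

lemma AdHom.proj_lim {S T : AdSys J} (φ : AdHom S T) (n : ℕ) (x : S.L) :
    T.proj n (φ.lim x) = φ.f n (S.proj n x) := rfl

/-- The map of limits, over the completion. -/
def AdHom.limHat {S T : AdSys J} (φ : AdHom S T) : S.L →ₗ[AdicCompletion J B] T.L where
  toFun := φ.lim
  map_add' := φ.lim.map_add
  map_smul' a x := T.ext fun n => by
    show φ.f n (a • S.proj n x) = a • φ.f n (S.proj n x)
    obtain ⟨b, hb⟩ := exists_approx a (n + 1)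
    rw [S.smul_eq (hb _ le_rfl), T.smul_eq (hb _ le_rfl), map_smul]

variable [IsNoetherianRing B] (S : AdSys J)

lemma AdSys.hat_facts :
    (∀ n, Module.Finite (AdicCompletion J B) (S.M n)) ∧
    (∀ n (J' : Ideal B) (N : Submodule (AdicCompletion J B) (S.M n)),
      ((J'.map (algebraMap B (AdicCompletion J B))) • N).restrictScalars B = J' • N.restrictScalars B) :=
  ⟨fun n => have := S.fin n; Module.Finite.of_restrictScalars_finite B (AdicCompletion J B) (S.M n),
    fun n J' N => Ideal.smul_restrictScalars J' N⟩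

theorem AdSys.main :
    Module.Finite (AdicCompletion J B) S.L ∧ ∀ n, Function.Surjective (S.proj n) ∧
      LinearMap.ker (S.proj n) = J ^ (n + 1) • (⊤ : Submodule B S.L) := by
  let P := AdicCompletion J B
  let JP := J.map (algebraMap B P)
  have : IsAdicComplete JP P :=
    (IsAdicComplete.map_algebraMap_iff _ _).mpr (AdicCompletion.isAdicComplete (IsNoetherian.noetherian J))
  have := S.hat_facts.1
  let f : ∀ n, S.M (n + 1) →ₗ[P] S.M n := fun n =>
    { toFun := S.t n, map_add' := (S.t n).map_add, map_smul' := S.t_smul n }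
  have hpow : ∀ n k, (JP ^ n • (⊤ : Submodule P (S.M k))).restrictScalars B = J ^ n • (⊤ : Submodule B (S.M k)) :=
    fun n k => by
      rw [show JP ^ n = (J ^ n).map (algebraMap B P) from (Ideal.map_pow _ J n).symm, Ideal.smul_restrictScalars,
        Submodule.restrictScalars_top]
  have hk : ∀ n, JP ^ (n + 1) • (⊤ : Submodule P (S.M n)) = ⊥ := fun n =>
    Submodule.restrictScalars_injective B _ _ (by rw [hpow, S.kill, Submodule.restrictScalars_bot])
  have hker : ∀ n, LinearMap.ker (f n) = JP ^ (n + 1) • (⊤ : Submodule P (S.M (n + 1))) := fun n =>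
    Submodule.restrictScalars_injective B _ _ (by rw [hpow, ← S.ker_t]; rfl)
  obtain ⟨hfin, h⟩ := FormalLimLib.main f S.surj hk hker S.limHat (fun x => Iff.rfl)
  refine ⟨hfin, fun n => ⟨(h n).1, ?_⟩⟩
  have h2 := congrArg (Submodule.restrictScalars B) (h n).2
  rw [show JP ^ (n + 1) = (J ^ (n + 1)).map (algebraMap B P) from (Ideal.map_pow _ J (n + 1)).symm] at h2
  erw [Ideal.smul_restrictScalars] at h2
  rw [Submodule.restrictScalars_top] at h2
  exact h2

lemma AdSys.proj_surjective (n : ℕ) : Function.Surjective (S.proj n) := (S.main.2 n).1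

lemma AdSys.ker_proj (n : ℕ) : LinearMap.ker (S.proj n) = J ^ (n + 1) • (⊤ : Submodule B S.L) := (S.main.2 n).2

lemma AdSys.eq_zero_of_forall_mem (x : S.L) (h : ∀ n, x ∈ J ^ (n + 1) • (⊤ : Submodule B S.L)) : x = 0 :=
  S.ext fun n => by rw [map_zero]; exact LinearMap.mem_ker.1 ((S.ker_proj n).ge (h n))

variable {S} {T : AdSys J} (φ : AdHom S T)

/-- Artin–Rees for submodules defined over the completion, with respect to any ideal of `B`. -/
lemma AdSys.artinRees (J' : Ideal B) (N : Submodule (AdicCompletion J B) S.L) :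
    ∃ c, ∀ n (x : S.L), x ∈ N → x ∈ J' ^ (n + c) • (⊤ : Submodule B S.L) → x ∈ J' ^ n • N.restrictScalars B := by
  have := Groth.Agent.S0543.result B J
  have := S.main.1
  obtain ⟨c, hc⟩ := Ideal.exists_pow_inf_eq_pow_smul (J'.map (algebraMap B (AdicCompletion J B))) N
  refine ⟨c, fun n x hx hx' => ?_⟩
  have e : ∀ (m : ℕ) (Q : Submodule (AdicCompletion J B) S.L),
      ((J'.map (algebraMap B (AdicCompletion J B))) ^ m • Q).restrictScalars B = J' ^ m • Q.restrictScalars B :=
    fun m Q => by rw [← Ideal.map_pow, Ideal.smul_restrictScalars]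
  have h1 : x ∈ (J'.map (algebraMap B (AdicCompletion J B))) ^ (n + c) • (⊤ : Submodule (AdicCompletion J B) S.L) := by
    rw [← Submodule.restrictScalars_mem B, e, Submodule.restrictScalars_top]
    exact hx'
  have h2 := (hc (n + c) (Nat.le_add_left c n)).le ⟨h1, hx⟩
  rw [Nat.add_sub_cancel, ← Submodule.restrictScalars_mem B, e] at h2
  refine Submodule.smul_mono le_rfl (fun y hy => ?_) h2
  exact hy.2

/-- Artin–Rees for the kernel. -/
theorem AdHom.exists_ker_bound (J' : Ideal B) :
    ∃ c, ∀ c', c ≤ c' → ∀ n (x : S.L), φ.lim x = 0 → x ∈ J' ^ (n + c') • (⊤ : Submodule B S.L) →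
      x ∈ J' ^ n • LinearMap.ker φ.lim := by
  obtain ⟨c, hc⟩ := S.artinRees J' (LinearMap.ker φ.limHat)
  exact ⟨c, fun c' h n x hx hx' => hc n x hx
    (Submodule.smul_mono_left (Ideal.pow_le_pow_right (by omega)) hx')⟩

/-- Artin–Rees for the range. -/
theorem AdHom.exists_range_bound (J' : Ideal B) :
    ∃ c, ∀ c', c ≤ c' → ∀ n (x : S.L), φ.lim x ∈ J' ^ (n + c') • (⊤ : Submodule B T.L) →
      ∃ y ∈ J' ^ n • (⊤ : Submodule B S.L), φ.lim y = φ.lim x := by
  obtain ⟨c, hc⟩ := T.artinRees J' (LinearMap.range φ.limHat)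
  refine ⟨c, fun c' h n x hx => ?_⟩
  have h1 := hc n (φ.lim x) ⟨x, rfl⟩ (Submodule.smul_mono_left (Ideal.pow_le_pow_right (by omega)) hx)
  have h2 : (LinearMap.range φ.limHat).restrictScalars B = (⊤ : Submodule B S.L).map φ.lim := by
    rw [Submodule.map_top]; rfl
  rw [h2, ← Submodule.map_smul''] at h1
  exact h1

/-- Members of the kernels lift to the kernel of the limit map after passing to lower levels. -/
theorem AdHom.exists_lift_ker :
    ∃ c, ∀ c', c ≤ c' → ∀ n (x : S.M (n + c')), φ.f (n + c') x = 0 →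
      ∃ z : S.L, φ.lim z = 0 ∧ ∃ w : S.L, S.proj (n + c') w = x ∧ S.proj n z = S.proj n w := by
  obtain ⟨c, hc⟩ := φ.exists_range_bound J
  refine ⟨c, fun c' hc' n x hx => ?_⟩
  obtain ⟨w, hw⟩ := S.proj_surjective (n + c') x
  have h1 : φ.lim w ∈ J ^ (n + 1 + c') • (⊤ : Submodule B T.L) := by
    rw [show n + 1 + c' = n + c' + 1 by omega, ← T.ker_proj, LinearMap.mem_ker, φ.proj_lim, hw, hx]
  obtain ⟨y, hy, hy'⟩ := hc c' hc' (n + 1) w h1
  refine ⟨w - y, by rw [map_sub, hy', sub_self], w, hw, ?_⟩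
  rw [map_sub, LinearMap.mem_ker.1 ((S.ker_proj n).ge hy), sub_zero]

/-- A map of systems bijective on the limits is bijective. -/
theorem AdHom.bijective_of_lim (h : Function.Bijective φ.lim) (n : ℕ) : Function.Bijective (φ.f n) := by
  refine ⟨(injective_iff_map_eq_zero _).2 fun x hx => ?_, fun y => ?_⟩
  · obtain ⟨w, rfl⟩ := S.proj_surjective n x
    have h1 : φ.lim w ∈ J ^ (n + 1) • (⊤ : Submodule B T.L) := by
      rw [← T.ker_proj, LinearMap.mem_ker, φ.proj_lim, hx]
    rw [← LinearMap.range_eq_top.2 h.2, LinearMap.range_eq_map, ← Submodule.map_smul''] at h1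
    obtain ⟨v, hv, hvw⟩ := h1
    rw [← h.1 hvw]
    exact LinearMap.mem_ker.1 ((S.ker_proj n).ge hv)
  · obtain ⟨w, rfl⟩ := T.proj_surjective n y
    obtain ⟨v, rfl⟩ := h.2 w
    exact ⟨S.proj n v, rfl⟩

end FormalCohLib

end
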