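import Groth.Agent.FormalCohLib.Sec

/-!
# Basic operations on coherent formal modules
-/

set_option autoImplicit false

noncomputable section

universe u

open CategoryTheory CategoryTheory.Limits AlgebraicGeometry TopologicalSpace Opposite
open GrSysLib (trMap)

namespace FormalCohLib

variable {X : Scheme.{u}}

section Cover

variable {ι : Type*} (U : ι → X.Opens) (hU : ∀ i, IsAffineOpen (U i)) (hcov : ∀ x : X, ∃ i, x ∈ U i)

include hU hcov in
/-- A morphism of quasi-coherent modules bijective on an affine cover is an isomorphism. -/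
lemma isIso_of_bijective_cover {M N : X.Modules} [Coh.IsQCoh M] [Coh.IsQCoh N] (φ : M ⟶ N)
    (h : ∀ i, Function.Bijective (φ.app (U i))) : IsIso φ := by
  have : Coh.IsQCoh (kernel φ) := QCohLib.isQCoh_kernel φ
  have : Mono φ := Preadditive.mono_of_kernel_zero (f := φ) (by
    refine HomCohLib.eq_zero_of_app _ U hU hcov fun i s => ?_
    refine (h i).1 ?_
    show (kernel.ι φ ≫ φ).app (U i) s = φ.app (U i) 0
    rw [kernel.condition, map_zero]
    rfl)
  have : Epi φ := GrSysLib.epi_of_surjective_on_cover φ U hU hcov fun i => (h i).2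
  exact isIso_of_mono_of_epi φ

include hU hcov in
/-- Two morphisms out of a quasi-coherent module agree if they do on an affine cover. -/
lemma hom_ext_cover {M N : X.Modules} [Coh.IsQCoh M] (φ ψ : M ⟶ N)
    (h : ∀ i s, φ.app (U i) s = ψ.app (U i) s) : φ = ψ := by
  rw [← sub_eq_zero]
  refine HomCohLib.eq_zero_of_app _ U hU hcov fun i s => ?_
  show φ.app (U i) s - ψ.app (U i) s = 0
  rw [h, sub_self]

end Cover

variable {A : Type u} [CommRing A] {I : Ideal A} [X.Over (Spec (CommRingCat.of A))]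
  {G H : ℕᵒᵖ ⥤ X.Modules}

/-- Iterated transition maps. -/
abbrev trLE (G : ℕᵒᵖ ⥤ X.Modules) {n m : ℕ} (h : n ≤ m) : G.obj (op m) ⟶ G.obj (op n) := G.map (homOfLE h).op

lemma trLE_self (G : ℕᵒᵖ ⥤ X.Modules) (n : ℕ) : trLE G (le_refl n) = 𝟙 _ := G.map_id _

lemma trLE_comp (G : ℕᵒᵖ ⥤ X.Modules) {n m l : ℕ} (h : n ≤ m) (h' : m ≤ l) :
    trLE G h' ≫ trLE G h = trLE G (h.trans h') :=
  (G.map_comp _ _).symm

lemma trLE_succ (G : ℕᵒᵖ ⥤ X.Modules) (n : ℕ) : trLE G (Nat.le_succ n) = trMap G n := rfl

lemma trLE_natural (α : G ⟶ H) {n m : ℕ} (h : n ≤ m) :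
    trLE G h ≫ α.app (op n) = α.app (op m) ≫ trLE H h :=
  α.naturality (homOfLE h).op

lemma killedBy_iff (J : Ideal A) (M : X.Modules) : Formal.KilledBy J M ↔ Formal.smulFamily J M = 0 := by
  refine ⟨fun h => Sigma.hom_ext _ _ fun a => ?_, fun h a ha => ?_⟩
  · rw [Formal.smulFamily, Sigma.ι_desc, comp_zero]; exact h a.1 a.2
  · have := congrArg (fun t => Sigma.ι (fun _ : J => M) ⟨a, ha⟩ ≫ t) h
    simpa [Formal.smulFamily] using this

/-- Maps into a module killed by `J` kill the multiples. -/
lemma smulFamily_comp_eq_zero {J : Ideal A} {M N : X.Modules} (φ : M ⟶ N) (hN : Formal.KilledBy J N) :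
    Formal.smulFamily J M ≫ φ = 0 := by
  refine Sigma.hom_ext _ _ fun a => ?_
  rw [Formal.smulFamily, Sigma.ι_desc_assoc, comp_zero, FormalProLib.smulMod_natural, hN a.1 a.2, comp_zero]

lemma killedBy_modPow (n : ℕ) (M : X.Modules) : Formal.KilledBy (I ^ n) (Formal.modPow I n M) := fun a ha => by
  rw [← cancel_epi (Formal.modPowπ I n M), comp_zero, ← FormalProLib.smulMod_natural,
    FormalLib.smulMod_modPowπ M I n ha]

lemma killedBy_mono {J J' : Ideal A} (h : J ≤ J') {M : X.Modules} (hM : Formal.KilledBy J' M) :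
    Formal.KilledBy J M := fun a ha => hM a (h ha)

lemma epi_trLE (hG : Formal.IsCohFormal I G) {n m : ℕ} (h : n ≤ m) : Epi (trLE G h) := by
  induction m, h using Nat.le_induction with
  | base => rw [trLE_self]; infer_instance
  | succ m h ih =>
    have := GrSysLib.epi_trMap hG m
    rw [← trLE_comp G h (Nat.le_succ m), trLE_succ]
    exact epi_comp' this ih

/-- A map out of a member into a module killed by a lower power factors through the lower member. -/
lemma exists_factor (hG : Formal.IsCohFormal I G) {n m : ℕ} (h : n ≤ m) {Y : X.Modules}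
    (hY : Formal.KilledBy (I ^ (n + 1)) Y) (g : G.obj (op m) ⟶ Y) :
    ∃ g' : G.obj (op n) ⟶ Y, trLE G h ≫ g' = g := by
  induction m, h using Nat.le_induction with
  | base => exact ⟨g, by rw [trLE_self, Category.id_comp]⟩
  | succ m h ih =>
    have hi := GrSysLib.isIso_desc hG m
    have h0 := smulFamily_comp_eq_zero g (killedBy_mono (Ideal.pow_le_pow_right (show n + 1 ≤ m + 1 by omega)) hY)
    let e := @asIso _ _ _ _ _ hi
    obtain ⟨g', hg'⟩ := ih (e.inv ≫ cokernel.desc _ g h0)
    refine ⟨g', ?_⟩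
    rw [← trLE_comp G h (Nat.le_succ m), trLE_succ, Category.assoc, hg',
      ← cokernel.π_desc _ (trMap G m) (GrSysLib.smulFamily_trMap hG m), Category.assoc]
    show cokernel.π _ ≫ e.hom ≫ e.inv ≫ cokernel.desc _ g h0 = g
    rw [e.hom_inv_id_assoc, cokernel.π_desc]

omit [X.Over (Spec (CommRingCat.of A))] in
lemma noethRing [IsLocallyNoetherian X] {U : X.Opens} (hU : IsAffineOpen U) : IsNoetherianRing Γ(X, U) :=
  IsLocallyNoetherian.component_noetherian ⟨U, hU⟩

variable [AlgebraicGeometry.IsNoetherian X] (hG : Formal.IsCohFormal I G) (hH : Formal.IsCohFormal I H)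
  {U : X.Opens} (hU : IsAffineOpen U)

lemma proj_trLE {n m : ℕ} (h : n ≤ m) (x : (secSys hG hU).L) :
    (trLE G h).app U ((secSys hG hU).proj m x) = (secSys hG hU).proj n x := by
  induction m, h using Nat.le_induction with
  | base => rw [trLE_self]; rfl
  | succ m h ih =>
    rw [← trLE_comp G h (Nat.le_succ m), trLE_succ, ← ih]
    exact congrArg (fun v => (trLE G h).app U v) ((secSys hG hU).t_proj m x)

/-- A morphism of formal modules which is bijective on the limits over an affine cover is an isomorphism. -/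
theorem isIso_of_lim (α : G ⟶ H) {ι : Type*} (V : ι → X.Opens) (hV : ∀ i, IsAffineOpen (V i))
    (hcov : ∀ x : X, ∃ i, x ∈ V i)
    (h : ∀ i, Function.Bijective (secHom hG hH (hV i) α).lim) : IsIso α := by
  have : ∀ n : ℕᵒᵖ, IsIso (α.app n) := fun ⟨n⟩ => by
    have := (hG.1 n).1
    have := (hH.1 n).1
    refine isIso_of_bijective_cover V hV hcov _ fun i => ?_
    have := noethRing (hV i)
    exact AdHom.bijective_of_lim _ (h i) n
  exact NatIso.isIso_of_isIso_app α

/-- A morphism of formal modules which vanishes on the limits over an affine cover vanishes. -/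
theorem eq_zero_of_lim (α : G ⟶ H) {ι : Type*} (V : ι → X.Opens) (hV : ∀ i, IsAffineOpen (V i))
    (hcov : ∀ x : X, ∃ i, x ∈ V i)
    (h : ∀ i x, (secHom hG hH (hV i) α).lim x = 0) : α = 0 := by
  ext ⟨n⟩ : 2
  have := (hG.1 n).1
  refine HomCohLib.eq_zero_of_app _ V hV hcov fun i s => ?_
  have := noethRing (hV i)
  obtain ⟨w, rfl⟩ := (secSys hG (hV i)).proj_surjective n s
  have := congrArg ((secSys hH (hV i)).proj n) (h i w)
  rw [map_zero] at this
  exact this

end FormalCohLib

end
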