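import Groth.Agent.FormalCohLib.Completion
import Groth.Agent.FibVanLib.Stalk
import Groth.Agent.RpushLib.Finite
import Groth.Agent.KFlatLib.QCohTensor
import Groth.Agent.FormalProLib.Proper
import Groth.Agent.FormalProLib.Pro
import Groth.Agent.HomCohLib.FullyFaithful

/-!
# Formal functions over an affine open of the base
-/

set_option autoImplicit false

noncomputable section

universe u

open CategoryTheory CategoryTheory.Limits AlgebraicGeometry TopologicalSpace Opposite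
open FormalLib (rhoA)

namespace FormalCohLib

variable {A : Type u} [CommRing A] (I : Ideal A) {X Y : Scheme.{u}} [X.Over (Spec (CommRingCat.of A))]
  [Y.Over (Spec (CommRingCat.of A))] (f : X ⟶ Y)
  (hf : f ≫ (Y ↘ Spec (CommRingCat.of A)) = X ↘ Spec (CommRingCat.of A))

include hf in
lemma appLE_rhoA {V : Y.Opens} {U : X.Opens} (h : U ≤ f ⁻¹ᵁ V) (a : A) :
    f.appLE V U h (rhoA A V a) = rhoA A U a := by
  have e : Coh.toGlobal (X ↘ Spec (CommRingCat.of A)) a = f.appTop (Coh.toGlobal (Y ↘ Spec (CommRingCat.of A)) a) := by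
    show (X ↘ Spec (CommRingCat.of A)).appTop _ = _
    rw [← hf, Scheme.Hom.comp_appTop]
    rfl
  show (Y.presheaf.map (homOfLE (le_top : V ≤ ⊤)).op ≫ f.appLE V U h) (Coh.toGlobal (Y ↘ Spec (CommRingCat.of A)) a) =
    X.presheaf.map (homOfLE (le_top : U ≤ ⊤)).op (Coh.toGlobal (X ↘ Spec (CommRingCat.of A)) a)
  rw [e, Scheme.Hom.map_appLE]
  rfl

omit [X.Over (Spec (CommRingCat.of A))] [Y.Over (Spec (CommRingCat.of A))] in
/-- Scalars on the sections of a restriction to an open. -/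
lemma smul_restr {U : X.Opens} (M : X.Modules) (W : U.toScheme.Opens) (r : Γ(X, U.ι ''ᵁ W))
    (x : Γ((Scheme.Modules.restrictFunctor U.ι).obj M, W)) :
    ((show Γ(U.toScheme, W) from r) • x : Γ((Scheme.Modules.restrictFunctor U.ι).obj M, W)) =
      (show Γ((Scheme.Modules.restrictFunctor U.ι).obj M, W) from
        (r • (show Γ(M, U.ι ''ᵁ W) from x) : Γ(M, U.ι ''ᵁ W))) := by
  refine (Scheme.Modules.smul_restrictAppIso_hom_apply U.ι M W _ x).trans ?_
  rw [Scheme.Opens.ι_appIso]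
  rfl

omit [Y.Over (Spec (CommRingCat.of A))] in
/-- An additive map killing the generators of the multiples kills them all. -/
lemma eq_zero_of_mem_map_smul {M : X.Modules} {U : X.Opens} {N : Type*} [AddCommGroup N] (ψ : Γ(M, U) →+ N)
    {J : Ideal A} (h : ∀ a ∈ J, ∀ m : Γ(M, U), ψ (rhoA A U a • m) = 0) {x : Γ(M, U)}
    (hx : x ∈ J.map (rhoA A U) • (⊤ : Submodule Γ(X, U) Γ(M, U))) : ψ x = 0 := by
  suffices ∀ r ∈ J.map (rhoA A U), ∀ m : Γ(M, U), ψ (r • m) = 0 from
    Submodule.smul_induction_on hx (fun r hr m _ => this r hr m) fun a b ha hb => by rw [map_add, ha, hb, add_zero]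
  intro r hr
  induction hr using Submodule.span_induction with
  | mem r hr => obtain ⟨a, ha, rfl⟩ := hr; exact h a ha
  | zero => intro m; rw [zero_smul, map_zero]
  | add r r' _ _ hr hr' => intro m; rw [add_smul, map_add, hr, hr', add_zero]
  | smul r r' _ hr => intro m; rw [smul_eq_mul, mul_comm, mul_smul]; exact hr _

variable [AlgebraicGeometry.IsNoetherian X] [AlgebraicGeometry.IsNoetherian Y] [IsProper f]

variable {F : X.Modules} (hF : Coh.IsCoh F)

include hf hF in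
/-- **Formal functions over an affine open**, in the form of two bounds. -/
theorem exists_formal_bounds {V : Y.Opens} (hV : IsAffineOpen V) (n : ℕ) :
    ∃ m, n ≤ m ∧ ∀ k, m ≤ k → ∀ (h : n + 1 ≤ k + 1),
      (∀ s : Γ(Formal.modPow I (k + 1) F, f ⁻¹ᵁ V), ∃ x : Γ(F, f ⁻¹ᵁ V),
        (Formal.modPowπ I (n + 1) F).app (f ⁻¹ᵁ V) x = (Formal2.modPowLE I h F).app (f ⁻¹ᵁ V) s) ∧
      ∀ x : Γ(F, f ⁻¹ᵁ V), (Formal.modPowπ I (k + 1) F).app (f ⁻¹ᵁ V) x = 0 →
        (show Γ((Scheme.Modules.pushforward f).obj F, V) from x) ∈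
          idU I V ^ (n + 1) • (⊤ : Submodule Γ(Y, V) Γ((Scheme.Modules.pushforward f).obj F, V)) := by
  let B : Type u := Γ(Y, V)
  let X' : Scheme.{u} := (f ⁻¹ᵁ V).toScheme
  let j : X' ⟶ X := (f ⁻¹ᵁ V).ι
  letI : X'.Over (Spec (CommRingCat.of B)) := ⟨FibVanLib.overAff f hV⟩
  have : IsNoetherianRing B := noethRing hV
  have : IsProper (X' ↘ Spec (CommRingCat.of B)) := inferInstanceAs (IsProper ((f ∣_ V) ≫ hV.isoSpec.hom))
  have : IsLocallyNoetherian X' := LocallyOfFiniteType.isLocallyNoetherian (X' ↘ Spec (CommRingCat.of B))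
  have : CompactSpace X' := QuasiCompact.compactSpace_of_compactSpace (X' ↘ Spec (CommRingCat.of B))
  have : AlgebraicGeometry.IsNoetherian X' := {}
  let R := Scheme.Modules.restrictFunctor j
  let F' : X'.Modules := R.obj F
  have hq : ∀ M : X.Modules, Coh.IsQCoh M → Coh.IsQCoh (R.obj M) := fun M _ =>
    have := KFlatLib.isQCoh_pullback j M
    QCohLib.isQCoh_of_iso ((Scheme.Modules.restrictFunctorIsoPullback j).app M).symm
  have hF' : Coh.IsCoh F' := ⟨hq F hF.1, RpushLib.isFT_restrict hF.2 _⟩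
  let J : Ideal B := idU I V
  -- the action of `B`
  have hrho : ∀ (W : X'.Opens) (h : j ''ᵁ W ≤ f ⁻¹ᵁ V) (b : B),
      rhoA B W b = f.appLE V (j ''ᵁ W) h b := fun W h b => by
    show X'.presheaf.map (homOfLE (le_top : W ≤ ⊤)).op (Coh.toGlobal (FibVanLib.overAff f hV) b) = _
    rw [FibVanLib.toGlobal_overAff, Scheme.Opens.topIso_inv]
    show (f.app V ≫ X.presheaf.map _ ≫ X.presheaf.map _) b = _
    rw [← Functor.map_comp]
    rfl
  have hle : ∀ W : X'.Opens, j ''ᵁ W ≤ f ⁻¹ᵁ V := fun W => by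
    rintro _ ⟨z, -, rfl⟩
    exact z.2
  have hgen : ∀ (a : A), Formal.smulMod B F' (rhoA A V a) = R.map (Formal.smulMod A F a) := fun a => by
    refine Scheme.Modules.hom_ext _ _ fun W => ConcreteCategory.hom_ext _ _ fun x => ?_
    show rhoA B W (rhoA A V a) • x = rhoA A (j ''ᵁ W) a • (show Γ(F, j ''ᵁ W) from x)
    rw [hrho W (hle W), appLE_rhoA f hf]
    exact smul_restr F W (rhoA A (j ''ᵁ W) a) x
  let T : ℕ → X'.Modules := fun k => R.obj (Formal.modPow I k F)
  let q : ∀ k, F' ⟶ T k := fun k => R.map (Formal.modPowπ I k F)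
  have hq0 : ∀ k, Formal.smulFamily (J ^ k) F' ≫ q k = 0 := fun k => by
    refine FormalProLib.smulFamily_comp (q k) fun b hb => ?_
    rw [idU_pow] at hb
    refine (Ideal.map_le_iff_le_comap.2 fun a ha => ?_) hb
    show Formal.smulMod B F' (rhoA A V a) ≫ q k = 0
    rw [hgen, ← Functor.map_comp, FormalLib.smulMod_modPowπ F I k ha]
    refine Scheme.Modules.hom_ext _ _ fun W => ConcreteCategory.hom_ext _ _ fun x => ?_
    rfl
  let e : ∀ k, Formal.modPow J k F' ⟶ T k := fun k => cokernel.desc _ (q k) (hq0 k)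
  have he : ∀ k, Formal.modPowπ J k F' ≫ e k = q k := fun k => cokernel.π_desc _ _ _
  have := hF.1
  have := hF'.1
  have hei : ∀ k, IsIso (e k) := fun k => by
    have := isQCoh_modPow I F k
    have := hq _ this
    have : Coh.IsQCoh (Formal.modPow J k F') := isQCoh_modPow J F' k
    refine isIso_of_bijective_cover (fun W : X'.affineOpens => W.1) (fun W => W.2)
      (fun p => by obtain ⟨W, hW, hp⟩ := QCohLib.exists_affine_nhd p; exact ⟨⟨W, hW⟩, hp⟩) _ fun W => ?_
    obtain ⟨W, hW⟩ := W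
    have hW' : IsAffineOpen (j ''ᵁ W) := hW.image_of_isOpenImmersion j
    refine ⟨(injective_iff_map_eq_zero _).2 fun y hy => ?_, fun y => ?_⟩
    · obtain ⟨x, rfl⟩ := app_modPowπ_surjective J F' k hW y
      have h1 : (Formal.modPowπ I k F).app (j ''ᵁ W) x = 0 :=
        (congrArg (fun t : F' ⟶ T k => t.app W x) (he k)).symm.trans hy
      have h2 := (app_modPowπ_eq_zero I F k hW' x).1 h1
      rw [idU_pow] at h2
      refine eq_zero_of_mem_map_smul (M := F) (U := j ''ᵁ W)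
        ((Formal.modPowπ J k F').app W).hom (fun a ha m => ?_) h2
      have ha' : rhoA A V a ∈ J ^ k := by
        show rhoA A V a ∈ idU I V ^ k
        rw [idU_pow]
        exact Ideal.mem_map_of_mem _ ha
      have e1 : Formal.smulMod B F' (rhoA A V a) ≫ Formal.modPowπ J k F' = 0 := FormalLib.smulMod_modPowπ F' J k ha'
      rw [hgen] at e1
      exact congrArg (fun t : F' ⟶ Formal.modPow J k F' => t.app W m) e1
    · obtain ⟨x, hx⟩ := app_modPowπ_surjective I F k hW' y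
      exact ⟨(Formal.modPowπ J k F').app W x, (congrArg (fun t : F' ⟶ T k => t.app W x) (he k)).trans hx⟩
  have hfin : ∀ p, Module.Finite B (Coh.HH X' F' p) := fun p =>
    AtlasCoh.finiteCoh_of_isProper (X' ↘ Spec (CommRingCat.of B)) F' hF' p
  obtain ⟨m₁, hm₁, h₁⟩ := FormalProLib.exists_ml_bound hF' hfin J 0 (n + 1)
  obtain ⟨m₂, hm₂, h₂⟩ := FormalProLib.exists_ker_bound hF' hfin J 0 (n + 1)
  refine ⟨max m₁ m₂, le_max_of_le_left (Nat.le_of_succ_le hm₁), fun k hk h => ?_⟩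
  suffices ∀ (U : X.Opens), U = j ''ᵁ ⊤ → ∀ hU : U ≤ f ⁻¹ᵁ V,
      (∀ s : Γ(Formal.modPow I (k + 1) F, U), ∃ x : Γ(F, U),
        (Formal.modPowπ I (n + 1) F).app U x = (Formal2.modPowLE I h F).app U s) ∧
      ∀ x : Γ(F, U), (Formal.modPowπ I (k + 1) F).app U x = 0 →
        x ∈ (idU I V ^ (n + 1)).map (f.appLE V U hU).hom • (⊤ : Submodule Γ(X, U) Γ(F, U)) from by
    obtain ⟨h3, h4⟩ := this (f ⁻¹ᵁ V) (f ⁻¹ᵁ V).ι_image_top.symm le_rfl
    refine ⟨h3, fun x hx => ?_⟩
    have e : (f.appLE V (f ⁻¹ᵁ V) le_rfl).hom = (f.app V).hom := by rw [Scheme.Hom.app_eq_appLE]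
    let S : Submodule Γ(Y, V) Γ((Scheme.Modules.pushforward f).obj F, V) := idU I V ^ (n + 1) • ⊤
    let toP : Γ(F, f ⁻¹ᵁ V) → Γ((Scheme.Modules.pushforward f).obj F, V) := fun y => y
    have h5 : ∀ r ∈ (idU I V ^ (n + 1)).map (f.app V).hom, ∀ y : Γ(F, f ⁻¹ᵁ V), toP (r • y) ∈ S := by
      intro r hr
      induction hr using Submodule.span_induction with
      | mem r hr =>
        intro y
        obtain ⟨b, hb, rfl⟩ := hr
        exact Submodule.smul_mem_smul hb (trivial : toP y ∈ (⊤ : Submodule Γ(Y, V) Γ((Scheme.Modules.pushforward f).obj F, V)))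
      | zero => intro y; rw [zero_smul]; exact zero_mem S
      | add r r' _ _ hr hr' => intro y; rw [add_smul]; exact add_mem (hr y) (hr' y)
      | smul r r' _ hr =>
        intro y
        rw [smul_eq_mul, mul_comm, mul_smul]
        exact hr (r • y)
    have h6 := h4 x hx
    rw [e] at h6
    exact Submodule.smul_induction_on (p := fun y : Γ(F, f ⁻¹ᵁ V) => toP y ∈ S) h6 (fun r hr y _ => h5 r hr y)
      fun a b ha hb => add_mem ha hb
  rintro U rfl hU
  refine ⟨fun s => ?_, fun x hx => ?_⟩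
  · obtain ⟨y, hy⟩ : ∃ y, (e (k + 1)).app ⊤ y = s := by
      have := hei (k + 1)
      exact ⟨(inv (e (k + 1))).app ⊤ s,
        congrArg (fun t : T (k + 1) ⟶ T (k + 1) => t.app ⊤ s) (IsIso.inv_hom_id (e (k + 1)))⟩
    have := hei (n + 1)
    let t : Formal.modPow J (k + 1) F' ⟶ Formal.modPow J (n + 1) F' :=
      e (k + 1) ≫ R.map (Formal2.modPowLE I h F) ≫ inv (e (n + 1))
    have ht : Formal.modPowπ J (k + 1) F' ≫ t = Formal.modPowπ J (n + 1) F' := by
      rw [← Category.assoc, he, ← Category.assoc, ← Functor.map_comp, Formal2.modPowπ_modPowLE,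
        IsIso.comp_inv_eq, he]
    obtain ⟨x, hx⟩ := h₁ (k + 1) t (by have := le_of_max_le_left hk; omega) ht ((HomCohLib.hh0 _).symm y)
    refine ⟨HomCohLib.hh0 F' x, ?_⟩
    have h5 : (Formal.modPowπ J (n + 1) F').app ⊤ (HomCohLib.hh0 F' x) = t.app ⊤ y :=
      (HomCohLib.hh0_map (Formal.modPowπ J (n + 1) F') x).symm.trans ((congrArg (HomCohLib.hh0 _) hx).trans
        ((HomCohLib.hh0_map t _).trans (congrArg (t.app ⊤) ((HomCohLib.hh0 _).apply_symm_apply y))))
    have h6 := congrArg ((e (n + 1)).app ⊤) h5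
    refine (congrArg (fun t : F' ⟶ T (n + 1) => t.app ⊤ (HomCohLib.hh0 F' x)) (he (n + 1))).symm.trans (h6.trans ?_)
    refine (congrArg (fun g : Formal.modPow J (k + 1) F' ⟶ T (n + 1) => g.app ⊤ y)
      (show t ≫ e (n + 1) = e (k + 1) ≫ R.map (Formal2.modPowLE I h F) by
        rw [Category.assoc, Category.assoc, IsIso.inv_hom_id, Category.comp_id])).trans ?_
    show (Formal2.modPowLE I h F).app (j ''ᵁ ⊤) ((e (k + 1)).app ⊤ y) = _
    rw [hy]
  · have h7 : (Formal.modPowπ J (k + 1) F').app ⊤ x = 0 := by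
      have := hei (k + 1)
      refine QCohLib.app_injective_of_mono (e (k + 1)) ⊤ ?_
      rw [map_zero]
      exact (congrArg (fun t : F' ⟶ T (k + 1) => t.app ⊤ x) (he (k + 1))).trans hx
    have h8 := h₂ (k + 1) (by have := le_of_max_le_right hk; omega) ((HomCohLib.hh0 F').symm x) (by
      apply (HomCohLib.hh0 _).injective
      exact (HomCohLib.hh0_map (Formal.modPowπ J (k + 1) F') _).trans
        ((congrArg ((Formal.modPowπ J (k + 1) F').app ⊤) ((HomCohLib.hh0 F').apply_symm_apply x)).trans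
          (h7.trans (map_zero _).symm)))
    suffices ∀ z ∈ (J ^ (n + 1) • ⊤ : Submodule B (Coh.HH X' F' 0)),
        (HomCohLib.hh0 F' z : Γ(F, j ''ᵁ ⊤)) ∈
          (idU I V ^ (n + 1)).map (f.appLE V (j ''ᵁ ⊤) hU).hom • (⊤ : Submodule Γ(X, j ''ᵁ ⊤) Γ(F, j ''ᵁ ⊤)) from by
      have := this _ h8
      rwa [AddEquiv.apply_symm_apply] at this
    intro z hz
    refine Submodule.smul_induction_on (p := fun z => (HomCohLib.hh0 F' z : Γ(F, j ''ᵁ ⊤)) ∈
      (idU I V ^ (n + 1)).map (f.appLE V (j ''ᵁ ⊤) hU).hom • (⊤ : Submodule Γ(X, j ''ᵁ ⊤) Γ(F, j ''ᵁ ⊤)))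
      hz (fun b hb w _ => ?_) fun a b ha hb => ?_
    · let w' : Γ(F, j ''ᵁ ⊤) := HomCohLib.hh0 F' w
      have e1 : (show Γ(F, j ''ᵁ ⊤) from HomCohLib.hh0 F' (b • w)) = f.appLE V (j ''ᵁ ⊤) hU b • w' := by
        refine ((congrArg (HomCohLib.hh0 F') (FormalProLib.smul_eq_hMap F' b 0 w)).trans
          (HomCohLib.hh0_map (Formal.smulMod B F' b) w)).trans ?_
        show rhoA B (⊤ : X'.Opens) b • HomCohLib.hh0 F' w = _
        rw [hrho ⊤ hU]
        exact smul_restr F (⊤ : X'.Opens) (f.appLE V (j ''ᵁ ⊤) hU b) (HomCohLib.hh0 F' w)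
      show (show Γ(F, j ''ᵁ ⊤) from HomCohLib.hh0 F' (b • w)) ∈ _
      rw [e1]
      exact Submodule.smul_mem_smul (Ideal.mem_map_of_mem _ hb)
        (trivial : w' ∈ (⊤ : Submodule Γ(X, j ''ᵁ ⊤) Γ(F, j ''ᵁ ⊤)))
    · rw [map_add]
      exact add_mem ha hb

end FormalCohLib

end
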