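import Groth.Agent.FormalCohLib.Tricky
import Groth.Agent.HomCohLib.FullyFaithful
import Groth.Agent.HilbPolyLib.Twist
import Groth.Agent.MiscFlat6.TensorGG
import Groth.Agent.MiscFlat6.InvDual
import Groth.Agent.VBResLib.GGen
import Groth.Agent.FibVanLib.GlobGen
import Groth.Agent.S0848

/-!
# Coherent formal modules on a proper scheme with an ample module
-/

set_option autoImplicit false

noncomputable section

universe u

open CategoryTheory CategoryTheory.Limits AlgebraicGeometry TopologicalSpace Opposite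
open MonoidalCategory
open GrSysLib (trMap)

namespace FormalCohLib

variable {X : Scheme.{u}}

/-- Twisting by a module. -/
abbrev tw (P : X.Modules) : X.Modules ⥤ X.Modules := CurvLib.tensorLeft' P

/-- Twisting by an inverse undoes twisting. -/
def twInvIso {P D : X.Modules} (e : CohB1.tensorMod D P ≅ Coh.structureModule X) :
    tw P ⋙ tw D ≅ 𝟭 X.Modules :=
  NatIso.ofComponents (fun M => ((ModSiteLib.assocBi X.sheaf).app D |>.app P |>.app M).symm ≪≫
      (((DCoh.tensorBi (X := X)).mapIso e).app M) ≪≫ KFlatLib.tensUnitIso M) fun {M N} φ => by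
    have h1 := ((ModSiteLib.assocBi X.sheaf).app D |>.app P).inv.naturality φ
    have h2 := ((DCoh.tensorBi (X := X)).mapIso e).hom.naturality φ
    have h3 : ((DCoh.tensorBi (X := X)).obj (Coh.structureModule X)).map φ ≫ (KFlatLib.tensUnitIso N).hom =
        (KFlatLib.tensUnitIso M).hom ≫ φ := by
      show DCoh.shP.map (_ ◁ DCoh.toP.map φ) ≫ DCoh.shP.map (λ_ _).hom ≫ _ =
        (DCoh.shP.map (λ_ _).hom ≫ _) ≫ φ
      rw [← Category.assoc, ← Functor.map_comp]
      erw [MonoidalCategory.leftUnitor_naturality (DCoh.toP.map φ), Functor.map_comp, Category.assoc, Category.assoc]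
      exact congrArg (DCoh.shP.map (λ_ (DCoh.toP.obj M)).hom ≫ ·)
        (((PresheafOfModules.sheafificationAdjunction.{u} (R := X.ringCatSheaf)
          (𝟙 X.ringCatSheaf.obj)).counit).naturality φ)
    dsimp only [Iso.trans_hom, Iso.symm_hom, Iso.app_hom, Iso.app_inv, Functor.comp_map, Functor.id_map]
    refine (Category.assoc _ _ _).symm.trans ?_
    refine (congrArg (· ≫ _) h1).trans ?_
    refine (Category.assoc _ _ _).trans ?_
    refine Eq.trans ?_ (Category.assoc _ _ _).symm
    refine congrArg (_ ≫ ·) ?_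
    refine (Category.assoc _ _ _).symm.trans ?_
    refine (congrArg (· ≫ _) h2).trans ?_
    refine (Category.assoc _ _ _).trans ?_
    refine Eq.trans ?_ (Category.assoc _ _ _).symm
    exact congrArg (_ ≫ ·) h3

variable {A : Type u} [CommRing A] {I : Ideal A} [X.Over (Spec (CommRingCat.of A))]

section Noeth

variable [AlgebraicGeometry.IsNoetherian X] {G : ℕᵒᵖ ⥤ X.Modules}

/-- **Nakayama:** a map to a formal module which is surjective at level zero is surjective at every level. -/
theorem app_surjective_of_zero {P : ℕᵒᵖ ⥤ X.Modules} (hP : Formal.IsCohFormal I P) (hG : Formal.IsCohFormal I G)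
    (α : P ⟶ G) {U : X.Opens} (hU : IsAffineOpen U) (h0 : Function.Surjective ((α.app (op 0)).app U)) (n : ℕ) :
    Function.Surjective ((α.app (op n)).app U) := by
  have := noethRing hU
  let f := (secHom hP hG hU α).f n
  let R := LinearMap.range f
  have hJ : ∀ x, ∃ r ∈ R, x - r ∈ idU I U • (⊤ : Submodule Γ(X, U) ((secSys hG hU).M n)) := fun x => by
    obtain ⟨w, rfl⟩ := (secSys hG hU).proj_surjective n x
    obtain ⟨p, hp⟩ := h0 ((secSys hG hU).proj 0 w)
    obtain ⟨v, rfl⟩ := (secSys hP hU).proj_surjective 0 p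
    refine ⟨f ((secSys hP hU).proj n v), LinearMap.mem_range_self _ _, ?_⟩
    have h1 : w - (secHom hP hG hU α).lim v ∈ idU I U ^ (0 + 1) • (⊤ : Submodule Γ(X, U) (secSys hG hU).L) := by
      rw [← AdSys.ker_proj, LinearMap.mem_ker, map_sub, sub_eq_zero]
      exact hp.symm
    have h2 := Submodule.mem_map_of_mem (f := (secSys hG hU).proj n) h1
    rw [Submodule.map_smul'', pow_one, map_sub] at h2
    exact Submodule.smul_mono le_rfl le_top h2
  have hpow : ∀ k x, ∃ r ∈ R, x - r ∈ idU I U ^ k • (⊤ : Submodule Γ(X, U) ((secSys hG hU).M n)) := by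
    intro k
    induction k with
    | zero => exact fun x => ⟨0, zero_mem _, by rw [pow_zero, Ideal.one_eq_top, Submodule.top_smul]; trivial⟩
    | succ k ih =>
      intro x
      obtain ⟨r, hr, hx⟩ := ih x
      have h3 : ∀ y ∈ idU I U ^ k • (⊤ : Submodule Γ(X, U) ((secSys hG hU).M n)),
          ∃ r ∈ R, y - r ∈ idU I U ^ (k + 1) • (⊤ : Submodule Γ(X, U) ((secSys hG hU).M n)) := by
        intro y hy
        refine Submodule.smul_induction_on hy (fun a ha m _ => ?_) ?_
        · obtain ⟨r, hr, hm⟩ := hJ m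
          refine ⟨a • r, Submodule.smul_mem _ _ hr, ?_⟩
          rw [← smul_sub, pow_succ, Submodule.mul_smul]
          exact Submodule.smul_mem_smul ha hm
        · rintro y z ⟨r, hr, hy⟩ ⟨s, hs, hz⟩
          exact ⟨r + s, add_mem hr hs, by rw [add_sub_add_comm]; exact add_mem hy hz⟩
      obtain ⟨s, hs, h4⟩ := h3 _ hx
      exact ⟨r + s, add_mem hr hs, by rwa [← sub_sub]⟩
  intro x
  obtain ⟨r, ⟨p, rfl⟩, hx⟩ := hpow (n + 1) x
  refine ⟨p, ?_⟩
  rw [(secSys hG hU).kill n, Submodule.mem_bot, sub_eq_zero] at hx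
  exact hx.symm

end Noeth

variable [IsNoetherianRing A] [IsProper (X ↘ Spec (CommRingCat.of A))]
  {L : X.Modules} {G : ℕᵒᵖ ⥤ X.Modules}

/-- **Formal modules are quotients of completions.** -/
theorem exists_epi_completion [AlgebraicGeometry.IsNoetherian X] (hL : CohB1.IsAmple L)
    (hG : Formal.IsCohFormal I G) :
    ∃ (P : X.Modules) (_ : Coh.IsCoh P) (α : Formal.completion I P ⟶ G),
      ∀ (U : X.Opens), IsAffineOpen U → ∀ n, Function.Surjective ((α.app (op n)).app U) := by
  have : CompactSpace X := hL.2.1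
  obtain ⟨d₁, hd₁⟩ := MiscFlat6.eventually_gg_of_isAmple hL (G.obj (op 0)) (hG.1 0)
  obtain ⟨d₂, hd₂⟩ := Groth.Agent.S0848.result A I X L hL G hG
  let d := max d₁ d₂
  let P := CohB1.tensorPow L d
  have hPi : PicF.IsInvertible P := AmpleThLib.tensorPow_isInvertible hL.1 d
  obtain ⟨e⟩ := MiscFlat6.nonempty_dualIso hPi
  have hDi : PicF.IsInvertible (MiscFlat6.dual P) := MiscFlat6.dual_isInvertible hPi
  let D := MiscFlat6.dual P
  let η := twInvIso ((HilbPolyLib.swapIso D P) ≪≫ e)
  -- sections lift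
  have hker : ∀ n, Function.Surjective (((tw P).map (trMap G n)).app ⊤) := fun n s => by
    have := GrSysLib.epi_trMap hG n
    have hS : (ShortComplex.mk _ _ (kernel.condition (trMap G n))).ShortExact :=
      { exact := ShortComplex.exact_of_f_is_kernel _ (kernelIsKernel _) }
    have hSA := QCohLib.toAbF_shortExact (HilbPolyLib.shortExact_tensor hPi hS)
    have h1 : Subsingleton (QCohLib.HU ((QCohLib.toAbF _).obj (CohB1.tensorMod P (kernel (trMap G n)))) 1 ⊤) :=
      (QCohLib.subsingleton_H_iff _ _).1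
        (SerreVanLib.subsingleton_HH_of_iso (HilbPolyLib.swapIso _ _) 1 (hd₂ n d (le_max_right _ _)))
    exact @QCohLib.exists_lift_of_subsingleton _ _ hSA ⊤ h1 s
  -- generators
  have hgg : Curv2.IsGloballyGenerated ((tw P).obj (G.obj (op 0))) :=
    MiscFlat6.isGloballyGenerated_of_iso (HilbPolyLib.swapIso _ _) (hd₁ d (le_max_left _ _))
  have hcoh : Coh.IsCoh ((tw P).obj (G.obj (op 0))) := HilbPolyLib.isCoh_tensor hPi (hG.1 0)
  obtain ⟨m, q, hq⟩ := VBResLib.exists_epi_free_of_gg hcoh hgg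
  let ι₀ : Fin m → (Coh.structureModule X ⟶ FlatMod.freeMod X m) := fun i => Sigma.ι (fun _ : Fin m => Coh.structureModule X) i
  let sec : ∀ n, Fin m → Γ((tw P).obj (G.obj (op n)), ⊤) := fun n => Nat.rec
    (fun i => (ι₀ i ≫ q).app ⊤ (show Γ(Coh.structureModule X, ⊤) from (1 : Γ(X, ⊤))))
    (fun n s i => (hker n (s i)).choose) n
  have hsec : ∀ n i, ((tw P).map (trMap G n)).app ⊤ (sec (n + 1) i) = sec n i := fun n i =>
    (hker n (sec n i)).choose_spec
  let f : ∀ n, FlatMod.freeMod X m ⟶ (tw P).obj (G.obj (op n)) := fun n =>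
    Sigma.desc fun i => QCohLib.unitHom _ (sec n i)
  have hf : ∀ n, f (n + 1) ≫ (tw P).map (trMap G n) = f n := fun n => Sigma.hom_ext _ _ fun i => by
    rw [Sigma.ι_desc_assoc, Sigma.ι_desc, QCohLib.app_unitHom_app, hsec]
  have hf0 : f 0 = q := Sigma.hom_ext _ _ fun i => by
    rw [Sigma.ι_desc]
    show QCohLib.unitHom _ ((ι₀ i ≫ q).app ⊤ _) = ι₀ i ≫ q
    refine (Scheme.Modules.hom_ext _ _ fun V => ConcreteCategory.hom_ext _ _ fun c => ?_).symm
    exact (FibVanLib.app_eq_smul (ι₀ i ≫ q) V c).trans (QCohLib.unitHom_app _ _ V c).symm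
  let g : ∀ n, (tw D).obj (FlatMod.freeMod X m) ⟶ G.obj (op n) := fun n => (tw D).map (f n) ≫ η.hom.app (G.obj (op n))
  have hg : ∀ n, g (n + 1) ≫ trMap G n = g n := fun n => by
    show (_ ≫ _) ≫ _ = (tw D).map (f n) ≫ _
    rw [← hf n, Functor.map_comp, Category.assoc, Category.assoc]
    exact congrArg ((tw D).map (f (n + 1)) ≫ ·) (η.hom.naturality (trMap G n)).symm
  have hP0 : Coh.IsCoh ((tw D).obj (FlatMod.freeMod X m)) :=
    HilbPolyLib.isCoh_tensor hDi (CurvLib.isCoh_of_locFree (VBResLib.rank_freeMod (X := X) m))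
  refine ⟨_, hP0, complDesc hG g hg, fun U hU => app_surjective_of_zero (isCohFormal_completion hP0) hG _ hU ?_⟩
  have := hP0.1
  have := (hG.1 0).1
  have hepi : Epi (g 0) := by
    have : Epi ((tw D).map (f 0)) := by
      rw [hf0]
      exact (HilbPolyLib.shortExact_tensor hDi
        ({ exact := ShortComplex.exact_of_f_is_kernel _ (kernelIsKernel q) } :
          (ShortComplex.mk _ _ (kernel.condition q)).ShortExact)).epi_g
    exact epi_comp _ _
  intro y
  obtain ⟨z, hz⟩ := app_surjective_of_epi (g 0) hU y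
  exact ⟨(Formal.modPowπ I (0 + 1) _).app U z,
    (congrArg (fun t : (tw D).obj (FlatMod.freeMod X m) ⟶ G.obj (op 0) => t.app U z) (π_complDesc hG g hg 0)).trans hz⟩

/-- **Grothendieck existence in the presence of an ample module.** -/
theorem exists_algebraisation_ample [IsAdicComplete I A] (hL : CohB1.IsAmple L) (hG : Formal.IsCohFormal I G) :
    ∃ M : X.Modules, Coh.IsCoh M ∧ Nonempty (Formal.completion I M ≅ G) := by
  have : IsLocallyNoetherian X := LocallyOfFiniteType.isLocallyNoetherian (X ↘ Spec (CommRingCat.of A))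
  have : CompactSpace X := QuasiCompact.compactSpace_of_compactSpace (X ↘ Spec (CommRingCat.of A))
  have : AlgebraicGeometry.IsNoetherian X := {}
  obtain ⟨P0, hP0, α, hα⟩ := exists_epi_completion hL hG
  have hP0c := isCohFormal_completion (I := I) hP0
  obtain ⟨K, hK, j, hj, -, hKlim⟩ := exists_kernel hP0c hG α
  obtain ⟨P1, hP1, α1, hα1⟩ := exists_epi_completion hL hK
  have hP1c := isCohFormal_completion (I := I) hP1
  have hs : ClSub.IsProperOver (X ↘ Spec (CommRingCat.of A)) (CohB1.support P1 ∩ CohB1.support P0) :=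
    ⟨(QCohLib.isClosed_support _ hP1.2).inter (QCohLib.isClosed_support _ hP0.2), inferInstance⟩
  obtain ⟨φ, hφ, -⟩ := HomCohLib.existsUnique_of_completion_hom I hP1 hP0 hs (α1 ≫ j)
  have hψ : complMap I φ = α1 ≫ j := completion_hom_ext fun n => (π_complMap φ n).trans (hφ n).symm
  have hM : Coh.IsCoh (cokernel φ) := QCohLib.isCoh_cokernel φ hP1.1 hP0
  have hMc := isCohFormal_completion (I := I) hM
  let g : ∀ n, cokernel φ ⟶ G.obj (op n) := fun n =>
    cokernel.desc φ (Formal.modPowπ I (n + 1) P0 ≫ α.app (op n)) (by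
      have h1 : φ ≫ Formal.modPowπ I (n + 1) P0 ≫ α.app (op n) =
          Formal.modPowπ I (n + 1) P1 ≫ ((α1 ≫ j) ≫ α).app (op n) :=
        (Category.assoc _ _ _).symm.trans ((congrArg (· ≫ α.app (op n)) (hφ n).symm).trans (Category.assoc _ _ _))
      rw [h1, Category.assoc α1, hj, comp_zero]
      exact comp_zero)
  have hg : ∀ n, g (n + 1) ≫ trMap G n = g n := fun n => coequalizer.hom_ext (by
    show cokernel.π φ ≫ _ ≫ _ = cokernel.π φ ≫ _
    rw [cokernel.π_desc, cokernel.π_desc_assoc]
    refine (Category.assoc _ _ _).trans ?_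
    refine (congrArg (Formal.modPowπ I (n + 1 + 1) P0 ≫ ·) (α.naturality _).symm).trans ?_
    refine (Category.assoc _ _ _).symm.trans ?_
    exact congrArg (· ≫ α.app (op n)) (π_completion_trLE P0 (Nat.le_succ n)))
  let δ := complDesc hG g hg
  have hδ : complMap I (cokernel.π φ) ≫ δ = α := completion_hom_ext fun n => by
    refine (Category.assoc _ _ _).symm.trans ((congrArg (· ≫ δ.app (op n)) (π_complMap (cokernel.π φ) n)).trans ?_)
    exact (Category.assoc _ _ _).trans ((congrArg (cokernel.π φ ≫ ·) (π_complDesc hG g hg n)).trans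
      (cokernel.π_desc _ _ _))
  have hβψ : (α1 ≫ j) ≫ complMap I (cokernel.π φ) = 0 := by
    rw [← hψ, ← complMap_comp, cokernel.condition, complMap_zero]
  obtain ⟨C, hC⟩ := exists_cover (X := X)
  have : IsIso δ := by
    refine isIso_of_lim hMc hG δ (fun V : C => V.1.1) (fun V => V.1.2)
      (fun x => by obtain ⟨V, hV, hx⟩ := hC x; exact ⟨⟨V, hV⟩, hx⟩) fun V => ?_
    obtain ⟨⟨U, hU⟩, hV⟩ := V
    show Function.Bijective (secHom hMc hG hU δ).lim
    have := noethRing hU
    have hαs : Function.Surjective (secHom hP0c hG hU α).lim := AdHom.lim_surjective _ fun n => hα U hU n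
    have hβs : Function.Surjective (secHom hP0c hMc hU (complMap I (cokernel.π φ))).lim :=
      AdHom.lim_surjective _ fun n => by
        intro y
        have := hP0.1
        have := hM.1
        obtain ⟨z, rfl⟩ := app_modPowπ_surjective I (cokernel φ) (n + 1) hU y
        obtain ⟨w, rfl⟩ := app_surjective_of_epi (cokernel.π φ) hU z
        exact ⟨_, complMap_app (cokernel.π φ) n w⟩
    refine ⟨(injective_iff_map_eq_zero _).2 fun y hy => ?_, fun y => ?_⟩
    · obtain ⟨w, rfl⟩ := hβs y
      rw [lim_comp, lim_congr hP0c hG hU hδ] at hy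
      obtain ⟨k, hk⟩ := (hKlim U hU).2.ge (LinearMap.mem_ker.2 hy)
      obtain ⟨z, rfl⟩ := AdHom.lim_surjective (secHom hP1c hK hU α1) (fun n => hα1 U hU n) k
      rw [← hk, lim_comp hP1c hK hP0c hU, lim_comp hP1c hP0c hMc hU, lim_congr hP1c hMc hU hβψ, lim_zero]
    · obtain ⟨w, rfl⟩ := hαs y
      exact ⟨(secHom hP0c hMc hU (complMap I (cokernel.π φ))).lim w, by rw [lim_comp, lim_congr hP0c hG hU hδ]⟩
  exact ⟨_, hM, ⟨asIso δ⟩⟩

end FormalCohLib

end
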