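import Groth.Agent.FormalCohLib.Alg
import Groth.Agent.GrSysLib.Formal
import Groth.Agent.HomCohLib.Formal

/-!
# Coherent formal modules on affine opens
-/

set_option autoImplicit false

noncomputable section

universe u

open CategoryTheory CategoryTheory.Limits AlgebraicGeometry TopologicalSpace Opposite
open FormalLib (rhoA Sec toSec secMap)
open GrSysLib (trMap)

namespace FormalCohLib

variable {A : Type u} [CommRing A] (I : Ideal A) {X : Scheme.{u}} [X.Over (Spec (CommRingCat.of A))]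

/-- The ideal on an open induced from the base. -/
def idU (U : X.Opens) : Ideal Γ(X, U) := I.map (rhoA A U)

lemma idU_pow (n : ℕ) (U : X.Opens) : idU I U ^ n = (I ^ n).map (rhoA A U) := (Ideal.map_pow _ I n).symm

lemma smulMod_app (M : X.Modules) (a : A) (U : X.Opens) (x : Γ(M, U)) :
    (Formal.smulMod A M a).app U x = rhoA A U a • x := rfl

lemma smul_mem_idU {M : X.Modules} {n : ℕ} {U : X.Opens} {a : A} (ha : a ∈ I ^ n) (x : Γ(M, U)) :
    rhoA A U a • x ∈ (idU I U ^ n • ⊤ : Submodule Γ(X, U) Γ(M, U)) := by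
  rw [idU_pow]
  exact Submodule.smul_mem_smul (Ideal.mem_map_of_mem _ ha) trivial

lemma app_smulFamily_zero {M N : X.Modules} {n : ℕ} (φ : M ⟶ N) (h : Formal.smulFamily (I ^ n) M ≫ φ = 0)
    {U : X.Opens} {x : Γ(M, U)} (hx : x ∈ (idU I U ^ n • ⊤ : Submodule Γ(X, U) Γ(M, U))) : φ.app U x = 0 := by
  rw [idU_pow] at hx
  suffices ((I ^ n).map (rhoA A U) • ⊤ : Submodule Γ(X, U) Γ(M, U)) ≤ LinearMap.ker (QCohLib.appLin φ U) from this hx
  refine Submodule.smul_le.2 fun r hr z _ => ?_
  induction hr using Submodule.span_induction with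
  | mem r hr =>
    obtain ⟨a, ha, rfl⟩ := hr
    have e : Formal.smulMod A M a ≫ φ = 0 := by
      have := congrArg (fun t => Sigma.ι (fun _ : ↥(I ^ n) => M) ⟨a, ha⟩ ≫ t) h
      simpa [Formal.smulFamily] using this
    exact congrArg (fun t : M ⟶ N => t.app U z) e
  | zero => rw [zero_smul]; exact zero_mem _
  | add r r' _ _ hr hr' => rw [add_smul]; exact add_mem hr hr'
  | smul r r' _ hr => rw [smul_assoc]; exact Submodule.smul_mem _ r hr

lemma app_surjective_of_epi {M N : X.Modules} [Coh.IsQCoh M] (φ : M ⟶ N) [Epi φ] [Coh.IsQCoh N] {U : X.Opens}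
    (hU : IsAffineOpen U) : Function.Surjective (φ.app U) := by
  have hS : (ShortComplex.mk _ _ (kernel.condition φ)).ShortExact :=
    { exact := ShortComplex.exact_of_f_is_kernel _ (kernelIsKernel φ) }
  have : Coh.IsQCoh (ShortComplex.mk _ _ (kernel.condition φ)).X₁ := QCohLib.isQCoh_kernel φ
  exact QCohLib.app_surjective_of_affine hS hU

lemma isQCoh_modPow (M : X.Modules) [Coh.IsQCoh M] (n : ℕ) : Coh.IsQCoh (Formal.modPow I n M) :=
  have : Coh.IsQCoh (∐ fun _ : ↥(I ^ n) => M) := QCohLib.isQCoh_sigma _ fun _ => ‹_›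
  QCohLib.isQCoh_cokernel _

lemma isCoh_modPow {M : X.Modules} (hM : Coh.IsCoh M) (n : ℕ) : Coh.IsCoh (Formal.modPow I n M) :=
  QCohLib.isCoh_cokernel _ (QCohLib.isQCoh_sigma _ fun _ => hM.1) hM

section Noeth

variable [AlgebraicGeometry.IsNoetherian X]

lemma exists_cover : ∃ s : Finset X.affineOpens, ∀ x : X, ∃ V ∈ s, x ∈ V.1 := by
  obtain ⟨s, hs⟩ := (isCompact_univ (X := X)).elim_finite_subcover (fun V : X.affineOpens => (V.1 : Set X))
    (fun V => V.1.isOpen) (fun p _ => by
      obtain ⟨V, hV, hp⟩ := QCohLib.exists_affine_nhd p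
      exact Set.mem_iUnion.mpr ⟨⟨V, hV⟩, hp⟩)
  refine ⟨s, fun x => ?_⟩
  obtain ⟨V, hV, hx⟩ := Set.mem_iUnion₂.mp (hs (Set.mem_univ x))
  exact ⟨V, hV, hx⟩

/-- `M / I ^ n M` is the cokernel of a finite family of multiplications, for any base ring. -/
theorem exists_finite_presentation (M : X.Modules) [Coh.IsQCoh M] (n : ℕ) :
    ∃ (r : Type u) (_ : Fintype r) (a : r → A), (∀ k, a k ∈ I ^ n) ∧
      ∃ w : biproduct.desc (fun k : r => Formal.smulMod A M (a k)) ≫ Formal.modPowπ I n M = 0,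
        (ShortComplex.mk _ _ w).Exact := by
  classical
  obtain ⟨C, hC⟩ := exists_cover (X := X)
  have hfg : ∀ V : X.affineOpens, ∃ s : Finset A, ((↑s : Set A) ⊆ ((I ^ n : Ideal A) : Set A)) ∧
      (I ^ n).map (rhoA A V.1) ≤ Ideal.span (rhoA A V.1 '' s) := by
    intro V
    have : IsNoetherianRing Γ(X, V.1) := IsLocallyNoetherian.component_noetherian V
    obtain ⟨t, ht, hspan⟩ := ((Submodule.fg_span_iff_fg_span_finset_subset _).1
      (IsNoetherian.noetherian (Ideal.span (rhoA A V.1 '' ((I ^ n : Ideal A) : Set A)))))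
    obtain ⟨s, hs, rfl⟩ := Finset.subset_set_image_iff.1 ht
    refine ⟨s, hs, le_of_eq ?_⟩
    rw [Finset.coe_image] at hspan
    exact hspan
  choose s hs hle using hfg
  let r := C.biUnion s
  have hr : ∀ k : {x // x ∈ r}, (k : A) ∈ I ^ n := fun k => by
    obtain ⟨V, -, hk⟩ := Finset.mem_biUnion.1 k.2
    exact hs V hk
  have w : biproduct.desc (fun k : {x // x ∈ r} => Formal.smulMod A M (k : A)) ≫ Formal.modPowπ I n M = 0 :=
    biproduct.hom_ext' _ _ fun k => by
      rw [biproduct.ι_desc_assoc, FormalLib.smulMod_modPowπ M I n (hr k), comp_zero]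
  refine ⟨{x // x ∈ r}, inferInstance, fun k => k, hr, w, ShortComplex.exact_of_g_is_cokernel _ ?_⟩
  refine CokernelCofork.IsColimit.ofπ' _ w fun {T} ψ hψ => ⟨cokernel.desc _ ψ (Sigma.hom_ext _ _ fun a => ?_),
    cokernel.π_desc _ _ _⟩
  rw [Formal.smulFamily, Sigma.ι_desc_assoc, comp_zero]
  have hk : ∀ k : {x // x ∈ r}, Formal.smulMod A M (k : A) ≫ ψ = 0 := fun k => by
    have := congrArg (fun t => biproduct.ι (fun _ : {x // x ∈ r} => M) k ≫ t) hψ
    simpa using this
  refine HomCohLib.eq_zero_of_app _ (fun V : C => V.1.1) (fun V => V.1.2)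
    (fun x => by obtain ⟨V, hV, hx⟩ := hC x; exact ⟨⟨V, hV⟩, hx⟩) fun V y => ?_
  show QCohLib.appLin ψ V.1.1 (rhoA A V.1.1 a • y) = 0
  have ha := hle V.1 (Ideal.mem_map_of_mem _ a.2)
  generalize rhoA A V.1.1 a = b at ha
  induction ha using Submodule.span_induction with
  | mem b hb =>
    obtain ⟨k, hk', rfl⟩ := hb
    exact congrArg (fun t : M ⟶ T => t.app V.1.1 y) (hk ⟨k, Finset.mem_biUnion.2 ⟨V.1, V.2, hk'⟩⟩)
  | zero => rw [zero_smul, map_zero]
  | add b b' _ _ hb hb' => rw [add_smul, map_add, hb, hb', add_zero]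
  | smul c b _ hb => rw [smul_assoc, map_smul, hb, smul_zero]

/-- **The kernel of `M(U) → (M / I ^ n M)(U)`.** -/
theorem app_modPowπ_eq_zero (M : X.Modules) [Coh.IsQCoh M] (n : ℕ) {U : X.Opens} (hU : IsAffineOpen U) (x : Γ(M, U)) :
    (Formal.modPowπ I n M).app U x = 0 ↔ x ∈ (idU I U ^ n • ⊤ : Submodule Γ(X, U) Γ(M, U)) := by
  refine ⟨fun hx => ?_, app_smulFamily_zero I _ (cokernel.condition _)⟩
  obtain ⟨r, _, a, ha, w, hex⟩ := exists_finite_presentation I M n
  have := isQCoh_modPow I M n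
  have hP : Coh.IsQCoh (⨁ fun _ : r => M) :=
    have : Coh.IsQCoh (∐ fun _ : r => M) := QCohLib.isQCoh_sigma _ fun _ => ‹_›
    QCohLib.isQCoh_of_iso (biproduct.isoCoproduct _).symm
  let K := kernel (Formal.modPowπ I n M)
  have hK : Coh.IsQCoh K := QCohLib.isQCoh_kernel _
  let Φ : (⨁ fun _ : r => M) ⟶ K := kernel.lift _ _ w
  have : Epi Φ := (ShortComplex.exact_iff_epi_kernel_lift _).1 hex
  obtain ⟨k, hk⟩ := QCohLib.exists_of_app_eq_zero
    (ShortComplex.exact_of_f_is_kernel (ShortComplex.mk _ _ (kernel.condition (Formal.modPowπ I n M)))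
      (kernelIsKernel _)) (inferInstanceAs (Mono (kernel.ι _))) _ hx
  obtain ⟨e, rfl⟩ := app_surjective_of_epi Φ hU k
  rw [← hk]
  show (Φ ≫ kernel.ι (Formal.modPowπ I n M)).app U e ∈ _
  rw [kernel.lift_ι, show biproduct.desc (fun j : r => Formal.smulMod A M (a j)) =
      ∑ j, biproduct.π (fun _ : r => M) j ≫ Formal.smulMod A M (a j) by
    classical
    refine biproduct.hom_ext' _ _ fun k => ?_
    rw [biproduct.ι_desc, Preadditive.comp_sum, Finset.sum_eq_single k, biproduct.ι_π_self_assoc]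
    · intro j _ hj
      rw [biproduct.ι_π_ne_assoc _ (Ne.symm hj), zero_comp]
    · exact fun h => absurd (Finset.mem_univ k) h]
  suffices ∀ t : Finset r, (∑ j ∈ t, biproduct.π (fun _ : r => M) j ≫ Formal.smulMod A M (a j)).app U e ∈
      (idU I U ^ n • ⊤ : Submodule Γ(X, U) Γ(M, U)) from this _
  intro t
  classical
  induction t using Finset.induction_on with
  | empty => exact zero_mem _
  | insert j t hj ih =>
    rw [Finset.sum_insert hj]
    exact add_mem (smul_mem_idU I (ha j) ((biproduct.π (fun _ : r => M) j).app U e)) ih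

lemma app_modPowπ_surjective (M : X.Modules) [Coh.IsQCoh M] (n : ℕ) {U : X.Opens} (hU : IsAffineOpen U) :
    Function.Surjective ((Formal.modPowπ I n M).app U) :=
  have := isQCoh_modPow I M n
  app_surjective_of_epi (Formal.modPowπ I n M) hU

variable {I} {G H : ℕᵒᵖ ⥤ X.Modules} (hG : Formal.IsCohFormal I G) (hH : Formal.IsCohFormal I H)
  {U : X.Opens} (hU : IsAffineOpen U)

include hG hU in
lemma app_trMap_eq_zero (n : ℕ) (x : Γ(G.obj (op (n + 1)), U)) :
    (trMap G n).app U x = 0 ↔ x ∈ (idU I U ^ (n + 1) • ⊤ : Submodule Γ(X, U) Γ(G.obj (op (n + 1)), U)) := by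
  have : Coh.IsQCoh (G.obj (op (n + 1))) := (hG.1 _).1
  have := GrSysLib.isIso_desc hG n
  rw [← app_modPowπ_eq_zero I _ _ hU, ← cokernel.π_desc _ (trMap G n) (GrSysLib.smulFamily_trMap hG n)]
  show (cokernel.desc _ (trMap G n) (GrSysLib.smulFamily_trMap hG n)).app U ((Formal.modPowπ I (n + 1) _).app U x) = 0 ↔ _
  refine ⟨fun h => ?_, fun h => (congrArg _ h).trans (map_zero _)⟩
  exact QCohLib.app_injective_of_mono (cokernel.desc _ (trMap G n) (GrSysLib.smulFamily_trMap hG n)) U
    (h.trans (map_zero _).symm)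

include hG hU in
lemma app_trMap_surjective (n : ℕ) : Function.Surjective ((trMap G n).app U) := by
  have : Coh.IsQCoh (G.obj (op n)) := (hG.1 _).1
  have : Coh.IsQCoh (G.obj (op (n + 1))) := (hG.1 _).1
  have := GrSysLib.epi_trMap hG n
  exact app_surjective_of_epi (trMap G n) hU

/-- The system of sections on an affine open. -/
def secSys : AdSys (idU I U) where
  M n := Γ(G.obj (op n), U)
  t n := QCohLib.appLin (trMap G n) U
  surj n := app_trMap_surjective hG hU n
  fin n := have := (hG.1 n).1; QCohLib.finite_of_isFT (hG.1 n).2 hU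
  kill n := by
    rw [eq_bot_iff]
    intro x hx
    have h : Formal.smulFamily (I ^ (n + 1)) (G.obj (op n)) ≫ 𝟙 _ = 0 := Sigma.hom_ext _ _ fun a => by
      rw [Category.comp_id, comp_zero, Formal.smulFamily, Sigma.ι_desc]
      exact hG.2.1 n a.1 a.2
    exact app_smulFamily_zero I _ h hx
  ker_t n := Submodule.ext fun x => app_trMap_eq_zero hG hU n x

/-- A map of systems on sections. -/
def secHom (α : G ⟶ H) : AdHom (secSys hG hU) (secSys hH hU) where
  f n := QCohLib.appLin (α.app (op n)) U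
  comm n x := congrArg (fun t : G.obj (op (n + 1)) ⟶ H.obj (op n) => t.app U x)
    (α.naturality (homOfLE (Nat.le_succ n)).op).symm

end Noeth

end FormalCohLib

end
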