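import Groth.Agent.FormalCohLib.Kernel

/-!
# Completions, cokernels and exactness
-/

set_option autoImplicit false

noncomputable section

universe u

open CategoryTheory CategoryTheory.Limits AlgebraicGeometry TopologicalSpace Opposite
open GrSysLib (trMap)

namespace FormalCohLib

variable {A : Type u} [CommRing A] {I : Ideal A} {X : Scheme.{u}} [X.Over (Spec (CommRingCat.of A))]

/-- The map on `M / I ^ n M`. -/
def modPowMap (I : Ideal A) (n : ℕ) {M N : X.Modules} (φ : M ⟶ N) : Formal.modPow I n M ⟶ Formal.modPow I n N :=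
  cokernel.desc _ (φ ≫ Formal.modPowπ I n N) (smulFamily_comp_eq_zero _ (killedBy_modPow n N))

lemma π_modPowMap (n : ℕ) {M N : X.Modules} (φ : M ⟶ N) :
    Formal.modPowπ I n M ≫ modPowMap I n φ = φ ≫ Formal.modPowπ I n N :=
  cokernel.π_desc _ _ _

lemma completion_trMap (M : X.Modules) (n : ℕ) :
    trMap (Formal.completion I M) n = Formal.modPowTrans I (n + 1) M :=
  Functor.ofOpSequence_map_homOfLE_succ _ _

lemma π_completion_trLE (M : X.Modules) {n m : ℕ} (h : n ≤ m) :
    Formal.modPowπ I (m + 1) M ≫ trLE (Formal.completion I M) h = Formal.modPowπ I (n + 1) M :=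
  FormalLib.modPowπ_completion I M h

/-- The completion of a morphism. -/
def complMap (I : Ideal A) {M N : X.Modules} (φ : M ⟶ N) : Formal.completion I M ⟶ Formal.completion I N :=
  NatTrans.ofOpSequence (fun n => modPowMap I (n + 1) φ) fun n => by
    have key : Formal.modPowTrans I (n + 1) M ≫ modPowMap I (n + 1) φ =
        modPowMap I (n + 1 + 1) φ ≫ Formal.modPowTrans I (n + 1) N := by
      apply (cancel_epi (Formal.modPowπ I (n + 1 + 1) M)).1
      rw [← Category.assoc, Formal.modPowπ_trans, π_modPowMap, ← Category.assoc, π_modPowMap, Category.assoc,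
        Formal.modPowπ_trans]
    exact ((congrArg (fun t => t ≫ modPowMap I (n + 1) φ) (completion_trMap M n)).trans key).trans
      (congrArg (fun t => modPowMap I (n + 1 + 1) φ ≫ t) (completion_trMap N n).symm)

lemma π_complMap {M N : X.Modules} (φ : M ⟶ N) (n : ℕ) :
    Formal.modPowπ I (n + 1) M ≫ (complMap I φ).app (op n) = φ ≫ Formal.modPowπ I (n + 1) N :=
  π_modPowMap _ φ

lemma completion_hom_ext {M : X.Modules} {G : ℕᵒᵖ ⥤ X.Modules} {α β : Formal.completion I M ⟶ G}
    (h : ∀ n, Formal.modPowπ I (n + 1) M ≫ α.app (op n) = Formal.modPowπ I (n + 1) M ≫ β.app (op n)) : α = β := by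
  ext ⟨n⟩ : 2
  exact (cancel_epi (Formal.modPowπ I (n + 1) M)).1 (h n)

lemma complMap_comp {M N P : X.Modules} (φ : M ⟶ N) (ψ : N ⟶ P) :
    complMap I (φ ≫ ψ) = complMap I φ ≫ complMap I ψ := completion_hom_ext fun n => by
  have key : Formal.modPowπ I (n + 1) M ≫ (modPowMap I (n + 1) φ ≫ modPowMap I (n + 1) ψ) =
      (φ ≫ ψ) ≫ Formal.modPowπ I (n + 1) P := by
    rw [← Category.assoc, π_modPowMap, Category.assoc, π_modPowMap, Category.assoc]
  exact (π_complMap (φ ≫ ψ) n).trans key.symm

lemma complMap_id (M : X.Modules) : complMap I (𝟙 M) = 𝟙 _ := completion_hom_ext fun n => by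
  rw [π_complMap, Category.id_comp]
  exact (Category.comp_id _).symm

lemma complMap_zero (M N : X.Modules) : complMap I (0 : M ⟶ N) = 0 := completion_hom_ext fun n => by
  rw [π_complMap, zero_comp]
  exact comp_zero.symm

/-- The completion of an isomorphism. -/
def complIso (I : Ideal A) {M N : X.Modules} (e : M ≅ N) : Formal.completion I M ≅ Formal.completion I N where
  hom := complMap I e.hom
  inv := complMap I e.inv
  hom_inv_id := by rw [← complMap_comp, e.hom_inv_id, complMap_id]
  inv_hom_id := by rw [← complMap_comp, e.inv_hom_id, complMap_id]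

/-- **Completions of coherent modules are formal.** -/
theorem isCohFormal_completion {M : X.Modules} (hM : Coh.IsCoh M) : Formal.IsCohFormal I (Formal.completion I M) := by
  refine ⟨fun n => isCoh_modPow I hM _, fun n => killedBy_modPow _ _, fun n => ?_⟩
  have h : Formal.smulFamily (I ^ (n + 1)) (Formal.modPow I (n + 1 + 1) M) ≫ Formal.modPowTrans I (n + 1) M = 0 :=
    smulFamily_comp_eq_zero _ (killedBy_modPow _ _)
  have hi : IsIso (cokernel.desc _ (Formal.modPowTrans I (n + 1) M) h) := by
    refine ⟨cokernel.desc _ (Formal.modPowπ I (n + 1 + 1) M ≫ cokernel.π _)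
      (smulFamily_comp_eq_zero _ (killedBy_modPow _ _)), ?_, ?_⟩
    · apply coequalizer.hom_ext
      apply (cancel_epi (Formal.modPowπ I (n + 1 + 1) M)).1
      show Formal.modPowπ I (n + 1 + 1) M ≫ cokernel.π _ ≫ cokernel.desc _ _ h ≫ _ = _ ≫ cokernel.π _ ≫ 𝟙 _
      rw [cokernel.π_desc_assoc, ← Category.assoc, Formal.modPowπ_trans, Category.comp_id]
      exact cokernel.π_desc _ _ _
    · apply (cancel_epi (Formal.modPowπ I (n + 1) M)).1
      rw [Category.comp_id, ← Category.assoc]
      show (cokernel.π _ ≫ cokernel.desc _ _ _) ≫ _ = _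
      rw [cokernel.π_desc, Category.assoc, cokernel.π_desc]
      exact Formal.modPowπ_trans I (n + 1) M
  have e : ∀ t, t = Formal.modPowTrans I (n + 1) M → ∃ h' : Formal.smulFamily (I ^ (n + 1)) (Formal.modPow I (n + 1 + 1) M) ≫ t = 0,
      IsIso (cokernel.desc _ t h') := by
    rintro t rfl
    exact ⟨h, hi⟩
  exact e _ (completion_trMap M n)

lemma isIso_modPowπ_of_killed {n : ℕ} {M : X.Modules} (h : Formal.KilledBy (I ^ n) M) :
    IsIso (Formal.modPowπ I n M) := by
  refine ⟨cokernel.desc _ (𝟙 M) (by rw [Category.comp_id, (killedBy_iff _ _).1 h]), cokernel.π_desc _ _ _, ?_⟩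
  apply coequalizer.hom_ext
  show cokernel.π _ ≫ cokernel.desc _ _ _ ≫ Formal.modPowπ I n M = cokernel.π _ ≫ 𝟙 _
  rw [cokernel.π_desc_assoc, Category.id_comp, Category.comp_id]
  rfl

/-- A map into a member induced on the quotient. -/
def complDesc {M : X.Modules} {G : ℕᵒᵖ ⥤ X.Modules} (hG : Formal.IsCohFormal I G) (g : ∀ n, M ⟶ G.obj (op n))
    (hg : ∀ n, g (n + 1) ≫ trMap G n = g n) : Formal.completion I M ⟶ G :=
  NatTrans.ofOpSequence (fun n => cokernel.desc _ (g n) (smulFamily_comp_eq_zero _ (hG.2.1 n))) fun n => by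
    refine Eq.trans (congrArg (fun t => t ≫ cokernel.desc _ (g n) (smulFamily_comp_eq_zero _ (hG.2.1 n)))
      (completion_trMap M n)) ?_
    have key : Formal.modPowTrans I (n + 1) M ≫ cokernel.desc _ (g n) (smulFamily_comp_eq_zero _ (hG.2.1 n)) =
        cokernel.desc (Formal.smulFamily (I ^ (n + 1 + 1)) M) (g (n + 1)) (smulFamily_comp_eq_zero _ (hG.2.1 (n + 1))) ≫
          trMap G n := by
      apply (cancel_epi (Formal.modPowπ I (n + 1 + 1) M)).1
      rw [← Category.assoc, Formal.modPowπ_trans]
      show cokernel.π _ ≫ cokernel.desc _ _ _ = cokernel.π _ ≫ cokernel.desc _ _ _ ≫ trMap G n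
      rw [cokernel.π_desc, cokernel.π_desc_assoc, hg]
    exact key

lemma π_complDesc {M : X.Modules} {G : ℕᵒᵖ ⥤ X.Modules} (hG : Formal.IsCohFormal I G) (g : ∀ n, M ⟶ G.obj (op n))
    (hg : ∀ n, g (n + 1) ≫ trMap G n = g n) (n : ℕ) :
    Formal.modPowπ I (n + 1) M ≫ (complDesc hG g hg).app (op n) = g n :=
  cokernel.π_desc _ _ _

variable [AlgebraicGeometry.IsNoetherian X] {G H : ℕᵒᵖ ⥤ X.Modules}

/-- The range of a map of limits is closed. -/
theorem mem_range_of_proj {B : Type u} [CommRing B] [IsNoetherianRing B] {J : Ideal B} {S T : AdSys J}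
    (φ : AdHom S T) (y : T.L) (h : ∀ n, ∃ v, T.proj n (φ.lim v) = T.proj n y) : y ∈ LinearMap.range φ.lim := by
  have := Groth.Agent.S0543.result B J
  have := T.main.1
  let P := AdicCompletion J B
  let JP := J.map (algebraMap B P)
  have : IsAdicComplete JP P :=
    (IsAdicComplete.map_algebraMap_iff _ _).mpr (AdicCompletion.isAdicComplete (IsNoetherian.noetherian J))
  let Q := T.L ⧸ LinearMap.range φ.limHat
  have hq : Submodule.Quotient.mk (p := LinearMap.range φ.limHat) y ∈ ⨅ n : ℕ, JP ^ n • (⊤ : Submodule P Q) := by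
    refine (Submodule.mem_iInf _).2 fun n => ?_
    refine Submodule.smul_mono_left (Ideal.pow_le_pow_right (Nat.le_succ n)) ?_
    obtain ⟨w, hw⟩ := h n
    have h1 : y - φ.lim w ∈ J ^ (n + 1) • (⊤ : Submodule B T.L) := by
      rw [← T.ker_proj, LinearMap.mem_ker, map_sub, hw, sub_self]
    have h2 : y - φ.lim w ∈ JP ^ (n + 1) • (⊤ : Submodule P T.L) := by
      rw [← Submodule.restrictScalars_mem B, ← Ideal.map_pow, Ideal.smul_restrictScalars,
        Submodule.restrictScalars_top]
      exact h1
    have h3 := Submodule.mem_map_of_mem (f := (LinearMap.range φ.limHat).mkQ) h2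
    rw [Submodule.map_smul''] at h3
    have e : (LinearMap.range φ.limHat).mkQ (y - φ.lim w) = Submodule.Quotient.mk y :=
      (Submodule.Quotient.eq _).2 (by rw [sub_sub_cancel_left]; exact neg_mem ⟨w, rfl⟩)
    rw [e] at h3
    exact Submodule.smul_mono le_rfl (le_top (a := (⊤ : Submodule P T.L).map (LinearMap.range φ.limHat).mkQ)) h3
  rw [Ideal.iInf_pow_smul_eq_bot_of_le_jacobson JP (IsAdicComplete.le_jacobson_bot JP), Submodule.mem_bot,
    Submodule.Quotient.mk_eq_zero] at hq
  exact hq

/-- A map of adic systems surjective on every member is surjective on the limits. -/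
theorem AdHom.lim_surjective {B : Type u} [CommRing B] [IsNoetherianRing B] {J : Ideal B} {S T : AdSys J}
    (φ : AdHom S T) (h : ∀ n, Function.Surjective (φ.f n)) : Function.Surjective φ.lim := fun y =>
  mem_range_of_proj φ y fun n => by
    obtain ⟨x, hx⟩ := h n (T.proj n y)
    obtain ⟨w, rfl⟩ := S.proj_surjective n x
    exact ⟨w, hx⟩

section Coker

variable (hG : Formal.IsCohFormal I G) (hH : Formal.IsCohFormal I H) (α : G ⟶ H)

/-- The componentwise cokernel. -/
abbrev cokF : ℕᵒᵖ ⥤ X.Modules := cokernel α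

/-- Components of the cokernel. -/
def cokAppIso (n : ℕ) : (cokF α).obj (op n) ≅ cokernel (α.app (op n)) :=
  (PreservesCokernel.iso ((evaluation ℕᵒᵖ X.Modules).obj (op n)) α)

lemma π_cokAppIso (n : ℕ) : (cokernel.π α).app (op n) ≫ (cokAppIso α n).hom = cokernel.π (α.app (op n)) :=
  PreservesCokernel.π_iso_hom ((evaluation ℕᵒᵖ X.Modules).obj (op n)) α

omit [AlgebraicGeometry.IsNoetherian X] in
lemma epi_app_cokπ (n : ℕ) : Epi ((cokernel.π α).app (op n)) := inferInstance

include hG hH in
theorem isCohFormal_cokF : Formal.IsCohFormal I (cokF α) := by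
  refine ⟨fun n => QCohLib.isCoh_of_iso (cokAppIso α n).symm (QCohLib.isCoh_cokernel _ (hG.1 n).1 (hH.1 n)),
    fun n a ha => ?_, fun n => ?_⟩
  · have := epi_app_cokπ α n
    rw [← cancel_epi ((cokernel.π α).app (op n)), comp_zero, ← FormalProLib.smulMod_natural, hH.2.1 n a ha, zero_comp]
  · have hk : Formal.KilledBy (I ^ (n + 1)) ((cokF α).obj (op n)) := fun a ha => by
      have := epi_app_cokπ α n
      rw [← cancel_epi ((cokernel.π α).app (op n)), comp_zero, ← FormalProLib.smulMod_natural, hH.2.1 n a ha, zero_comp]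
    refine ⟨smulFamily_comp_eq_zero _ hk, ?_⟩
    have hiH := GrSysLib.isIso_desc hH n
    have := GrSysLib.epi_trMap hG n
    let eH := @asIso _ _ _ _ _ hiH
    let q : cokernel (Formal.smulFamily (I ^ (n + 1)) ((cokF α).obj (op (n + 1)))) ⟶ (cokF α).obj (op n) :=
      cokernel.desc _ (trMap (cokF α) n) (smulFamily_comp_eq_zero _ hk)
    show IsIso q
    let p : H.obj (op (n + 1)) ⟶ cokernel (Formal.smulFamily (I ^ (n + 1)) ((cokF α).obj (op (n + 1)))) :=
      (cokernel.π α).app (op (n + 1)) ≫ cokernel.π _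
    let p' : H.obj (op n) ⟶ cokernel (Formal.smulFamily (I ^ (n + 1)) ((cokF α).obj (op (n + 1)))) :=
      eH.inv ≫ cokernel.desc _ p (smulFamily_comp_eq_zero _ (killedBy_modPow (n + 1) _))
    have hp' : trMap H n ≫ p' = p := by
      show trMap H n ≫ eH.inv ≫ _ = _
      rw [← cokernel.π_desc _ (trMap H n) (GrSysLib.smulFamily_trMap hH n), Category.assoc]
      show cokernel.π _ ≫ eH.hom ≫ eH.inv ≫ _ = _
      rw [eH.hom_inv_id_assoc, cokernel.π_desc]
    have hαp : α.app (op n) ≫ p' = 0 := by
      apply (cancel_epi (trMap G n)).1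
      rw [← Category.assoc, show trMap G n ≫ α.app (op n) = α.app (op (n + 1)) ≫ trMap H n from
        α.naturality _, Category.assoc, hp', comp_zero]
      show α.app (op (n + 1)) ≫ (cokernel.π α).app (op (n + 1)) ≫ _ = 0
      rw [← Category.assoc, ← NatTrans.comp_app, cokernel.condition]
      exact zero_comp
    let r := (cokAppIso α n).hom ≫ cokernel.desc _ p' hαp
    have hr : (cokernel.π α).app (op n) ≫ r = p' := by
      show _ ≫ _ ≫ _ = _
      rw [← Category.assoc, π_cokAppIso, cokernel.π_desc]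
    have hq : p' ≫ q = (cokernel.π α).app (op n) := by
      have := GrSysLib.epi_trMap hH n
      apply (cancel_epi (trMap H n)).1
      rw [← Category.assoc, hp']
      show ((cokernel.π α).app (op (n + 1)) ≫ cokernel.π _) ≫ q = _
      rw [Category.assoc, cokernel.π_desc]
      exact ((cokernel.π α).naturality _).symm
    refine ⟨r, ?_, ?_⟩
    · have := epi_app_cokπ α (n + 1)
      apply coequalizer.hom_ext
      apply (cancel_epi ((cokernel.π α).app (op (n + 1)))).1
      show _ ≫ cokernel.π _ ≫ q ≫ r = _ ≫ cokernel.π _ ≫ 𝟙 _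
      rw [cokernel.π_desc_assoc, Category.comp_id, ← Category.assoc,
        show (cokernel.π α).app (op (n + 1)) ≫ trMap (cokF α) n = trMap H n ≫ (cokernel.π α).app (op n) from
          ((cokernel.π α).naturality _).symm, Category.assoc, hr, hp']
    · have := epi_app_cokπ α n
      apply (cancel_epi ((cokernel.π α).app (op n))).1
      rw [← Category.assoc, hr, hq]
      exact (Category.comp_id _).symm

include hG hH in
/-- The cokernel is exact on the limits. -/
theorem cokπ_lim (hC : Formal.IsCohFormal I (cokF α)) (U : X.Opens) (hU : IsAffineOpen U) :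
    Function.Surjective (secHom hH hC hU (cokernel.π α)).lim ∧
      LinearMap.ker (secHom hH hC hU (cokernel.π α)).lim = LinearMap.range (secHom hG hH hU α).lim := by
  have := noethRing hU
  refine ⟨AdHom.lim_surjective _ fun n => ?_, le_antisymm (fun y hy => ?_) ?_⟩
  · have := (hH.1 n).1
    have := (hC.1 n).1
    have := epi_app_cokπ α n
    exact app_surjective_of_epi ((cokernel.π α).app (op n)) hU
  · obtain ⟨c, hc⟩ := (secSys hH hU).artinRees (idU I U) (LinearMap.range (secHom hG hH hU α).limHat)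
    have h1 : ∀ n, ∃ x, y - (secHom hG hH hU α).lim x ∈ idU I U ^ (n + 1) • (⊤ : Submodule Γ(X, U) (secSys hH hU).L) := by
      intro n
      have := (hG.1 n).1
      have := (hH.1 n).1
      have h0 : (cokernel.π (α.app (op n))).app U ((secSys hH hU).proj n y) = 0 := by
        rw [← π_cokAppIso α n]
        have := congrArg ((secSys hC hU).proj n) (LinearMap.mem_ker.1 hy)
        rw [map_zero] at this
        exact (congrArg ((cokAppIso α n).hom.app U) this).trans (map_zero ((cokAppIso α n).hom.app U).hom)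
      have : Coh.IsQCoh (Abelian.image (α.app (op n))) := QCohLib.isQCoh_image _
      obtain ⟨m, hm⟩ := QCohLib.exists_of_app_eq_zero
        (ShortComplex.exact_of_f_is_kernel (ShortComplex.mk _ _ (kernel.condition (cokernel.π (α.app (op n)))))
          (kernelIsKernel _)) (inferInstanceAs (Mono (kernel.ι _))) _ h0
      obtain ⟨g, rfl⟩ := app_surjective_of_epi (Abelian.factorThruImage (α.app (op n))) hU m
      obtain ⟨x, rfl⟩ := (secSys hG hU).proj_surjective n g
      refine ⟨x, ?_⟩
      rw [← AdSys.ker_proj, LinearMap.mem_ker, map_sub, sub_eq_zero, ← hm]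
      exact congrArg (fun t : G.obj (op n) ⟶ H.obj (op n) => t.app U ((secSys hG hU).proj n x))
        (Abelian.image.fac (α.app (op n)))
    choose x hx using h1
    have h2 : ∀ n, ∃ v, (secSys hH hU).proj n ((secHom hG hH hU α).lim v) = (secSys hH hU).proj n y := fun n =>
      ⟨x n, (sub_eq_zero.1 ((map_sub _ _ _).symm.trans (LinearMap.mem_ker.1 ((AdSys.ker_proj _ n).ge (hx n))))).symm⟩
    exact mem_range_of_proj _ y h2
  · rintro _ ⟨x, rfl⟩
    refine LinearMap.mem_ker.2 (AdSys.ext fun n => ?_)
    rw [map_zero]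
    exact congrArg (fun t : G.obj (op n) ⟶ (cokF α).obj (op n) => t.app U ((secSys hG hU).proj n x))
      (congrArg (fun t : G ⟶ cokF α => t.app (op n)) (cokernel.condition α))

end Coker

end FormalCohLib

end
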