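import Groth.Agent.FormalCohLib.Basic

/-!
# Kernels of maps of coherent formal modules
-/

set_option autoImplicit false

noncomputable section

universe u

open CategoryTheory CategoryTheory.Limits AlgebraicGeometry TopologicalSpace Opposite
open GrSysLib (trMap)

namespace FormalCohLib

variable {A : Type u} [CommRing A] {I : Ideal A} {X : Scheme.{u}} [X.Over (Spec (CommRingCat.of A))]
  [AlgebraicGeometry.IsNoetherian X] {G H : ℕᵒᵖ ⥤ X.Modules}

/-- The kernel of the limit map. -/
abbrev limKer (hG : Formal.IsCohFormal I G) (hH : Formal.IsCohFormal I H) {U : X.Opens} (hU : IsAffineOpen U)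
    (α : G ⟶ H) : Submodule Γ(X, U) (secSys hG hU).L :=
  LinearMap.ker (secHom hG hH hU α).lim

/-- The uniform bounds needed to construct a kernel. -/
structure KerBound (hG : Formal.IsCohFormal I G) (hH : Formal.IsCohFormal I H) {U : X.Opens} (hU : IsAffineOpen U)
    (α : G ⟶ H) (c : ℕ) : Prop where
  lift : ∀ n (x : Γ(G.obj (op (n + c)), U)), (α.app (op (n + c))).app U x = 0 →
    ∃ z ∈ limKer hG hH hU α, (secSys hG hU).proj n z = (trLE G (Nat.le_add_right n c)).app U x
  small : ∀ n (z : (secSys hG hU).L), z ∈ limKer hG hH hU α →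
    z ∈ idU I U ^ (n + c + 1) • (⊤ : Submodule Γ(X, U) (secSys hG hU).L) →
      z ∈ idU I U ^ (n + 1) • limKer hG hH hU α

variable (hG : Formal.IsCohFormal I G) (hH : Formal.IsCohFormal I H) (α : G ⟶ H)

theorem exists_kerBound {U : X.Opens} (hU : IsAffineOpen U) :
    ∃ c, ∀ c', c ≤ c' → KerBound hG hH hU α c' := by
  have := noethRing hU
  obtain ⟨c₁, h₁⟩ := AdHom.exists_lift_ker (secHom hG hH hU α)
  obtain ⟨c₂, h₂⟩ := AdHom.exists_ker_bound (secHom hG hH hU α) (idU I U)
  refine ⟨c₁ + c₂, fun c' hc => ⟨fun n x hx => ?_, fun n z hz hz' => ?_⟩⟩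
  · obtain ⟨z, hz, w, rfl, hzw⟩ := h₁ c' (by omega) n x hx
    exact ⟨z, hz, hzw.trans (proj_trLE hG hU _ w).symm⟩
  · refine h₂ c' (by omega) (n + 1) z hz ?_
    rwa [show n + 1 + c' = n + c' + 1 by omega]

theorem exists_kerBound_finset (C : Finset X.affineOpens) :
    ∃ c, ∀ V ∈ C, KerBound hG hH V.2 α c := by
  choose c hc using fun V : X.affineOpens => exists_kerBound hG hH α V.2
  exact ⟨C.sup c, fun V hV => hc V _ (Finset.le_sup hV)⟩

variable (c : ℕ)

/-- The images of the kernels. -/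
def imK (n : ℕ) : X.Modules :=
  Abelian.image (kernel.ι (α.app (op (n + c))) ≫ trLE G (Nat.le_add_right n c))

/-- The inclusion of the images. -/
def imKι (n : ℕ) : imK α c n ⟶ G.obj (op n) := Abelian.image.ι _

/-- The projection onto the images. -/
def imKπ (n : ℕ) : kernel (α.app (op (n + c))) ⟶ imK α c n := Abelian.factorThruImage _

instance mono_imKι (n : ℕ) : Mono (imKι α c n) := inferInstanceAs (Mono (Abelian.image.ι _))
instance epi_imKπ (n : ℕ) : Epi (imKπ α c n) := inferInstanceAs (Epi (Abelian.factorThruImage _))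

lemma imKπ_ι (n : ℕ) : imKπ α c n ≫ imKι α c n = kernel.ι (α.app (op (n + c))) ≫ trLE G (Nat.le_add_right n c) :=
  Abelian.image.fac _

include hG hH in
lemma isCoh_imK (n : ℕ) : Coh.IsCoh (imK α c n) := by
  have hK : Coh.IsCoh (kernel (α.app (op (n + c)))) := QCohLib.isCoh_kernel _ (hG.1 _) (hH.1 _).1
  have := hK.1
  have := (hG.1 n).1
  have : Coh.IsQCoh (imK α c n) := QCohLib.isQCoh_image _
  exact ⟨this, QCohLib.isFT_of_epi (imKπ α c n) hK.2⟩

/-- The transition maps of the images. -/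
def imKMap {n m : ℕ} (h : n ≤ m) : imK α c m ⟶ imK α c n :=
  kernel.lift _ (imKι α c m ≫ trLE G h) (by
    refine (cancel_epi (imKπ α c m)).1 ?_
    rw [comp_zero, ← Category.assoc, ← Category.assoc, imKπ_ι, Category.assoc, Category.assoc,
      ← Category.assoc (trLE G _), trLE_comp, ← trLE_comp G (Nat.le_add_right n c) (Nat.add_le_add_right h c),
      Category.assoc, ← Category.assoc]
    have hk : (kernel.ι (α.app (op (m + c))) ≫ trLE G (Nat.add_le_add_right h c)) ≫ α.app (op (n + c)) = 0 := by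
      rw [Category.assoc, trLE_natural, ← Category.assoc, kernel.condition, zero_comp]
    rw [← kernel.lift_ι _ _ hk, Category.assoc]
    exact (congrArg (fun t => kernel.lift _ _ hk ≫ t) ((Category.assoc _ _ _).symm.trans
      (cokernel.condition (kernel.ι (α.app (op (n + c))) ≫ trLE G (Nat.le_add_right n c))))).trans comp_zero)

lemma imKMap_ι {n m : ℕ} (h : n ≤ m) : imKMap α c h ≫ imKι α c n = imKι α c m ≫ trLE G h := kernel.lift_ι _ _ _

variable (I)

/-- The members of the kernel. -/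
def kerObj (n : ℕ) : X.Modules := Formal.modPow I (n + 1) (imK α c (n + c))

/-- The projection onto the members of the kernel. -/
def kerObjπ (n : ℕ) : imK α c (n + c) ⟶ kerObj I α c n := Formal.modPowπ I (n + 1) _

instance epi_kerObjπ (n : ℕ) : Epi (kerObjπ I α c n) := coequalizer.π_epi

lemma killedBy_kerObj (n : ℕ) : Formal.KilledBy (I ^ (n + 1)) (kerObj I α c n) := killedBy_modPow _ _

/-- The transition maps of the kernel. -/
def kerTr (n : ℕ) : kerObj I α c (n + 1) ⟶ kerObj I α c n :=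
  cokernel.desc _ (imKMap α c (Nat.add_le_add_right (Nat.le_succ n) c) ≫ kerObjπ I α c n)
    (smulFamily_comp_eq_zero _ (killedBy_mono (Ideal.pow_le_pow_right (Nat.le_succ _)) (killedBy_kerObj I α c n)))

lemma π_kerTr (n : ℕ) : kerObjπ I α c (n + 1) ≫ kerTr I α c n =
    imKMap α c (Nat.add_le_add_right (Nat.le_succ n) c) ≫ kerObjπ I α c n :=
  cokernel.π_desc _ _ _

/-- The kernel system. -/
def kerF : ℕᵒᵖ ⥤ X.Modules := Functor.ofOpSequence (X := kerObj I α c) (kerTr I α c)

lemma kerF_trMap (n : ℕ) : trMap (kerF I α c) n = kerTr I α c n := Functor.ofOpSequence_map_homOfLE_succ _ _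

variable {I}

include hG in
lemma isCoh_kerObj (hH : Formal.IsCohFormal I H) (n : ℕ) :
    Coh.IsCoh (kerObj I α c n) :=
  isCoh_modPow I (isCoh_imK hG hH α c _) _

/-- The inclusion, on each member. -/
def kerιApp (n : ℕ) : kerObj I α c n ⟶ G.obj (op n) :=
  cokernel.desc _ (imKι α c (n + c) ≫ trLE G (Nat.le_add_right n c))
    (smulFamily_comp_eq_zero _ (hG.2.1 n))

lemma π_kerιApp (n : ℕ) : kerObjπ I α c n ≫ kerιApp hG α c n = imKι α c (n + c) ≫ trLE G (Nat.le_add_right n c) :=
  cokernel.π_desc _ _ _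

/-- The inclusion. -/
def kerι : kerF I α c ⟶ G :=
  NatTrans.ofOpSequence (kerιApp hG α c) fun n => by
    have key : kerTr I α c n ≫ kerιApp hG α c n = kerιApp hG α c (n + 1) ≫ trMap G n := by
      apply (cancel_epi (kerObjπ I α c (n + 1))).1
      rw [reassoc_of% (π_kerTr I α c n), π_kerιApp, reassoc_of% (imKMap_ι α c (Nat.add_le_add_right (Nat.le_succ n) c)),
        reassoc_of% (π_kerιApp hG α c (n + 1)), ← trLE_succ]
      exact congrArg (fun t => imKι α c (n + 1 + c) ≫ t) ((trLE_comp G _ _).trans (trLE_comp G _ _).symm)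
    exact (congrArg (fun t => t ≫ kerιApp hG α c n) (kerF_trMap I α c n)).trans key

lemma kerι_app (n : ℕ) : (kerι hG α c).app (op n) = kerιApp hG α c n := rfl

lemma kerι_comp : kerι hG α c ≫ α = 0 := by
  ext ⟨n⟩ : 2
  show kerιApp hG α c n ≫ α.app (op n) = 0
  apply (cancel_epi (kerObjπ I α c n)).1
  rw [comp_zero, ← Category.assoc, π_kerιApp]
  apply (cancel_epi (imKπ α c (n + c))).1
  rw [comp_zero, ← Category.assoc, ← Category.assoc, imKπ_ι]
  simp only [Category.assoc]
  rw [trLE_natural, ← Category.assoc (trLE G _), trLE_natural, Category.assoc, ← Category.assoc, kernel.condition, zero_comp]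

section Local

variable {hG hH α c} {U : X.Opens} {hU : IsAffineOpen U} (hb : KerBound hG hH hU α c)

include hb in
lemma exists_imK_iff (n : ℕ) (x : Γ(G.obj (op n), U)) :
    (∃ y, (imKι α c n).app U y = x) ↔ ∃ z ∈ limKer hG hH hU α, (secSys hG hU).proj n z = x := by
  constructor
  · rintro ⟨y, rfl⟩
    have := (hG.1 n).1
    have := (hG.1 (n + c)).1
    have := (hH.1 (n + c)).1
    have := QCohLib.isQCoh_kernel (α.app (op (n + c)))
    have := (isCoh_imK hG hH α c n).1
    obtain ⟨w, rfl⟩ := app_surjective_of_epi (imKπ α c n) hU y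
    obtain ⟨z, hz, hzx⟩ := hb.lift n ((kernel.ι (α.app (op (n + c)))).app U w)
      ((congrArg (fun t : kernel (α.app (op (n + c))) ⟶ _ => t.app U w) (kernel.condition (α.app (op (n + c))))).trans rfl)
    refine ⟨z, hz, hzx.trans ?_⟩
    exact (congrArg (fun t : kernel (α.app (op (n + c))) ⟶ _ => t.app U w) (imKπ_ι α c n)).symm
  · rintro ⟨z, hz, rfl⟩
    have h0 : (α.app (op (n + c))).app U ((secSys hG hU).proj (n + c) z) = 0 := by
      have := congrArg ((secSys hH hU).proj (n + c)) (LinearMap.mem_ker.1 hz)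
      rwa [map_zero] at this
    obtain ⟨w, hw⟩ := QCohLib.exists_of_app_eq_zero
      (ShortComplex.exact_of_f_is_kernel (ShortComplex.mk _ _ (kernel.condition (α.app (op (n + c)))))
        (kernelIsKernel _)) (inferInstanceAs (Mono (kernel.ι _))) _ h0
    refine ⟨(imKπ α c n).app U w, ?_⟩
    refine (congrArg (fun t : kernel (α.app (op (n + c))) ⟶ _ => t.app U w) (imKπ_ι α c n)).trans ?_
    show (trLE G _).app U ((kernel.ι (α.app (op (n + c)))).app U w) = _
    rw [← proj_trLE hG hU (Nat.le_add_right n c) z]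
    exact congrArg _ hw

/-- Lifting kernel elements to the images. -/
def liftIm (n : ℕ) : limKer hG hH hU α →ₗ[Γ(X, U)] Γ(imK α c n, U) :=
  (LinearEquiv.ofInjective (QCohLib.appLin (imKι α c n) U)
    (QCohLib.app_injective_of_mono (imKι α c n) U)).symm.toLinearMap.comp
    (LinearMap.codRestrict _ (((secSys hG hU).proj n).comp (limKer hG hH hU α).subtype)
      fun z => (exists_imK_iff hb n _).2 ⟨z.1, z.2, rfl⟩)

lemma ι_liftIm (n : ℕ) (z : limKer hG hH hU α) :
    (imKι α c n).app U (liftIm hb n z) = (secSys hG hU).proj n z.1 := by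
  have := LinearEquiv.ofInjective_symm_apply (h := QCohLib.app_injective_of_mono (imKι α c n) U)
    (f := QCohLib.appLin (imKι α c n) U) ⟨(secSys hG hU).proj n z.1, (exists_imK_iff hb n _).2 ⟨z.1, z.2, rfl⟩⟩
  exact this

lemma liftIm_surjective (n : ℕ) : Function.Surjective (liftIm hb n) := fun y => by
  obtain ⟨z, hz, hzy⟩ := (exists_imK_iff hb n _).1 ⟨y, rfl⟩
  exact ⟨⟨z, hz⟩, QCohLib.app_injective_of_mono (imKι α c n) U ((ι_liftIm hb n _).trans hzy)⟩

/-- Kernel elements in the members of the kernel. -/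
def projK (n : ℕ) : limKer hG hH hU α →ₗ[Γ(X, U)] Γ(kerObj I α c n, U) :=
  (QCohLib.appLin (kerObjπ I α c n) U).comp (liftIm hb (n + c))

lemma kerι_projK (n : ℕ) (z : limKer hG hH hU α) :
    (kerιApp hG α c n).app U (projK hb n z) = (secSys hG hU).proj n z.1 := by
  refine (congrArg (fun t : imK α c (n + c) ⟶ _ => t.app U (liftIm hb (n + c) z)) (π_kerιApp hG α c n)).trans ?_
  refine (congrArg _ (ι_liftIm hb (n + c) z)).trans ?_
  exact proj_trLE hG hU _ z.1

lemma tr_projK (n : ℕ) (z : limKer hG hH hU α) :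
    (kerTr I α c n).app U (projK hb (n + 1) z) = projK hb n z := by
  refine (congrArg (fun t : imK α c (n + 1 + c) ⟶ _ => t.app U (liftIm hb (n + 1 + c) z)) (π_kerTr I α c n)).trans ?_
  refine congrArg ((kerObjπ I α c n).app U) (QCohLib.app_injective_of_mono (imKι α c (n + c)) U ?_)
  refine (congrArg (fun t : imK α c (n + 1 + c) ⟶ _ => t.app U (liftIm hb (n + 1 + c) z))
    (imKMap_ι α c (Nat.add_le_add_right (Nat.le_succ n) c))).trans ?_
  refine (congrArg _ (ι_liftIm hb (n + 1 + c) z)).trans ?_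
  exact (proj_trLE hG hU _ z.1).trans (ι_liftIm hb (n + c) z).symm

lemma projK_surjective (n : ℕ) : Function.Surjective (projK hb n) := fun k => by
  have := (isCoh_imK hG hH α c (n + c)).1
  obtain ⟨y, rfl⟩ := app_modPowπ_surjective I (imK α c (n + c)) (n + 1) hU k
  obtain ⟨z, rfl⟩ := liftIm_surjective hb (n + c) y
  exact ⟨z, rfl⟩

lemma ker_projK (n : ℕ) :
    LinearMap.ker (projK hb n) = idU I U ^ (n + 1) • (⊤ : Submodule Γ(X, U) (limKer hG hH hU α)) := by
  have := noethRing hU
  have := (isCoh_imK hG hH α c (n + c)).1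
  refine le_antisymm (fun z hz => ?_) (fun z hz => ?_)
  · have h1 := (app_modPowπ_eq_zero I (imK α c (n + c)) (n + 1) hU (liftIm hb (n + c) z)).1 (by exact hz)
    rw [← LinearMap.range_eq_top.2 (liftIm_surjective hb (n + c)), LinearMap.range_eq_map,
      ← Submodule.map_smul''] at h1
    obtain ⟨z', hz', hzz⟩ := h1
    have h2 : (secSys hG hU).proj (n + c) (z - z').1 = 0 := by
      show (secSys hG hU).proj (n + c) (z.1 - z'.1) = 0
      rw [map_sub, ← ι_liftIm hb, ← ι_liftIm hb, hzz]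
      exact sub_self _
    have h3 := hb.small n _ (z - z').2 (by rw [← AdSys.ker_proj]; exact LinearMap.mem_ker.2 h2)
    have h4 : z - z' ∈ (idU I U ^ (n + 1) • (⊤ : Submodule Γ(X, U) (limKer hG hH hU α))) := by
      refine (Submodule.mem_smul_top_iff _ _ _).2 ?_
      exact h3
    have h5 := add_mem h4 hz'
    exact (sub_add_cancel z z') ▸ h5
  · refine LinearMap.mem_ker.2 ?_
    have h1 := Submodule.mem_map_of_mem (f := liftIm hb (n + c)) hz
    rw [Submodule.map_smul''] at h1
    exact (app_modPowπ_eq_zero I (imK α c (n + c)) (n + 1) hU _).2 (Submodule.smul_mono le_rfl le_top h1)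

end Local

variable {ι : Type*} (V : ι → X.Opens) (hV : ∀ i, IsAffineOpen (V i)) (hcov : ∀ x : X, ∃ i, x ∈ V i)
  (hb : ∀ i, KerBound hG hH (hV i) α c)

lemma smulFamily_kerTr (n : ℕ) : Formal.smulFamily (I ^ (n + 1)) (kerObj I α c (n + 1)) ≫ kerTr I α c n = 0 :=
  smulFamily_comp_eq_zero _ (killedBy_kerObj I α c n)

lemma desc_kerTr_π (n : ℕ) :
    Formal.modPowπ I (n + 1) (kerObj I α c (n + 1)) ≫ cokernel.desc _ (kerTr I α c n) (smulFamily_kerTr α c n) =
      kerTr I α c n :=
  cokernel.π_desc _ _ _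

variable {U : X.Opens} {hU : IsAffineOpen U}

include hG hH in
lemma desc_kerTr_bijective (hb : KerBound hG hH hU α c) (n : ℕ) :
    Function.Bijective ((cokernel.desc _ (kerTr I α c n) (smulFamily_kerTr α c n)).app U) := by
  have := noethRing hU
  have : Coh.IsQCoh (kerObj I α c (n + 1)) := (isCoh_kerObj hG α c hH (n + 1)).1
  have hd : ∀ k, (cokernel.desc _ (kerTr I α c n) (smulFamily_kerTr α c n)).app U
      ((Formal.modPowπ I (n + 1) (kerObj I α c (n + 1))).app U k) = (kerTr I α c n).app U k := fun k =>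
    congrArg (fun t : kerObj I α c (n + 1) ⟶ kerObj I α c n => t.app U k) (desc_kerTr_π α c n)
  refine ⟨(injective_iff_map_eq_zero _).2 fun x hx => ?_, fun k => ?_⟩
  · obtain ⟨k, rfl⟩ := app_modPowπ_surjective I (kerObj I α c (n + 1)) (n + 1) hU x
    obtain ⟨w, rfl⟩ := projK_surjective hb (n + 1) k
    rw [hd, tr_projK hb] at hx
    refine (app_modPowπ_eq_zero I _ _ hU _).2 ?_
    have hw := (ker_projK hb n).le (LinearMap.mem_ker.2 hx)
    have h1 := Submodule.mem_map_of_mem (f := projK hb (n + 1)) hw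
    rw [Submodule.map_smul''] at h1
    exact Submodule.smul_mono le_rfl le_top h1
  · obtain ⟨w, rfl⟩ := projK_surjective hb n k
    exact ⟨_, (hd _).trans (tr_projK hb n w)⟩

lemma isIso_desc_congr {Z W : X.Modules} {J : Ideal A} (t t' : Z ⟶ W) (e : t = t')
    (h' : Formal.smulFamily J Z ≫ t' = 0) [IsIso (cokernel.desc _ t' h')] :
    ∃ h : Formal.smulFamily J Z ≫ t = 0, IsIso (cokernel.desc _ t h) := by
  subst e; exact ⟨h', inferInstance⟩

include hG hH hV hcov hb in
/-- The kernel system is formal. -/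
theorem isCohFormal_kerF : Formal.IsCohFormal I (kerF I α c) := by
  refine ⟨isCoh_kerObj hG α c hH, killedBy_kerObj I α c, fun n => ?_⟩
  have := (isCoh_kerObj hG α c hH n).1
  have : Coh.IsQCoh (kerObj I α c (n + 1)) := (isCoh_kerObj hG α c hH (n + 1)).1
  have : Coh.IsQCoh (cokernel (Formal.smulFamily (I ^ (n + 1)) (kerObj I α c (n + 1)))) :=
    isQCoh_modPow I (kerObj I α c (n + 1)) (n + 1)
  have hi : IsIso (cokernel.desc _ (kerTr I α c n) (smulFamily_kerTr α c n)) :=
    isIso_of_bijective_cover V hV hcov _ fun i => desc_kerTr_bijective hG hH α c (hb i) n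
  exact @isIso_desc_congr A _ X _ _ (kerObj I α c (n + 1)) (kerObj I α c n) (I ^ (n + 1)) _ _
    (kerF_trMap I α c n) (smulFamily_kerTr α c n) hi

variable (hK : Formal.IsCohFormal I (kerF I α c))

include hb in
/-- **Exactness on the limits.** -/
theorem kerι_lim (i : ι) :
    Function.Injective (secHom hK hG (hV i) (kerι hG α c)).lim ∧
      LinearMap.range (secHom hK hG (hV i) (kerι hG α c)).lim = limKer hG hH (hV i) α := by
  have := noethRing (hV i)
  refine ⟨(injective_iff_map_eq_zero _).2 fun k hk => AdSys.ext fun n => ?_, le_antisymm ?_ fun z hz => ?_⟩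
  · obtain ⟨w, hw⟩ := projK_surjective (hb i) (n + c) ((secSys hK (hV i)).proj (n + c) k)
    have h0 : (secSys hG (hV i)).proj (n + c) w.1 = 0 := by
      rw [← kerι_projK (hb i), hw]
      have := congrArg ((secSys hG (hV i)).proj (n + c)) hk
      rwa [map_zero] at this
    have h1 := (hb i).small n w.1 w.2 (by rw [← AdSys.ker_proj]; exact LinearMap.mem_ker.2 h0)
    have h2 : projK (hb i) n w = 0 := LinearMap.mem_ker.1 ((ker_projK (hb i) n).ge
      ((Submodule.mem_smul_top_iff _ _ _).2 h1))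
    rw [map_zero, ← proj_trLE hK (hV i) (Nat.le_add_right n c) k]
    refine (congrArg _ hw.symm).trans (Eq.trans ?_ h2)
    clear hw h0 h1 h2 hk
    suffices ∀ d, (trLE (kerF I α c) (Nat.le_add_right n d)).app (V i) (projK (hb i) (n + d) w) = projK (hb i) n w
      from this c
    intro d
    induction d with
    | zero => rw [show trLE (kerF I α c) (Nat.le_add_right n 0) = 𝟙 _ from trLE_self _ n]; rfl
    | succ d ih =>
      rw [show trLE (kerF I α c) (Nat.le_add_right n (d + 1)) = trMap (kerF I α c) (n + d) ≫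
        trLE (kerF I α c) (Nat.le_add_right n d) from (trLE_comp _ _ _).symm, kerF_trMap]
      exact (congrArg _ (tr_projK (hb i) (n + d) w)).trans ih
  · rintro _ ⟨k, rfl⟩
    refine LinearMap.mem_ker.2 (AdSys.ext fun n => ?_)
    rw [map_zero]
    exact congrArg (fun t : (kerF I α c).obj (op n) ⟶ H.obj (op n) => t.app (V i) ((secSys hK (hV i)).proj n k))
      (congrArg (fun t : kerF I α c ⟶ H => t.app (op n)) (kerι_comp hG α c))
  · let kz : (secSys hK (hV i)).L := ⟨fun n => projK (hb i) n ⟨z, hz⟩, fun n =>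
      (congrArg (fun t : kerObj I α c (n + 1) ⟶ kerObj I α c n => t.app (V i) (projK (hb i) (n + 1) ⟨z, hz⟩))
        (kerF_trMap I α c n)).trans (tr_projK (hb i) n ⟨z, hz⟩)⟩
    exact ⟨kz, AdSys.ext fun n => kerι_projK (hb i) n ⟨z, hz⟩⟩

variable {E : ℕᵒᵖ ⥤ X.Modules} (hE : Formal.IsCohFormal I E)

include hE in
/-- The universal property. -/
theorem exists_lift (β : E ⟶ G) (h : β ≫ α = 0) :
    ∃ γ : E ⟶ kerF I α c, γ ≫ kerι hG α c = β := by
  have h0 : ∀ m, β.app (op m) ≫ α.app (op m) = 0 := fun m => congrArg (fun t : E ⟶ H => t.app (op m)) h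
  let g : ∀ n, E.obj (op (n + c + c)) ⟶ kerObj I α c n := fun n =>
    kernel.lift _ (β.app (op (n + c + c))) (h0 _) ≫ imKπ α c (n + c) ≫ kerObjπ I α c n
  choose γ hγ using fun n =>
    exists_factor hE (show n ≤ n + c + c by omega) (killedBy_kerObj I α c n) (g n)
  have hgι : ∀ n, g n ≫ kerιApp hG α c n = β.app (op (n + c + c)) ≫ trLE G (show n ≤ n + c + c by omega) := by
    intro n
    simp only [g, Category.assoc, π_kerιApp]
    rw [← Category.assoc (imKπ α c (n + c)), imKπ_ι, Category.assoc, trLE_comp, ← Category.assoc, kernel.lift_ι]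
  refine ⟨NatTrans.ofOpSequence γ fun n => ?_, ?_⟩
  · have := epi_trLE hE (show n + 1 ≤ n + 1 + c + c by omega)
    apply (cancel_epi (trLE E (show n + 1 ≤ n + 1 + c + c by omega))).1
    have e : kernel.lift _ (β.app (op (n + 1 + c + c))) (h0 _) ≫ imKπ α c (n + 1 + c) ≫
        imKMap α c (Nat.add_le_add_right (Nat.le_succ n) c) =
        trLE E (show n + c + c ≤ n + 1 + c + c by omega) ≫ kernel.lift _ (β.app (op (n + c + c))) (h0 _) ≫
          imKπ α c (n + c) := by
      apply (cancel_mono (imKι α c (n + c))).1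
      simp only [Category.assoc, imKMap_ι]
      rw [imKπ_ι, reassoc_of% (imKπ_ι α c (n + 1 + c)), trLE_comp, ← Category.assoc, kernel.lift_ι,
        ← Category.assoc (kernel.lift _ _ _), kernel.lift_ι, ← Category.assoc, trLE_natural β, Category.assoc, trLE_comp]
    have k1 : (trLE E (show n + 1 ≤ n + 1 + c + c by omega) ≫ γ (n + 1)) ≫ kerTr I α c n =
        trLE E (show n + c + c ≤ n + 1 + c + c by omega) ≫ g n := by
      rw [hγ]
      simp only [g, Category.assoc]
      rw [π_kerTr, reassoc_of% e]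
    have k2 : (trLE E (show n + 1 ≤ n + 1 + c + c by omega) ≫ trMap E n) ≫ γ n =
        trLE E (show n + c + c ≤ n + 1 + c + c by omega) ≫ g n := by
      rw [← trLE_succ, trLE_comp, ← hγ, ← Category.assoc, trLE_comp]
    exact ((Category.assoc _ _ _).symm.trans k2).trans (k1.symm.trans ((Category.assoc _ _ _).trans
      (congrArg (fun t => trLE E _ ≫ γ (n + 1) ≫ t) (kerF_trMap I α c n).symm)))
  · ext ⟨n⟩ : 2
    show γ n ≫ kerιApp hG α c n = β.app (op n)
    have := epi_trLE hE (show n ≤ n + c + c by omega)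
    apply (cancel_epi (trLE E (show n ≤ n + c + c by omega))).1
    rw [← Category.assoc, hγ, hgι, trLE_natural β]

include hH hcov hb hE in
/-- The inclusion is a monomorphism among formal modules. -/
theorem hom_ext_ker (γ γ' : E ⟶ kerF I α c) (h : γ ≫ kerι hG α c = γ' ≫ kerι hG α c) : γ = γ' := by
  have hK := isCohFormal_kerF hG hH α c V hV hcov hb
  ext ⟨n⟩ : 2
  have := (hE.1 n).1
  refine hom_ext_cover V hV hcov _ _ fun i s => ?_
  have := noethRing (hV i)
  obtain ⟨w, rfl⟩ := (secSys hE (hV i)).proj_surjective n s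
  show (secSys hK (hV i)).proj n ((secHom hE hK (hV i) γ).lim w) =
    (secSys hK (hV i)).proj n ((secHom hE hK (hV i) γ').lim w)
  refine congrArg _ ((kerι_lim hG hH α c V hV hb hK i).1 (AdSys.ext fun m => ?_))
  exact congrArg (fun t : E.obj (op m) ⟶ G.obj (op m) => t.app (V i) ((secSys hE (hV i)).proj m w))
    (congrArg (fun t : E ⟶ G => t.app (op m)) h)

include hG hH in
omit α c in
/-- **Kernels exist and are exact on the limits.** -/
theorem exists_kernel (α : G ⟶ H) :
    ∃ (K : ℕᵒᵖ ⥤ X.Modules) (hK : Formal.IsCohFormal I K) (j : K ⟶ G), j ≫ α = 0 ∧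
      (∀ (E : ℕᵒᵖ ⥤ X.Modules), Formal.IsCohFormal I E → ∀ β : E ⟶ G, β ≫ α = 0 → ∃! γ : E ⟶ K, γ ≫ j = β) ∧
      ∀ (U : X.Opens) (hU : IsAffineOpen U), Function.Injective (secHom hK hG hU j).lim ∧
        LinearMap.range (secHom hK hG hU j).lim = limKer hG hH hU α := by
  classical
  obtain ⟨C, hC⟩ := exists_cover (X := X)
  have hcovC : ∀ D : Finset X.affineOpens, C ⊆ D → ∀ x : X, ∃ V : D, x ∈ V.1.1 := fun D hD x => by
    obtain ⟨W, hW, hx⟩ := hC x
    exact ⟨⟨W, hD hW⟩, hx⟩
  obtain ⟨c, hc⟩ := exists_kerBound_finset hG hH α C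
  have hK := isCohFormal_kerF hG hH α c (fun V : C => V.1.1) (fun V => V.1.2) (hcovC C subset_rfl)
    fun V => hc V.1 V.2
  have hu : ∀ (D : Finset X.affineOpens) (_ : C ⊆ D) (d : ℕ) (_ : ∀ V ∈ D, KerBound hG hH V.2 α d)
      (E : ℕᵒᵖ ⥤ X.Modules), Formal.IsCohFormal I E → ∀ β : E ⟶ G, β ≫ α = 0 →
        ∃! γ : E ⟶ kerF I α d, γ ≫ kerι hG α d = β := fun D hD d hd E hE β hβ => by
    obtain ⟨γ, hγ⟩ := exists_lift hG α d hE β hβ
    exact ⟨γ, hγ, fun γ' hγ' => hom_ext_ker hG hH α d (fun V : D => V.1.1) (fun V => V.1.2) (hcovC D hD)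
      (fun V => hd V.1 V.2) hE γ' γ (hγ'.trans hγ.symm)⟩
  refine ⟨kerF I α c, hK, kerι hG α c, kerι_comp hG α c, hu C subset_rfl c hc, fun U hU => ?_⟩
  let D := insert (⟨U, hU⟩ : X.affineOpens) C
  obtain ⟨d, hd⟩ := exists_kerBound_finset hG hH α D
  have hKd := isCohFormal_kerF hG hH α d (fun V : D => V.1.1) (fun V => V.1.2) (hcovC D (Finset.subset_insert _ _))
    fun V => hd V.1 V.2
  obtain ⟨hinj, hrange⟩ := kerι_lim hG hH α d (fun V : D => V.1.1) (fun V => V.1.2) (fun V => hd V.1 V.2) hKd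
    ⟨⟨U, hU⟩, Finset.mem_insert_self _ _⟩
  obtain ⟨a, ha, -⟩ := hu D (Finset.subset_insert _ _) d hd _ hK (kerι hG α c) (kerι_comp hG α c)
  obtain ⟨b, hb', -⟩ := hu C subset_rfl c hc _ hKd (kerι hG α d) (kerι_comp hG α d)
  have hab : a ≫ b = 𝟙 _ := (hu C subset_rfl c hc _ hK (kerι hG α c) (kerι_comp hG α c)).unique
    (by rw [Category.assoc, hb', ha]) (Category.id_comp _)
  have hba : b ≫ a = 𝟙 _ := (hu D (Finset.subset_insert _ _) d hd _ hKd (kerι hG α d) (kerι_comp hG α d)).unique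
    (by rw [Category.assoc, ha, hb']) (Category.id_comp _)
  have e : ∀ x, (secHom hKd hG hU (kerι hG α d)).lim ((secHom hK hKd hU a).lim x) =
      (secHom hK hG hU (kerι hG α c)).lim x := fun x => AdSys.ext fun n =>
    congrArg (fun t : (kerF I α c).obj (op n) ⟶ G.obj (op n) => t.app U ((secSys hK hU).proj n x))
      (congrArg (fun t : kerF I α c ⟶ G => t.app (op n)) ha)
  have e2 : ∀ x, (secHom hK hKd hU a).lim ((secHom hKd hK hU b).lim x) = x := fun x => AdSys.ext fun n =>
    congrArg (fun t : (kerF I α d).obj (op n) ⟶ (kerF I α d).obj (op n) => t.app U ((secSys hKd hU).proj n x))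
      (congrArg (fun t : kerF I α d ⟶ kerF I α d => t.app (op n)) hba)
  have e1 : ∀ x, (secHom hKd hK hU b).lim ((secHom hK hKd hU a).lim x) = x := fun x => AdSys.ext fun n =>
    congrArg (fun t : (kerF I α c).obj (op n) ⟶ (kerF I α c).obj (op n) => t.app U ((secSys hK hU).proj n x))
      (congrArg (fun t : kerF I α c ⟶ kerF I α c => t.app (op n)) hab)
  refine ⟨fun x y hxy => ?_, ?_⟩
  · rw [← e, ← e] at hxy
    have := congrArg (secHom hKd hK hU b).lim (hinj hxy)
    rwa [e1, e1] at this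
  · rw [← hrange]
    refine le_antisymm ?_ ?_
    · rintro _ ⟨x, rfl⟩; exact ⟨_, e x⟩
    · rintro _ ⟨x, rfl⟩; exact ⟨(secHom hKd hK hU b).lim x, by rw [← e, e2]⟩

end FormalCohLib

end
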