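import Groth.Agent.FormalCohLib.ClosedAlg
import Mathlib.AlgebraicGeometry.ZariskisMainTheorem

/-!
# Algebraisation of formal morphisms
-/

set_option autoImplicit false

noncomputable section

universe u

open CategoryTheory CategoryTheory.Limits AlgebraicGeometry TopologicalSpace Opposite

namespace FormalCohLib

variable {A : Type u} [CommRing A] [IsNoetherianRing A] (I : Ideal A) [IsAdicComplete I A]

/-- A closed subscheme of a proper scheme over a complete ring containing all the thickenings is everything. -/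
theorem isIso_of_ker_le {X W : Scheme.{u}} [X.Over (Spec (CommRingCat.of A))]
    [IsProper (X ↘ Spec (CommRingCat.of A))] (c : W ⟶ X) [IsClosedImmersion c]
    (h : ∀ n, c.ker ≤ idSheaf I ^ (n + 1)) : IsIso c := by
  have : IsLocallyNoetherian X := LocallyOfFiniteType.isLocallyNoetherian (X ↘ Spec (CommRingCat.of A))
  have : CompactSpace X := QuasiCompact.compactSpace_of_compactSpace (X ↘ Spec (CommRingCat.of A))
  have : AlgebraicGeometry.IsNoetherian X := {}
  let O := Coh.structureModule X
  have hO : Coh.IsCoh O := DevissLib.isCoh_structureModule X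
  have := hO.1
  let q := quotKπ c.ker O
  have : Coh.IsQCoh ((quotK c.ker).obj O) := isQCoh_quotK c.ker O
  have hF : Coh.IsCoh (kernel q) := QCohLib.isCoh_kernel q hO this
  have := hF.1
  have h0 : ∀ n, kernel.ι q ≫ Formal.modPowπ I (n + 1) O = 0 := fun n => by
    refine HomCohLib.eq_zero_of_app _ (fun U : X.affineOpens => U.1) (fun U => U.2) (fun x => ?_) fun U s => ?_
    · obtain ⟨U, hU, hx⟩ := QCohLib.exists_affine_nhd x
      exact ⟨⟨U, hU⟩, hx⟩
    · refine (app_modPowπ_eq_zero I O (n + 1) U.2 _).2 ?_
      have h1 : q.app U.1 ((kernel.ι q).app U.1 s) = 0 :=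
        congrArg (fun t : kernel q ⟶ (quotK c.ker).obj O => t.app U.1 s) (kernel.condition q)
      have h2 := h n U ((app_quotKπ_unit_eq_zero c.ker U.2 _).1 h1)
      rw [idSheaf_pow_ideal] at h2
      have h3 := Submodule.smul_mem_smul h2
        (Submodule.mem_top : (show Γ(O, U.1) from (1 : Γ(X, U.1))) ∈ (⊤ : Submodule Γ(X, U.1) Γ(O, U.1)))
      exact Eq.mp (congrArg (· ∈ _) (mul_one (show Γ(X, U.1) from (kernel.ι q).app U.1 s))) h3
  have hι : kernel.ι q = 0 := by
    have hs : ClSub.IsProperOver (X ↘ Spec (CommRingCat.of A)) (CohB1.support (kernel q) ∩ CohB1.support O) :=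
      ⟨(QCohLib.isClosed_support _ hF.2).inter (QCohLib.isClosed_support _ hO.2), inferInstance⟩
    refine (HomCohLib.existsUnique_of_completion_hom I hF hO hs 0).unique (fun n => ?_) fun n => ?_
    · rw [h0 n]; exact comp_zero
    · rw [zero_comp]; exact comp_zero
  have hbot : c.ker = ⊥ := by
    refine Scheme.IdealSheafData.ext (funext fun U => ?_)
    rw [Scheme.IdealSheafData.ideal_bot]
    refine eq_bot_iff.2 fun a ha => (Submodule.mem_bot _).2 ?_
    obtain ⟨s, hs⟩ := QCohLib.exists_of_app_eq_zero
      (ShortComplex.exact_of_f_is_kernel (ShortComplex.mk _ _ (kernel.condition q)) (kernelIsKernel _))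
      (inferInstanceAs (Mono (kernel.ι q))) (show Γ(O, U.1) from a) ((app_quotKπ_unit_eq_zero c.ker U.2 a).2 ha)
    refine Eq.trans hs.symm ?_
    exact congrArg (fun t : kernel q ⟶ O => t.app U.1 s) hι
  exact IsClosedImmersion.isIso_iff_ker_eq_bot.2 hbot

/-- A proper morphism to a proper scheme which is the identity on all thickenings is an isomorphism. -/
theorem isIso_of_thick {X W : Scheme.{u}} (f : X ⟶ Spec (CommRingCat.of A)) [IsProper f] (p : W ⟶ X) [IsProper p]
    (w : ∀ n, CohB1.thick f I n ⟶ W) (hw : ∀ n, IsPullback (w n) (𝟙 _) p (CohB1.thickι f I n)) : IsIso p := by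
  letI : X.Over (Spec (CommRingCat.of A)) := ⟨f⟩
  have : IsProper (X ↘ Spec (CommRingCat.of A)) := ‹IsProper f›
  letI : (pullback p p).Over (Spec (CommRingCat.of A)) := ⟨pullback.fst p p ≫ p ≫ f⟩
  have : IsProper (pullback p p ↘ Spec (CommRingCat.of A)) :=
    inferInstanceAs (IsProper (pullback.fst p p ≫ p ≫ f))
  have hker : ∀ n, (pullback.diagonal p).ker ≤ idSheaf I ^ (n + 1) := fun n => by
    rw [← ker_thickι I (X := pullback p p) n]
    let ι₂ := CohB1.thickι (pullback p p ↘ Spec (CommRingCat.of A)) I n
    let c : CohB1.thick (pullback p p ↘ Spec (CommRingCat.of A)) I n ⟶ CohB1.thick f I n :=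
      pullback.lift (ι₂ ≫ pullback.fst p p ≫ p) (CohB1.thickToBase _ I n) (by
        rw [Category.assoc, Category.assoc]
        exact pullback.condition)
    have hc : c ≫ CohB1.thickι f I n = ι₂ ≫ pullback.fst p p ≫ p := pullback.lift_fst _ _ _
    have key : ∀ a : CohB1.thick (pullback p p ↘ Spec (CommRingCat.of A)) I n ⟶ W,
        a ≫ p = c ≫ CohB1.thickι f I n → a = c ≫ w n := fun a ha => by
      have e := (hw n).lift_snd a c ha
      rw [Category.comp_id] at e
      exact ((hw n).lift_fst a c ha).symm.trans (congrArg (· ≫ w n) e)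
    have h1 : ι₂ ≫ pullback.fst p p = c ≫ w n := key _ (by rw [hc, Category.assoc])
    have h2 : ι₂ ≫ pullback.snd p p = c ≫ w n :=
      key _ (by rw [hc, Category.assoc, ← pullback.condition])
    have h3 : (ι₂ ≫ pullback.fst p p) ≫ pullback.diagonal p = ι₂ := by
      apply pullback.hom_ext
      · rw [Category.assoc, pullback.diagonal_fst, Category.comp_id]
      · rw [Category.assoc, pullback.diagonal_snd, Category.comp_id, h1, h2]
    have := Scheme.Hom.le_ker_comp (ι₂ ≫ pullback.fst p p) (pullback.diagonal p)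
    rwa [h3] at this
  have : IsIso (pullback.diagonal p) := isIso_of_ker_le I (pullback.diagonal p) hker
  have hfs : pullback.fst p p = pullback.snd p p := by
    rw [← cancel_epi (pullback.diagonal p), pullback.diagonal_fst, pullback.diagonal_snd]
  have : Mono p := ⟨fun g h e => by
    rw [← pullback.lift_fst g h e, hfs, pullback.lift_snd]⟩
  have : IsClosedImmersion p := (IsClosedImmersion.iff_isProper_and_mono p).2 ⟨inferInstance, inferInstance⟩
  refine isIso_of_ker_le I p fun n => ?_
  rw [← ker_thickι I (X := X) n]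
  have := Scheme.Hom.le_ker_comp (w n) p
  rwa [(hw n).w, Category.id_comp] at this

/-- **Formal morphisms from a proper scheme are algebraic.** -/
theorem exists_morphism {X Y : Scheme.{u}} (f : X ⟶ Spec (CommRingCat.of A)) (h : Y ⟶ Spec (CommRingCat.of A))
    [IsProper f] [IsSeparated h] [LocallyOfFiniteType h] [QuasiCompact h]
    (g : (n : ℕ) → (CohB1.thick f I n ⟶ CohB1.thick h I n))
    (hg₁ : ∀ n, g n ≫ CohB1.thickToBase h I n = CohB1.thickToBase f I n)
    (hg₂ : ∀ n, CohB1.thickTrans f I n ≫ g (n + 1) = g n ≫ CohB1.thickTrans h I n) :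
    ∃ φ : X ⟶ Y, φ ≫ h = f ∧ ∀ n, CohB1.thickι f I n ≫ φ = g n ≫ CohB1.thickι h I n := by
  let F : pullback f h ⟶ Spec (CommRingCat.of A) := pullback.fst f h ≫ f
  let a : ∀ n, CohB1.thick f I n ⟶ pullback f h := fun n =>
    pullback.lift (CohB1.thickι f I n) (g n ≫ CohB1.thickι h I n) (by
      refine Eq.trans ?_ (Category.assoc (g n) (CohB1.thickι h I n) h).symm
      refine (pullback.condition (f := f) (g := CohB1.specQuot I n)).trans ?_
      refine Eq.trans ?_ (congrArg (g n ≫ ·) (pullback.condition (f := h) (g := CohB1.specQuot I n)).symm)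
      refine Eq.trans ?_ (Category.assoc _ _ _)
      exact congrArg (· ≫ CohB1.specQuot I n) (hg₁ n).symm)
  let z : ∀ n, CohB1.thick f I n ⟶ CohB1.thick F I n := fun n =>
    pullback.lift (a n) (CohB1.thickToBase f I n) (by
      show a n ≫ pullback.fst f h ≫ f = _
      rw [pullback.lift_fst_assoc]
      exact pullback.condition)
  have hz₁ : ∀ n, z n ≫ CohB1.thickι F I n = a n := fun n => pullback.lift_fst _ _ _
  have hz₂ : ∀ n, z n ≫ CohB1.thickToBase F I n = CohB1.thickToBase f I n := fun n => pullback.lift_snd _ _ _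
  have hzc : ∀ n, IsClosedImmersion (z n) := fun n => by
    have e : (z n ≫ CohB1.thickι F I n) ≫ pullback.fst f h = CohB1.thickι f I n := by
      rw [hz₁]; exact pullback.lift_fst _ _ _
    have : IsClosedImmersion ((z n ≫ CohB1.thickι F I n) ≫ pullback.fst f h) := by rw [e]; infer_instance
    have : IsClosedImmersion (z n ≫ CohB1.thickι F I n) := IsClosedImmersion.of_comp _ (pullback.fst f h)
    exact IsClosedImmersion.of_comp (z n) (CohB1.thickι F I n)
  have hsq : ∀ n, IsPullback (CohB1.thickTrans f I n) (z n) (z (n + 1)) (CohB1.thickTrans F I n) := fun n => by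
    have hbase : ∀ {Z : Scheme.{u}} (k : Z ⟶ Spec (CommRingCat.of A)),
        IsPullback (CohB1.thickTrans k I n) (CohB1.thickToBase k I n) (CohB1.thickToBase k I (n + 1))
          (CohB1.specQuotTrans I n) := fun k => by
      refine IsPullback.of_right ?_ (pullback.lift_snd _ _ _) (IsPullback.of_hasPullback k (CohB1.specQuot I (n + 1))).flip.flip
      rw [thickTrans_thickι, CohB1.specQuotTrans_specQuot]
      exact IsPullback.of_hasPullback k (CohB1.specQuot I n)
    have e : CohB1.thickTrans f I n ≫ z (n + 1) = z n ≫ CohB1.thickTrans F I n := by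
      apply pullback.hom_ext
      · show (CohB1.thickTrans f I n ≫ z (n + 1)) ≫ CohB1.thickι F I (n + 1) = (z n ≫ CohB1.thickTrans F I n) ≫ _
        rw [Category.assoc, hz₁, Category.assoc, thickTrans_thickι, hz₁]
        apply pullback.hom_ext
        · rw [Category.assoc, pullback.lift_fst, pullback.lift_fst]
          exact thickTrans_thickι I f n
        · rw [Category.assoc, pullback.lift_snd, pullback.lift_snd, ← Category.assoc, hg₂, Category.assoc,
            thickTrans_thickι]
      · show (CohB1.thickTrans f I n ≫ z (n + 1)) ≫ CohB1.thickToBase F I (n + 1) = (z n ≫ CohB1.thickTrans F I n) ≫ _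
        rw [Category.assoc, hz₂, Category.assoc, (hbase F).w, ← Category.assoc, hz₂]
        exact (hbase f).w
    refine IsPullback.of_bot ?_ e (hbase F)
    rw [hz₂, hz₂]
    exact hbase f
  have hp : IsProper (z 0 ≫ CohB1.thickToBase F I 0) := by
    rw [hz₂]
    exact MorphismProperty.pullback_snd _ _ inferInstance
  obtain ⟨W, i, w, hi, hiP, -, hwp⟩ :=
    exists_closed_subscheme I F (fun n => CohB1.thick f I n) z (fun n => CohB1.thickTrans f I n) hzc hsq hp
  let p : W ⟶ X := i ≫ pullback.fst f h
  have : IsProper (p ≫ f) := by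
    show IsProper ((i ≫ pullback.fst f h) ≫ f)
    rw [Category.assoc]
    exact hiP
  have : IsProper p := IsProper.of_comp p f
  have hwfst : ∀ n, w n ≫ p = CohB1.thickι f I n := fun n => by
    show w n ≫ i ≫ pullback.fst f h = _
    rw [← Category.assoc, (hwp n).w, hz₁]
    exact pullback.lift_fst _ _ _
  have hwid : ∀ n, IsPullback (w n) (𝟙 _) p (CohB1.thickι f I n) := fun n => by
    have h1 : IsPullback (w n) (CohB1.thickToBase f I n) (p ≫ f) (CohB1.specQuot I n) := by
      rw [← hz₂ n, show p ≫ f = i ≫ F from Category.assoc _ _ _]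
      exact (hwp n).paste_vert (IsPullback.of_hasPullback F (CohB1.specQuot I n))
    refine IsPullback.of_bot ?_ ((hwfst n).trans (Category.id_comp _).symm)
      (IsPullback.of_hasPullback f (CohB1.specQuot I n))
    rw [Category.id_comp]
    exact h1
  have : IsIso p := isIso_of_thick I f p w hwid
  refine ⟨inv p ≫ i ≫ pullback.snd f h, ?_, fun n => ?_⟩
  · rw [Category.assoc, IsIso.inv_comp_eq, Category.assoc, ← pullback.condition]
    exact (Category.assoc _ _ _).symm
  · rw [← hwfst n, Category.assoc, IsIso.hom_inv_id_assoc, ← Category.assoc, (hwp n).w, hz₁]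
    exact pullback.lift_snd _ _ _

end FormalCohLib

end
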