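import Mathlib.RingTheory.Filtration
import Mathlib.RingTheory.TensorProduct.Finite
import Mathlib.RingTheory.IsTensorProduct
import Mathlib.RingTheory.Localization.AtPrime.Basic
import Mathlib.Algebra.Module.LocalizedModule.Basic

/-!
# Detecting the vanishing of an element at a prime through the completion at a specialisation
-/

set_option autoImplicit false

universe u

open TensorProduct

namespace FormalCohLib

/-- An element of a module dies at a prime if its image in a Noetherian algebra is infinitely divisible near a point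
specialising it. -/
theorem exists_notMem_smul_eq_zero {R S L : Type u} [CommRing R] [CommRing S] [Algebra R S] [IsNoetherianRing S]
    [AddCommGroup L] [Module R L] [Module.Finite R L] (P : Ideal R) [P.IsPrime]
    (φ : S →ₐ[R] Localization.AtPrime P) (J : Ideal S) (Q : Ideal S) [Q.IsPrime] (hJ : J ≤ Q)
    (hφ : ∀ s : S, s ∉ Q → IsUnit (φ s)) (z : L)
    (hz : ∀ n : ℕ, (1 : S) ⊗ₜ[R] z ∈ J ^ n • (⊤ : Submodule S (S ⊗[R] L))) :
    ∃ t : R, t ∉ P ∧ t • z = 0 := by
  obtain ⟨r, hr⟩ := (J.mem_iInf_smul_pow_eq_bot_iff ((1 : S) ⊗ₜ[R] z)).mp ((Submodule.mem_iInf _).2 hz)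
  have hu : (1 - (r : S)) ∉ Q := fun h => (inferInstance : Q.IsPrime).ne_top
    ((Ideal.eq_top_iff_one _).2 (by simpa using Q.add_mem h (hJ r.2)))
  have h0 : (1 - (r : S)) • ((1 : S) ⊗ₜ[R] z) = 0 :=
    (sub_smul (1 : S) (r : S) _).trans (sub_eq_zero.2 ((one_smul S _).trans hr.symm))
  let g : L →ₗ[R] LocalizedModule P.primeCompl L := LocalizedModule.mkLinearMap P.primeCompl L
  let m : S →ₗ[R] L →ₗ[R] LocalizedModule P.primeCompl L :=
    LinearMap.mk₂ R (fun s l => φ s • g l) (fun a b l => by rw [map_add, add_smul])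
      (fun c a l => by rw [map_smul, smul_assoc]) (fun a l l' => by rw [map_add, smul_add])
      (fun c a l => by rw [map_smul, smul_comm])
  have h1 := congrArg (TensorProduct.lift m) h0
  rw [TensorProduct.smul_tmul', TensorProduct.lift.tmul, map_zero, smul_eq_mul, mul_one] at h1
  have h2 : g z = 0 := (hφ _ hu).smul_left_cancel.1 (h1.trans (smul_zero _).symm)
  obtain ⟨t, ht⟩ := LocalizedModule.mk_eq.1 (h2.trans (LocalizedModule.zero_mk (M := L) (1 : P.primeCompl)).symm)
  refine ⟨t, t.2, ?_⟩
  simpa [Submonoid.smul_def] using ht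

end FormalCohLib
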