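import Groth.Agent.DevissLib.KilledImm
import Groth.Agent.CycKSuppLib.Killed
import Groth.Agent.HomCohLib.Sec

/-!
# The kernel of the restriction to a closed subscheme
-/

set_option autoImplicit false

noncomputable section

universe u

open CategoryTheory CategoryTheory.Limits AlgebraicGeometry TopologicalSpace Opposite
open scoped TensorProduct
open ProjFormLib (ger ger_smul)

namespace FormalCohLib

/-- The kernel of `M → B ⊗ M` along a surjection. -/
lemma mem_ker_smul_of_one_tmul {A B : Type u} [CommRing A] [CommRing B] [Algebra A B]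
    {M : Type u} [AddCommGroup M] [Module A M] (hs : Function.Surjective (algebraMap A B))
    {m : M} (h : (1 : B) ⊗ₜ[A] m = 0) : m ∈ RingHom.ker (algebraMap A B) • (⊤ : Submodule A M) := by
  let P := RingHom.ker (algebraMap A B) • (⊤ : Submodule A M)
  have hc : ∀ (a a' : A), algebraMap A B a = algebraMap A B a' → ∀ x : M ⧸ P, a • x = a' • x := fun a a' h x => by
    obtain ⟨x, rfl⟩ := Submodule.Quotient.mk_surjective _ x
    rw [← Submodule.Quotient.mk_smul, ← Submodule.Quotient.mk_smul, Submodule.Quotient.eq, ← sub_smul]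
    exact Submodule.smul_mem_smul (by rw [RingHom.mem_ker, map_sub, h, sub_self]) trivial
  let g := Function.surjInv hs
  have hg : ∀ b, algebraMap A B (g b) = b := Function.surjInv_eq hs
  let L : B ⊗[A] M →ₗ[A] M ⧸ P := TensorProduct.lift (LinearMap.mk₂ A (fun b m => g b • Submodule.Quotient.mk m)
    (fun b b' m => by rw [← add_smul]; exact hc _ _ (by rw [map_add, hg, hg, hg]) _)
    (fun c b m => by rw [smul_smul]; exact hc _ _ (by rw [map_mul, hg, hg, Algebra.smul_def]) _)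
    (fun b m m' => by rw [Submodule.Quotient.mk_add, smul_add]) (fun c b m => by rw [Submodule.Quotient.mk_smul, smul_comm]))
  have h1 : g 1 • (Submodule.Quotient.mk m : M ⧸ P) = 0 := (congrArg L h).trans (map_zero L)
  rw [hc _ 1 (by rw [hg, map_one]), one_smul] at h1
  exact (Submodule.Quotient.mk_eq_zero _).1 h1

variable {Z X : Scheme.{u}} (i : Z ⟶ X) [IsClosedImmersion i] (M : X.Modules) [Coh.IsQCoh M]
  {U : X.Opens} (hU : IsAffineOpen U)

include hU in
/-- Functions killing a point of the subscheme come from the ideal, up to a unit. -/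
lemma exists_mem_ker (z : Z) (hz : i z ∈ U) (r : X.presheaf.stalk (i z)) (hr : i.stalkMap z r = 0) :
    ∃ (c b : Γ(X, U)), IsUnit (X.presheaf.germ U (i z) hz c) ∧ b ∈ i.ker.ideal ⟨U, hU⟩ ∧
      r * X.presheaf.germ U (i z) hz c = X.presheaf.germ U (i z) hz b := by
  let : Algebra Γ(X, U) (X.presheaf.stalk (i z)) := (X.presheaf.germ U (i z) hz).hom.toAlgebra
  have : IsLocalization.AtPrime (X.presheaf.stalk (i z)) (hU.primeIdealOf ⟨i z, hz⟩).asIdeal :=
    hU.isLocalization_stalk ⟨i z, hz⟩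
  obtain ⟨⟨b, c⟩, hbc⟩ := IsLocalization.surj (hU.primeIdealOf ⟨i z, hz⟩).asIdeal.primeCompl r
  have hc : IsUnit (X.presheaf.germ U (i z) hz c.1) := IsLocalization.map_units (X.presheaf.stalk (i z)) c
  have hbc' : r * X.presheaf.germ U (i z) hz c.1 = X.presheaf.germ U (i z) hz b := hbc
  have hV : IsAffineOpen (i ⁻¹ᵁ U) := hU.preimage i
  let : Algebra Γ(Z, i ⁻¹ᵁ U) (Z.presheaf.stalk z) := (Z.presheaf.germ (i ⁻¹ᵁ U) z hz).hom.toAlgebra
  have : IsLocalization.AtPrime (Z.presheaf.stalk z) (hV.primeIdealOf ⟨z, hz⟩).asIdeal :=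
    hV.isLocalization_stalk ⟨z, hz⟩
  have h0 : algebraMap Γ(Z, i ⁻¹ᵁ U) (Z.presheaf.stalk z) (i.app U b) = 0 := by
    show Z.presheaf.germ (i ⁻¹ᵁ U) z hz (i.app U b) = 0
    rw [← Scheme.Hom.germ_stalkMap_apply, ← hbc', map_mul, hr, zero_mul]
  obtain ⟨d', hd'⟩ := (IsLocalization.map_eq_zero_iff (hV.primeIdealOf ⟨z, hz⟩).asIdeal.primeCompl _ _).1 h0
  obtain ⟨d, hd⟩ := i.app_surjective U hU d'.1
  have hu : IsUnit (Z.presheaf.germ (i ⁻¹ᵁ U) z hz (i.app U d)) := by
    rw [hd]
    exact IsLocalization.map_units (Z.presheaf.stalk z) d'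
  refine ⟨d * c.1, d * b, ?_, ?_, ?_⟩
  · rw [map_mul]
    refine IsUnit.mul ?_ hc
    rw [← Scheme.Hom.germ_stalkMap_apply] at hu
    exact (isUnit_map_iff (i.stalkMap z).hom _).1 hu
  · rw [Scheme.Hom.ker_apply, RingHom.mem_ker, map_mul, hd]
    exact hd'
  · rw [map_mul, map_mul, ← hbc']
    ring

include hU in
/-- **A section restricting to zero on the closed subscheme lies in the multiples of the ideal.** -/
theorem mem_of_unit_app_eq_zero (x : Γ(M, U))
    (hx : ((Scheme.Modules.pullbackPushforwardAdjunction i).unit.app M).app U x = 0) :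
    x ∈ i.ker.ideal ⟨U, hU⟩ • (⊤ : Submodule Γ(X, U) Γ(M, U)) := by
  classical
  let Kid := i.ker.ideal ⟨U, hU⟩
  let N : Submodule Γ(X, U) Γ(M, U) := Kid • ⊤
  suffices hloc : ∀ (y : X) (hy : y ∈ U), ∃ g : Γ(X, U), IsUnit (X.presheaf.germ U y hy g) ∧ g • x ∈ N by
    by_contra hxN
    let T : Ideal Γ(X, U) := N.comap (LinearMap.toSpanSingleton Γ(X, U) Γ(M, U) x)
    have hT : T ≠ ⊤ := fun h => hxN (by
      have : (1 : Γ(X, U)) ∈ T := h ▸ Submodule.mem_top
      have h1 : x ∈ N := by simpa [T] using this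
      exact h1)
    obtain ⟨m, hm, hTm⟩ := Ideal.exists_le_maximal T hT
    let P : Spec Γ(X, U) := ⟨m, hm.isPrime⟩
    have hy : hU.fromSpec P ∈ U := hU.range_fromSpec.le ⟨P, rfl⟩
    obtain ⟨g, hg, hgx⟩ := hloc _ hy
    have hP : hU.primeIdealOf ⟨hU.fromSpec P, hy⟩ = P :=
      hU.fromSpec.isOpenEmbedding.injective (hU.fromSpec_primeIdealOf _)
    have hgm : g ∈ m := hTm (show g ∈ T by simpa [T] using hgx)
    let : Algebra Γ(X, U) (X.presheaf.stalk (hU.fromSpec P)) :=
      (X.presheaf.germ U (hU.fromSpec P) hy).hom.toAlgebra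
    have : IsLocalization.AtPrime (X.presheaf.stalk (hU.fromSpec P)) (hU.primeIdealOf ⟨hU.fromSpec P, hy⟩).asIdeal :=
      hU.isLocalization_stalk ⟨_, hy⟩
    have h1 := (IsLocalization.AtPrime.isUnit_to_map_iff (X.presheaf.stalk (hU.fromSpec P))
      (hU.primeIdealOf ⟨hU.fromSpec P, hy⟩).asIdeal g).1 hg
    rw [hP] at h1
    exact h1 hgm
  intro y hy
  by_cases hyr : y ∈ Set.range ⇑i
  · obtain ⟨z, rfl⟩ := hyr
    letI := (i.stalkMap z).hom.toAlgebra
    have h1 : ((KFlatLib.stalkPullIso i z).inv.app M).hom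
        ((1 : Z.presheaf.stalk z) ⊗ₜ[X.presheaf.stalk (i z)] M.presheaf.germ U (i z) hy x) = 0 := by
      refine (KFlatLib.stalkPullInv_germ i M z hy x).trans ?_
      refine (congrArg (((Scheme.Modules.pullback i).obj M).presheaf.germ (i ⁻¹ᵁ U) z hy) hx).trans ?_
      exact map_zero _
    have h2 : (1 : Z.presheaf.stalk z) ⊗ₜ[X.presheaf.stalk (i z)] M.presheaf.germ U (i z) hy x = 0 :=
      (ConcreteCategory.bijective_of_isIso ((KFlatLib.stalkPullIso i z).inv.app M)).1 (h1.trans (map_zero _).symm)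
    have h3 := mem_ker_smul_of_one_tmul (i.stalkMap_surjective z) h2
    have key : ∀ a ∈ RingHom.ker (algebraMap (X.presheaf.stalk (i z)) (Z.presheaf.stalk z)) •
        (⊤ : Submodule (X.presheaf.stalk (i z)) ((DerSch.stalkFunctor X (i z)).obj M)),
        ∃ (g : Γ(X, U)) (n : Γ(M, U)), IsUnit (X.presheaf.germ U (i z) hy g) ∧ n ∈ N ∧
          X.presheaf.germ U (i z) hy g • a = ger M (i z) hy n := by
      intro a ha
      refine Submodule.smul_induction_on ha (fun r hr v _ => ?_) ?_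
      · obtain ⟨c, b, hc, hb, hbc⟩ := exists_mem_ker i hU z hy r hr
        obtain ⟨g, m, hg, hgv⟩ := HomCohLib.exists_frac hU (i z) hy v
        refine ⟨c * g, b • m, by rw [map_mul]; exact hc.mul hg, Submodule.smul_mem_smul hb trivial, ?_⟩
        rw [map_mul, ger_smul, ← hgv, ← hbc]
        module
      · rintro a a' ⟨g, n, hg, hn, e⟩ ⟨g', n', hg', hn', e'⟩
        refine ⟨g * g', g' • n + g • n', by rw [map_mul]; exact hg.mul hg',
          add_mem (N.smul_mem _ hn) (N.smul_mem _ hn'), ?_⟩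
        rw [map_mul, ProjFormLib.ger_add, ger_smul, ger_smul, ← e, ← e']
        module
    obtain ⟨g, n, hg, hn, e⟩ := key _ h3
    have h4 : ger M (i z) hy (g • x - n) = 0 := by
      rw [sub_eq_add_neg, ProjFormLib.ger_add, ger_smul, CohCmpLib.ger_neg, add_neg_eq_zero]
      exact e
    obtain ⟨c, hc, hc0⟩ := HomCohLib.exists_kill hU (i z) hy _ h4
    refine ⟨c * g, by rw [map_mul]; exact hc.mul hg, ?_⟩
    rw [mul_smul, sub_eq_zero.1 ((smul_sub c (g • x) n).symm.trans hc0)]
    exact N.smul_mem _ hn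
  · obtain ⟨g, hgV, hyg⟩ := QCohLib.exists_basicOpen_nhd hU
      (V := ⟨(Set.range ⇑i)ᶜ, i.isClosedEmbedding.isClosed_range.isOpen_compl⟩) hyr hy
    have hnil : IsNilpotent (i.app U g) := by
      refine (Scheme.isNilpotent_iff_basicOpen_eq_bot_of_isCompact (hU.preimage i).isCompact _).2 ?_
      refine eq_bot_iff.2 fun q hq => ?_
      have : q ∈ i ⁻¹ᵁ X.basicOpen g := by rw [Scheme.preimage_basicOpen]; exact hq
      exact (hgV this ⟨q, rfl⟩).elim
    obtain ⟨k, hk⟩ := hnil
    have hgk : g ^ k ∈ Kid := by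
      show g ^ k ∈ i.ker.ideal ⟨U, hU⟩
      rw [Scheme.Hom.ker_apply, RingHom.mem_ker, map_pow]
      exact hk
    refine ⟨g ^ k, by rw [map_pow]; exact (HomCohLib.isUnit_germ hy hyg).pow k, Submodule.smul_mem_smul hgk trivial⟩

end FormalCohLib

end
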